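import Cfsg.Prelude.Def_Transfer
import Cfsg.Prelude.Def_PLocal
import Cfsg.Agent.Lib.PGroup.ElementaryAbelian
import Cfsg.Agent.Lib.Coprime.Basic

/-!
# The Thompson subgroup (elementary abelian version) and best offenders

`J(G) = thompsonSubgroup p G`, generated by the elementary abelian subgroups of largest order.

* `le_thompsonSubgroup`, `mem_of_commute_max`, `map_thompsonSubgroup`, `thompsonSubgroup_characteristic`,
  `thompsonSubgroup_ne_bot`
* `thompsonSubgroupOf_eq` (if `U` contains a member of largest order), `thompsonSubgroupOf_eq_of_le`,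
  `exists_max_le_sylow`, `thompsonSubgroupOf_sylow_le`, `thompsonSubgroup_eq_iSup_sylow`
* `omegaZ_le_max`: `Ω₁(Z(U)) ≤ A` for `A` of largest order inside `U`
* `isBestOffenderOn_of_max`
-/

set_option autoImplicit false

namespace Cfsg.Agent.Offender

open Subgroup

universe u

variable {G : Type u} [Group G] {p : ℕ}

/-- `|H N| |H ∩ N| = |H| |N|` when `H` normalizes `N`. -/
theorem card_sup_mul_card_inf {H N : Subgroup G} (h : H ≤ normalizer (N : Set G)) :
    Nat.card (H ⊔ N : Subgroup G) * Nat.card (H ⊓ N : Subgroup G) = Nat.card H * Nat.card N := by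
  have h1 := relIndex_mul_relIndex ⊥ N (H ⊔ N) bot_le le_sup_right
  have h2 := relIndex_mul_relIndex ⊥ (H ⊓ N) H bot_le inf_le_left
  rw [relIndex_bot_left, relIndex_bot_left, Coprime.relIndex_sup_right_of_le_normalizer h] at h1
  rw [relIndex_bot_left, relIndex_bot_left, inf_relIndex_left] at h2
  rw [← h1, ← h2]
  ring

theorem le_thompsonSubgroup {A : Subgroup G} (hA : A ∈ maxElementaryAbelianSubgroups p G) :
    A ≤ thompsonSubgroup p G :=
  le_sSup hA

theorem thompsonSubgroup_le_iff {K : Subgroup G} :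
    thompsonSubgroup p G ≤ K ↔ ∀ A ∈ maxElementaryAbelianSubgroups p G, A ≤ K :=
  sSup_le_iff

/-- An element of order dividing `p` commuting with a member of largest order lies in it. -/
theorem mem_of_commute_max [Finite G] {A : Subgroup G}
    (hA : A ∈ maxElementaryAbelianSubgroups p G) {x : G} (hx : x ^ p = 1)
    (hc : ∀ a ∈ A, a * x = x * a) : x ∈ A := by
  have hB : IsElementaryAbelian p (A ⊔ zpowers x) := by
    refine PGroup.isElementaryAbelian_sup hA.1 (PGroup.isElementaryAbelian_zpowers hx) ?_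
    rintro a ha _ ⟨n, rfl⟩
    exact (Commute.zpow_right (show Commute a x from hc a ha) n).eq
  have := Subgroup.eq_of_le_of_card_ge (le_sup_left (b := zpowers x)) (hA.2 _ hB)
  rw [this]
  exact mem_sup_right (mem_zpowers x)

theorem map_mem_max {H : Type u} [Group H] (e : G ≃* H) {A : Subgroup G}
    (hA : A ∈ maxElementaryAbelianSubgroups p G) :
    A.map e.toMonoidHom ∈ maxElementaryAbelianSubgroups p H := by
  refine ⟨PGroup.isElementaryAbelian_map hA.1 _, fun B hB => ?_⟩
  have h := hA.2 _ (PGroup.isElementaryAbelian_map hB e.symm.toMonoidHom)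
  rwa [card_map_of_injective (f := e.symm.toMonoidHom) e.symm.injective,
    ← card_map_of_injective (f := e.toMonoidHom) (K := A) e.injective] at h

theorem map_thompsonSubgroup {H : Type u} [Group H] (e : G ≃* H) :
    (thompsonSubgroup p G).map e.toMonoidHom = thompsonSubgroup p H := by
  refine le_antisymm ?_ ?_
  · rw [map_le_iff_le_comap, thompsonSubgroup_le_iff]
    intro A hA
    rw [← map_le_iff_le_comap]
    exact le_thompsonSubgroup (map_mem_max e hA)
  · rw [thompsonSubgroup_le_iff]
    intro B hB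
    intro x hx
    refine ⟨e.symm x, le_thompsonSubgroup (map_mem_max e.symm hB) ⟨x, hx, rfl⟩, ?_⟩
    simp

theorem thompsonSubgroup_characteristic : (thompsonSubgroup p G).Characteristic :=
  characteristic_iff_map_eq.mpr fun e => map_thompsonSubgroup e

theorem thompsonSubgroup_normal : (thompsonSubgroup p G).Normal :=
  have := thompsonSubgroup_characteristic (G := G) (p := p)
  inferInstance

theorem thompsonSubgroup_ne_bot [Finite G] [hp : Fact p.Prime] (h : p ∣ Nat.card G) :
    thompsonSubgroup p G ≠ ⊥ := by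
  intro hbot
  obtain ⟨A, hA⟩ := PGroup.exists_maxElementaryAbelian (G := G) (p := p)
  obtain ⟨x, hx⟩ := exists_prime_orderOf_dvd_card' p h
  have hA' : A = ⊥ := le_bot_iff.mp (hbot ▸ le_thompsonSubgroup hA)
  have := hA.2 (zpowers x) (PGroup.isElementaryAbelian_zpowers (hx ▸ pow_orderOf_eq_one x))
  rw [Nat.card_zpowers, hx, hA', Nat.card_eq_fintype_card] at this
  simp at this
  exact absurd this (not_le.mpr hp.out.one_lt)

/-! ### Subgroups containing a member of largest order -/

theorem map_subtype_mem_max {U : Subgroup G} {A : Subgroup G}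
    (hA : A ∈ maxElementaryAbelianSubgroups p G) (hAU : A ≤ U) {B : Subgroup U}
    (hB : B ∈ maxElementaryAbelianSubgroups p U) :
    B.map U.subtype ∈ maxElementaryAbelianSubgroups p G := by
  refine ⟨PGroup.isElementaryAbelian_map hB.1 _, fun C hC => ?_⟩
  rw [card_map_of_injective (f := U.subtype) U.subtype_injective]
  have hA' : IsElementaryAbelian p (A.subgroupOf U) :=
    PGroup.isElementaryAbelian_comap hA.1 U.subtype_injective
  have := hB.2 _ hA'
  rw [Coprime.card_subgroupOf hAU] at this
  exact (hA.2 C hC).trans this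

theorem subgroupOf_mem_max {U : Subgroup G} {A : Subgroup G}
    (hA : A ∈ maxElementaryAbelianSubgroups p G) (hAU : A ≤ U) :
    A.subgroupOf U ∈ maxElementaryAbelianSubgroups p U := by
  refine ⟨PGroup.isElementaryAbelian_comap hA.1 U.subtype_injective, fun B hB => ?_⟩
  rw [Coprime.card_subgroupOf hAU, ← card_map_of_injective (f := U.subtype) (K := B) U.subtype_injective]
  exact hA.2 _ (PGroup.isElementaryAbelian_map hB _)

theorem thompsonSubgroupOf_le (U : Subgroup G) : thompsonSubgroupOf p U ≤ U :=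
  map_subtype_le _

theorem thompsonSubgroupOf_eq {U A : Subgroup G}
    (hA : A ∈ maxElementaryAbelianSubgroups p G) (hAU : A ≤ U) :
    thompsonSubgroupOf p U = sSup {B | B ∈ maxElementaryAbelianSubgroups p G ∧ B ≤ U} := by
  refine le_antisymm ?_ (sSup_le fun B hB => ?_)
  · rw [thompsonSubgroupOf, map_le_iff_le_comap, thompsonSubgroup_le_iff]
    intro B hB
    rw [← map_le_iff_le_comap]
    exact le_sSup ⟨map_subtype_mem_max hA hAU hB, map_subtype_le B⟩
  · rw [← map_subgroupOf_eq_of_le hB.2]
    exact map_mono (le_thompsonSubgroup (subgroupOf_mem_max hB.1 hB.2))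

theorem le_thompsonSubgroupOf {U A : Subgroup G}
    (hA : A ∈ maxElementaryAbelianSubgroups p G) (hAU : A ≤ U) :
    A ≤ thompsonSubgroupOf p U :=
  (thompsonSubgroupOf_eq hA hAU).symm ▸ le_sSup ⟨hA, hAU⟩

theorem thompsonSubgroupOf_le_thompsonSubgroup {U A : Subgroup G}
    (hA : A ∈ maxElementaryAbelianSubgroups p G) (hAU : A ≤ U) :
    thompsonSubgroupOf p U ≤ thompsonSubgroup p G :=
  (thompsonSubgroupOf_eq hA hAU).trans_le (sSup_le fun _ hB => le_thompsonSubgroup hB.1)

theorem thompsonSubgroupOf_eq_thompsonSubgroup [Finite G] {U : Subgroup G}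
    (hU : thompsonSubgroup p G ≤ U) : thompsonSubgroupOf p U = thompsonSubgroup p G := by
  obtain ⟨A, hA⟩ := PGroup.exists_maxElementaryAbelian (G := G) (p := p)
  have hAU := (le_thompsonSubgroup hA).trans hU
  refine le_antisymm (thompsonSubgroupOf_le_thompsonSubgroup hA hAU) ?_
  rw [thompsonSubgroup_le_iff]
  exact fun B hB => le_thompsonSubgroupOf hB ((le_thompsonSubgroup hB).trans hU)

/-- If `J(U) ≤ V ≤ U` and `U` has a member of largest order, then `J(V) = J(U)`. -/
theorem thompsonSubgroupOf_eq_of_le {U V A : Subgroup G}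
    (hA : A ∈ maxElementaryAbelianSubgroups p G) (hAU : A ≤ U) (hVU : V ≤ U)
    (hV : thompsonSubgroupOf p U ≤ V) : thompsonSubgroupOf p V = thompsonSubgroupOf p U := by
  have hAV : A ≤ V := (le_thompsonSubgroupOf hA hAU).trans hV
  refine le_antisymm ?_ ?_
  · rw [thompsonSubgroupOf_eq hA hAV]
    exact sSup_le fun B hB => le_thompsonSubgroupOf hB.1 (hB.2.trans hVU)
  · rw [thompsonSubgroupOf_eq hA hAU]
    exact sSup_le fun B hB =>
      le_thompsonSubgroupOf hB.1 (((le_thompsonSubgroupOf hB.1 hB.2).trans hV))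

theorem conj_mem_max (g : G) {A : Subgroup G} (hA : A ∈ maxElementaryAbelianSubgroups p G) :
    A.map (MulAut.conj g).toMonoidHom ∈ maxElementaryAbelianSubgroups p G :=
  map_mem_max _ hA

theorem exists_max_le_sylow [Finite G] [Fact p.Prime] (S : Sylow p G) :
    ∃ A ∈ maxElementaryAbelianSubgroups p G, A ≤ (S : Subgroup G) := by
  obtain ⟨A, hA⟩ := PGroup.exists_maxElementaryAbelian (G := G) (p := p)
  obtain ⟨T, hT⟩ := (PGroup.isPGroup_of_elementaryAbelian hA.1).exists_le_sylow
  obtain ⟨g, rfl⟩ := MulAction.exists_smul_eq G T S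
  refine ⟨_, conj_mem_max g hA, ?_⟩
  intro x hx
  rw [Sylow.coe_subgroup_smul]
  obtain ⟨a, ha, rfl⟩ := hx
  exact Subgroup.smul_mem_pointwise_smul a (MulAut.conj g) _ (hT ha)

theorem thompsonSubgroupOf_sylow_le [Finite G] [Fact p.Prime] (S : Sylow p G) :
    thompsonSubgroupOf p (S : Subgroup G) ≤ thompsonSubgroup p G := by
  obtain ⟨A, hA, hAS⟩ := exists_max_le_sylow S
  exact thompsonSubgroupOf_le_thompsonSubgroup hA hAS

theorem thompsonSubgroup_eq_iSup_sylow [Finite G] [Fact p.Prime] :
    thompsonSubgroup p G = ⨆ S : Sylow p G, thompsonSubgroupOf p (S : Subgroup G) := by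
  refine le_antisymm ?_ (iSup_le fun S => thompsonSubgroupOf_sylow_le S)
  rw [thompsonSubgroup_le_iff]
  intro A hA
  obtain ⟨S, hS⟩ := (PGroup.isPGroup_of_elementaryAbelian hA.1).exists_le_sylow
  exact (le_thompsonSubgroupOf hA hS).trans
    (le_iSup (fun S : Sylow p G => thompsonSubgroupOf p (S : Subgroup G)) S)

/-- `Ω₁(Z(U))` lies in every member of largest order inside `U`. -/
theorem omegaZ_le_max [Finite G] {U A : Subgroup G} (hA : A ∈ maxElementaryAbelianSubgroups p G)
    (hAU : A ≤ U) : omegaOne p (U ⊓ centralizer (U : Set G)) ≤ A := by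
  rw [PGroup.omegaOne_le_iff]
  exact fun x hx hxp => mem_of_commute_max hA hxp fun a ha => hx.2 a (hAU ha)

/-! ### Best offenders -/

theorem inf_centralizer_le_of_max [Finite G] {V A : Subgroup G} (hV : IsElementaryAbelian p V)
    (hA : A ∈ maxElementaryAbelianSubgroups p G) : V ⊓ centralizer (A : Set G) ≤ A :=
  fun x hx => mem_of_commute_max hA (hV.2 x hx.1) hx.2

theorem inf_centralizer_eq_inf_of_max [Finite G] {V A : Subgroup G} (hV : IsElementaryAbelian p V)
    (hA : A ∈ maxElementaryAbelianSubgroups p G) : V ⊓ centralizer (A : Set G) = V ⊓ A :=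
  le_antisymm (le_inf inf_le_left (inf_centralizer_le_of_max hV hA))
    (le_inf inf_le_left fun _ hx _ ha => PGroup.mul_comm_of_elementaryAbelian hA.1 ha hx.2)

theorem isBestOffenderOn_of_max [Finite G] {V A : Subgroup G} (hV : IsElementaryAbelian p V)
    (hA : A ∈ maxElementaryAbelianSubgroups p G) : IsBestOffenderOn p V A := by
  refine ⟨fun B hB => ?_, ?_, fun a ha => by rw [hA.1.2 a ha]; exact one_mem _⟩
  · have hD : IsElementaryAbelian p (B ⊔ (V ⊓ centralizer (B : Set G))) :=
      PGroup.isElementaryAbelian_sup (PGroup.isElementaryAbelian_mono hA.1 hB)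
        (PGroup.isElementaryAbelian_mono hV inf_le_left) fun b hb v hv => hv.2 b hb
    have hn : B ≤ normalizer ((V ⊓ centralizer (B : Set G) : Subgroup G) : Set G) :=
      (show B ≤ centralizer ((V ⊓ centralizer (B : Set G) : Subgroup G) : Set G) from
        fun b hb v hv => (hv.2 b hb).symm).trans (centralizer_le_normalizer _)
    rw [← card_sup_mul_card_inf hn]
    refine Nat.mul_le_mul (hA.2 _ hD) (Subgroup.card_le_of_le ?_)
    rw [inf_centralizer_eq_inf_of_max hV hA]
    exact le_inf (inf_le_right.trans inf_le_left) (inf_le_left.trans hB)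
  · rw [commutator_le]
    intro a ha b hb
    rw [commutatorElement_eq_one_iff_mul_comm.mpr
      (PGroup.mul_comm_of_elementaryAbelian hA.1 ha hb)]
    exact one_mem _

end Cfsg.Agent.Offender
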