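import Cfsg.Prelude.Def_PLocal
import Cfsg.Agent.Lib.Offender.Thompson
import Mathlib.Tactic.Group

/-!
# Quadratic action and the Timmesfeld replacement theorem

`V` is an abelian subgroup, `A ≤ N(V)` acts on it; everything is inside one group.

* `conj_comm_of_commutator_le`, `commutator_le_centralizer_of_quadratic`, `pow_mem_centralizer_of_quadratic`,
  `card_le_sq_of_quadratic`
* `eq_bot_of_commutator_eq`: `D = [D, A] ≤ V` is trivial when `A` acts as an elementary abelian `p`-group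
* `timmesfeld`: if no `B ≤ A` increases `|B| |C_V(B)|`, then `C_A([U,A])` has the same product and fixed points
  `[U,A] C_V(A)`
* `replacement_max`, `replacement_quadratic`, `replacement_nontrivial`: `[V,A] C_A([V,A])` for `A` of largest order
-/

set_option autoImplicit false

namespace Cfsg.Agent.Offender

open Subgroup
open scoped commutatorElement

universe u

variable {G : Type u} [Group G] {p : ℕ}

theorem commute_mem {V : Subgroup G} (hV : IsMulCommutative V) {x y : G} (hx : x ∈ V) (hy : y ∈ V) :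
    x * y = y * x :=
  PGroup.mul_comm_of_isMulCommutative hV hx hy

theorem conj_mem' {V A : Subgroup G} (hAV : A ≤ normalizer (V : Set G)) {a v : G}
    (ha : a ∈ A) (hv : v ∈ V) : a * v * a⁻¹ ∈ V :=
  (mem_normalizer_iff.mp (hAV ha) v).mp hv

theorem commutator_le_left {V A : Subgroup G} (hAV : A ≤ normalizer (V : Set G)) : ⁅V, A⁆ ≤ V := by
  rw [commutator_le]
  intro v hv a ha
  rw [commutatorElement_def, show v * a * v⁻¹ * a⁻¹ = v * (a * v⁻¹ * a⁻¹) by group]
  exact mul_mem hv (conj_mem' hAV ha (inv_mem hv))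

theorem centralizer_sup_eq (X Y : Subgroup G) :
    centralizer ((X ⊔ Y : Subgroup G) : Set G) = centralizer (X : Set G) ⊓ centralizer (Y : Set G) := by
  refine le_antisymm (le_inf (centralizer_le ?_) (centralizer_le ?_)) ?_
  · exact SetLike.coe_subset_coe.mpr le_sup_left
  · exact SetLike.coe_subset_coe.mpr le_sup_right
  · rw [le_centralizer_iff]
    refine sup_le ?_ ?_ <;> rw [le_centralizer_iff]
    exacts [inf_le_left, inf_le_right]

theorem conj_comm_of_commutator_le {V A : Subgroup G} (hab : ⁅A, A⁆ ≤ centralizer (V : Set G))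
    {a c v : G} (ha : a ∈ A) (hc : c ∈ A) (hv : v ∈ V) :
    a * (c * v * c⁻¹) * a⁻¹ = c * (a * v * a⁻¹) * c⁻¹ := by
  have h : ⁅a⁻¹, c⁻¹⁆ ∈ centralizer (V : Set G) :=
    hab (commutator_mem_commutator (inv_mem ha) (inv_mem hc))
  have h' := h v hv
  rw [commutatorElement_def, inv_inv, inv_inv] at h'
  calc a * (c * v * c⁻¹) * a⁻¹ = (c * a) * (a⁻¹ * c⁻¹ * a * c * v) * (c⁻¹ * a⁻¹) := by group
    _ = (c * a) * (v * (a⁻¹ * c⁻¹ * a * c)) * (c⁻¹ * a⁻¹) := by rw [← h']
    _ = c * (a * v * a⁻¹) * c⁻¹ := by group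

/-! ### Quadratic action -/

theorem le_centralizer_commutator_of_quadratic {V H : Subgroup G} (hq : ⁅⁅V, H⁆, H⁆ = ⊥) :
    H ≤ centralizer ((⁅V, H⁆ : Subgroup G) : Set G) := by
  rw [le_centralizer_iff]
  exact commutator_eq_bot_iff_le_centralizer.mp hq

theorem commutator_le_centralizer_of_quadratic {V H : Subgroup G} (hq : ⁅⁅V, H⁆, H⁆ = ⊥) :
    ⁅H, H⁆ ≤ centralizer (V : Set G) := by
  rw [← commutator_eq_bot_iff_le_centralizer]
  exact commutator_commutator_eq_bot_of_rotate (by rwa [commutator_comm H V]) hq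

theorem pow_mem_centralizer_of_quadratic {V H : Subgroup G} (hV : IsElementaryAbelian p V)
    (hHV : H ≤ normalizer (V : Set G)) (hq : ⁅⁅V, H⁆, H⁆ = ⊥) {a : G} (ha : a ∈ H) :
    a ^ p ∈ centralizer (V : Set G) := by
  intro v hv
  set c := ⁅a, v⁆ with hc
  have hcm : c ∈ ⁅V, H⁆ := commutator_comm H V ▸ commutator_mem_commutator ha hv
  have hac : Commute a c := ((le_centralizer_commutator_of_quadratic hq ha) c hcm).symm
  have key : ∀ n : ℕ, a ^ n * v = c ^ n * v * a ^ n := by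
    intro n
    induction n with
    | zero => simp
    | succ n ih =>
      rw [pow_succ' a, mul_assoc, ih, pow_succ c]
      rw [show a * (c ^ n * v * a ^ n) = (a * c ^ n) * v * a ^ n by group, (hac.pow_right n).eq,
        show c ^ n * a * v * a ^ n = c ^ n * (⁅a, v⁆ * v * a) * a ^ n by group, ← hc]
      group
  rw [key p, hV.2 c (commutator_le_left hHV hcm), one_mul]

/-- `v ↦ [v, a]` on an abelian subgroup normalized by `a`. -/
def commHom (V : Subgroup G) (hV : IsMulCommutative V) (a : G) (ha : a ∈ normalizer (V : Set G)) :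
    V →* G where
  toFun v := ⁅(v : G), a⁆
  map_one' := by simp [commutatorElement_def]
  map_mul' := by
    rintro ⟨d, hd⟩ ⟨e, he⟩
    have he' : ⁅e, a⁆ ∈ V := by
      rw [commutatorElement_def, show e * a * e⁻¹ * a⁻¹ = e * (a * e⁻¹ * a⁻¹) by group]
      exact mul_mem he ((mem_normalizer_iff.mp ha _).mp (inv_mem he))
    have hd' : ⁅d, a⁆ ∈ V := by
      rw [commutatorElement_def, show d * a * d⁻¹ * a⁻¹ = d * (a * d⁻¹ * a⁻¹) by group]
      exact mul_mem hd ((mem_normalizer_iff.mp ha _).mp (inv_mem hd))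
    show ⁅d * e, a⁆ = ⁅d, a⁆ * ⁅e, a⁆
    calc ⁅d * e, a⁆ = d * ⁅e, a⁆ * d⁻¹ * ⁅d, a⁆ := by simp only [commutatorElement_def]; group
      _ = ⁅e, a⁆ * ⁅d, a⁆ := by rw [commute_mem hV hd he', mul_assoc (⁅e, a⁆) d d⁻¹, mul_inv_cancel, mul_one]
      _ = ⁅d, a⁆ * ⁅e, a⁆ := commute_mem hV he' hd'

@[simp] theorem commHom_apply (V : Subgroup G) (hV : IsMulCommutative V) (a : G)
    (ha : a ∈ normalizer (V : Set G)) (v : V) : commHom V hV a ha v = ⁅(v : G), a⁆ := rfl

theorem card_le_sq_of_quadratic [Finite G] {V : Subgroup G} (hV : IsMulCommutative V) {a : G}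
    (ha : a ∈ normalizer (V : Set G)) (hq : ⁅⁅V, zpowers a⁆, zpowers a⁆ = ⊥) :
    Nat.card V ≤ Nat.card ↥(V ⊓ centralizer (zpowers a : Set G)) ^ 2 := by
  set φ := commHom V hV a ha
  have hk : φ.ker.map V.subtype ≤ V ⊓ centralizer (zpowers a : Set G) := by
    rintro _ ⟨v, hv, rfl⟩
    refine ⟨v.2, ?_⟩
    rintro _ ⟨n, rfl⟩
    have : Commute (v : G) a := commutatorElement_eq_one_iff_mul_comm.mp (MonoidHom.mem_ker.mp hv)
    exact (this.symm.zpow_left n).eq
  have hr : φ.range ≤ V ⊓ centralizer (zpowers a : Set G) := by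
    rintro _ ⟨v, rfl⟩
    have hm : ⁅(v : G), a⁆ ∈ ⁅V, zpowers a⁆ := commutator_mem_commutator v.2 (mem_zpowers a)
    exact ⟨commutator_le_left (zpowers_le.mpr ha) hm,
      commutator_eq_bot_iff_le_centralizer.mp hq hm⟩
  rw [← φ.ker.card_mul_index, index_ker, sq]
  exact Nat.mul_le_mul ((card_map_of_injective (f := V.subtype) V.subtype_injective).symm.le.trans
    (card_le_of_le hk)) (card_le_of_le hr)

/-- A `p`-group of automorphisms has no `D = [D, A] ≠ 1` inside an abelian `p`-subgroup. -/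
theorem eq_bot_of_commutator_eq [Finite G] [hp : Fact p.Prime] {V A : Subgroup G}
    (hV : IsMulCommutative V) (hVp : IsPGroup p V) (hAV : A ≤ normalizer (V : Set G))
    (hab : ⁅A, A⁆ ≤ centralizer (V : Set G)) (hpow : ∀ a ∈ A, a ^ p ∈ centralizer (V : Set G))
    {D : Subgroup G} (hDV : D ≤ V) (hD : ⁅D, A⁆ = D) : D = ⊥ := by
  suffices ∀ n, ∀ D : Subgroup G, Nat.card D = n → D ≤ V → ⁅D, A⁆ = D → D = ⊥ from
    this _ D rfl hDV hD
  intro n
  induction n using Nat.strong_induction_on with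
  | _ n ih =>
  intro D hn hDV hD
  by_contra hne
  have hDA : ∀ a ∈ A, ∀ d ∈ D, a * d * a⁻¹ ∈ D := by
    intro a ha d hd
    have : ⁅a, d⁆ ∈ D := hD ▸ commutator_comm A D ▸ commutator_mem_commutator ha hd
    have := mul_mem this hd
    rwa [commutatorElement_def, show a * d * a⁻¹ * d⁻¹ * d = a * d * a⁻¹ by group] at this
  refine hne ?_
  rw [← hD, commutator_eq_bot_iff_le_centralizer]
  intro d hd a ha
  set ψ := (commHom V hV a (hAV ha)).comp (inclusion hDV)
  have hψ : ∀ x : D, ψ x = ⁅(x : G), a⁆ := fun _ => rfl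
  have hle : ψ.range ≤ D := by
    rintro _ ⟨x, rfl⟩
    exact hD.le (commutator_mem_commutator x.2 ha)
  -- `a` fixes a nonidentity element of `D`
  have hfix : ∃ x : D, x ≠ 1 ∧ ψ x = 1 := by
    let σ : Equiv.Perm D :=
      { toFun := fun x => ⟨a * x * a⁻¹, hDA a ha x x.2⟩
        invFun := fun x => ⟨a⁻¹ * x * a, by simpa using hDA a⁻¹ (inv_mem ha) x x.2⟩
        left_inv := fun x => Subtype.ext (by simp [mul_assoc])
        right_inv := fun x => Subtype.ext (by simp [mul_assoc]) }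
    have hσn : ∀ (k : ℕ) (x : D), ((σ ^ k) x : G) = a ^ k * x * (a ^ k)⁻¹ := by
      intro k
      induction k with
      | zero => simp
      | succ k ih =>
        intro x
        rw [pow_succ', Equiv.Perm.mul_apply]
        show a * ((σ ^ k) x : G) * a⁻¹ = _
        rw [ih, pow_succ']
        group
    have hσp : σ ^ p = 1 := Equiv.ext fun x => Subtype.ext (by
      rw [hσn, ← (hpow a ha) x (hDV x.2)]
      simp)
    have hP : IsPGroup p (zpowers σ) := by
      rintro ⟨_, k, rfl⟩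
      refine ⟨1, Subtype.ext ?_⟩
      show (σ ^ k) ^ (p ^ 1) = 1
      rw [pow_one, ← zpow_natCast, ← zpow_mul, mul_comm, zpow_mul, zpow_natCast, hσp, one_zpow]
    have h1 : (1 : D) ∈ MulAction.fixedPoints (zpowers σ) D := by
      rintro ⟨_, k, rfl⟩
      have : σ 1 = 1 := Subtype.ext (by simp [σ])
      exact Equiv.Perm.zpow_apply_eq_self_of_apply_eq_self this k
    have hpD : p ∣ Nat.card D := by
      obtain ⟨k, hk⟩ := IsPGroup.iff_card.mp (hVp.to_le hDV)
      rcases Nat.eq_zero_or_pos k with rfl | hk'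
      · exact absurd (Subgroup.eq_bot_of_card_eq D (by simpa using hk)) hne
      · exact hk ▸ dvd_pow_self p hk'.ne'
    obtain ⟨x, hx, hx1⟩ := hP.exists_fixed_point_of_prime_dvd_card_of_fixed_point D hpD h1
    refine ⟨x, fun h => hx1 h.symm, ?_⟩
    have := congrArg Subtype.val (hx ⟨σ, mem_zpowers σ⟩)
    change a * (x : G) * a⁻¹ = x at this
    rw [hψ, commutatorElement_eq_one_iff_mul_comm]
    calc (x : G) * a = (a * x * a⁻¹) * a := by rw [this]
      _ = a * x := by group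
  have hlt : Nat.card ψ.range < n := by
    obtain ⟨x, hx1, hx⟩ := hfix
    have hker : ψ.ker ≠ ⊥ := fun h =>
      hx1 (Subgroup.mem_bot.mp (h ▸ MonoidHom.mem_ker.mpr hx))
    rw [← hn, ← ψ.ker.card_mul_index, index_ker]
    exact lt_mul_of_one_lt_left Nat.card_pos ((one_lt_card_iff_ne_bot _).mpr hker)
  have hR : ψ.range = ⊥ := by
    refine ih _ hlt _ rfl (hle.trans hDV) (le_antisymm ?_ ?_)
    · refine commutator_le_left ?_
      intro c hc
      have hinv : ∀ c ∈ A, ∀ y ∈ ψ.range, c * y * c⁻¹ ∈ ψ.range := by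
        rintro c hc _ ⟨x, rfl⟩
        refine ⟨⟨c * x * c⁻¹, hDA c hc x x.2⟩, ?_⟩
        simp only [hψ, commutatorElement_def]
        have h := conj_comm_of_commutator_le hab ha hc (hDV (inv_mem x.2))
        calc c * x * c⁻¹ * a * (c * x * c⁻¹)⁻¹ * a⁻¹
            = c * x * c⁻¹ * (a * (c * (x : G)⁻¹ * c⁻¹) * a⁻¹) := by group
          _ = c * x * c⁻¹ * (c * (a * (x : G)⁻¹ * a⁻¹) * c⁻¹) := by rw [h]
          _ = c * (x * a * (x : G)⁻¹ * a⁻¹) * c⁻¹ := by group
      rw [mem_normalizer_iff]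
      exact fun y => ⟨hinv c hc y, fun hy => by
        simpa [mul_assoc] using hinv c⁻¹ (inv_mem hc) _ hy⟩
    · rintro _ ⟨x, rfl⟩
      have : D ≤ ((⁅ψ.range, A⁆).comap ψ).map D.subtype := by
        conv_lhs => rw [← hD]
        rw [commutator_le]
        intro y hy c hc
        refine ⟨⟨⁅y, c⁆, hD.le (commutator_mem_commutator hy hc)⟩, ?_, rfl⟩
        rw [SetLike.mem_coe, mem_comap, hψ]
        have hm : ⁅⁅y, a⁆, c⁆ ∈ ⁅ψ.range, A⁆ := commutator_mem_commutator ⟨⟨y, hy⟩, rfl⟩ hc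
        convert hm using 1
        have hyV := hDV hy
        have h := conj_comm_of_commutator_le hab ha hc hyV
        have e1 := commute_mem hV (conj_mem' hAV hc (inv_mem hyV))
          (mul_mem (conj_mem' hAV ha (conj_mem' hAV hc hyV)) (conj_mem' hAV ha (inv_mem hyV)))
        calc ⁅⁅y, c⁆, a⁆ = y * ((c * y⁻¹ * c⁻¹) *
              ((a * (c * y * c⁻¹) * a⁻¹) * (a * y⁻¹ * a⁻¹))) := by
              simp only [commutatorElement_def]; group
          _ = y * (((a * (c * y * c⁻¹) * a⁻¹) * (a * y⁻¹ * a⁻¹)) * (c * y⁻¹ * c⁻¹)) := by rw [e1]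
          _ = y * (((a * y⁻¹ * a⁻¹) * (c * (a * y * a⁻¹) * c⁻¹)) * (c * y⁻¹ * c⁻¹)) := by
              rw [commute_mem hV (conj_mem' hAV ha (conj_mem' hAV hc hyV))
                (conj_mem' hAV ha (inv_mem hyV)), h]
          _ = ⁅⁅y, a⁆, c⁆ := by simp only [commutatorElement_def]; group
      obtain ⟨y, hy, hyx⟩ := this x.2
      obtain rfl : y = x := Subtype.ext hyx
      exact hy
  have h1 : ψ ⟨d, hd⟩ = 1 := Subgroup.mem_bot.mp (hR ▸ ⟨⟨d, hd⟩, rfl⟩)
  exact (commutatorElement_eq_one_iff_mul_comm.mp ((hψ ⟨d, hd⟩).symm.trans h1)).symm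

/-! ### The Timmesfeld replacement -/

/-- `X` is the fixed-point space of `C_A(X)`, which has the same offender product as `A`. -/
def IsReplacing (V A X : Subgroup G) : Prop :=
  X ≤ V ∧ V ⊓ centralizer (A : Set G) ≤ X ∧
    V ⊓ centralizer ((A ⊓ centralizer (X : Set G) : Subgroup G) : Set G) = X ∧
    Nat.card ↥(A ⊓ centralizer (X : Set G)) * Nat.card X =
      Nat.card A * Nat.card ↥(V ⊓ centralizer (A : Set G))

variable [Finite G] {V A : Subgroup G}

theorem isReplacing_of_le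
    (hmax : ∀ B ≤ A, Nat.card B * Nat.card ↥(V ⊓ centralizer (B : Set G)) ≤
      Nat.card A * Nat.card ↥(V ⊓ centralizer (A : Set G)))
    {X : Subgroup G} (hXV : X ≤ V) (hCX : V ⊓ centralizer (A : Set G) ≤ X)
    (h : Nat.card A * Nat.card ↥(V ⊓ centralizer (A : Set G)) ≤
      Nat.card ↥(A ⊓ centralizer (X : Set G)) * Nat.card X) : IsReplacing V A X := by
  have hle : X ≤ V ⊓ centralizer ((A ⊓ centralizer (X : Set G) : Subgroup G) : Set G) :=
    le_inf hXV (by rw [le_centralizer_iff]; exact inf_le_right)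
  have h2 := hmax _ (inf_le_left (b := centralizer (X : Set G)))
  have h3 : Nat.card ↥(A ⊓ centralizer (X : Set G)) * Nat.card X ≤ Nat.card ↥(A ⊓ centralizer (X : Set G)) *
      Nat.card ↥(V ⊓ centralizer ((A ⊓ centralizer (X : Set G) : Subgroup G) : Set G)) :=
    Nat.mul_le_mul_left _ (card_le_of_le hle)
  refine ⟨hXV, hCX, (eq_of_le_of_card_ge hle ?_).symm, le_antisymm (h3.trans h2) h⟩
  exact Nat.le_of_mul_le_mul_left (h2.trans h) Nat.card_pos

/-- The commutators of one element with `A`. -/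
def commClosure (u : G) (A : Subgroup G) : Subgroup G :=
  closure {x : G | ∃ a ∈ A, x = ⁅u, a⁆}

theorem isReplacing_commClosure (hV : IsMulCommutative V) (hAV : A ≤ normalizer (V : Set G))
    (hab : ⁅A, A⁆ ≤ centralizer (V : Set G))
    (hmax : ∀ B ≤ A, Nat.card B * Nat.card ↥(V ⊓ centralizer (B : Set G)) ≤
      Nat.card A * Nat.card ↥(V ⊓ centralizer (A : Set G)))
    {u : G} (hu : u ∈ V) :
    IsReplacing V A (commClosure u A ⊔ V ⊓ centralizer (A : Set G)) := by
  set C := V ⊓ centralizer (A : Set G) with hC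
  set X := commClosure u A ⊔ C with hX
  have hXV : X ≤ V := sup_le ((closure_le V).mpr (by
    rintro _ ⟨a, ha, rfl⟩
    exact commutator_le_left hAV (commutator_mem_commutator hu ha))) inf_le_left
  refine isReplacing_of_le hmax hXV le_sup_right ?_
  set B := A ⊓ centralizer (X : Set G)
  have hgen : ∀ a ∈ A, ⁅u, a⁆ ∈ X := fun a ha => mem_sup_left (subset_closure ⟨a, ha, rfl⟩)
  have key : ∀ a ∈ A, ∀ a' ∈ A, ⁅u, a⁆⁻¹ * ⁅u, a'⁆ ∈ C → a⁻¹ * a' ∈ B := by
    intro a ha a' ha' hz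
    refine ⟨A.mul_mem (A.inv_mem ha) ha', ?_⟩
    suffices X ≤ centralizer {a⁻¹ * a'} from fun x hx =>
      ((this hx) (a⁻¹ * a') (Set.mem_singleton _)).symm
    refine sup_le ((closure_le _).mpr ?_) ?_
    · rintro _ ⟨c, hc, rfl⟩ g hg
      obtain rfl : g = a⁻¹ * a' := hg
      set z := ⁅u, a⁆⁻¹ * ⁅u, a'⁆ with hzdef
      have hu' := inv_mem hu
      set s := a * u⁻¹ * a⁻¹ with hs
      set s' := a' * u⁻¹ * a'⁻¹ with hs'
      have hss : s' = s * z := by simp only [hs, hs', hzdef, commutatorElement_def]; group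
      have hcz : c * z * c⁻¹ = z := by
        rw [(hz.2 c hc), mul_assoc, mul_inv_cancel, mul_one]
      have hsV : s⁻¹ * (c * s * c⁻¹) ∈ V :=
        mul_mem (inv_mem (conj_mem' hAV ha hu')) (conj_mem' hAV hc (conj_mem' hAV ha hu'))
      have e : ∀ b ∈ A, b * ⁅u, c⁆ * b⁻¹ = (b * u⁻¹ * b⁻¹)⁻¹ * (c * (b * u⁻¹ * b⁻¹) * c⁻¹) := by
        intro b hb
        rw [← conj_comm_of_commutator_le hab hb hc hu']
        simp only [commutatorElement_def]
        group
      have eq : a' * ⁅u, c⁆ * a'⁻¹ = a * ⁅u, c⁆ * a⁻¹ := by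
        rw [e a ha, e a' ha', ← hs, ← hs', hss]
        calc (s * z)⁻¹ * (c * (s * z) * c⁻¹) = z⁻¹ * (s⁻¹ * (c * s * c⁻¹)) * (c * z * c⁻¹) := by group
          _ = s⁻¹ * (c * s * c⁻¹) := by
            rw [hcz, mul_assoc, commute_mem hV hsV hz.1, ← mul_assoc, inv_mul_cancel, one_mul]
      calc a⁻¹ * a' * ⁅u, c⁆ = a⁻¹ * (a' * ⁅u, c⁆ * a'⁻¹) * a' := by group
        _ = ⁅u, c⁆ * (a⁻¹ * a') := by rw [eq]; group
    · intro x hx g hg
      obtain rfl : g = a⁻¹ * a' := hg
      exact hx.2 _ (mul_mem (inv_mem ha) ha')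
  have hrel : B.relIndex A ≤ C.relIndex X := by
    refine Nat.card_le_card_of_injective
      (fun q : A ⧸ B.subgroupOf A =>
        (QuotientGroup.mk ⟨⁅u, (q.out : A).1⁆, hgen _ q.out.2⟩ : X ⧸ C.subgroupOf X)) ?_
    intro q q' h
    rw [← QuotientGroup.out_eq' q, ← QuotientGroup.out_eq' q']
    rw [QuotientGroup.eq, mem_subgroupOf]
    have h' := QuotientGroup.eq.mp h
    rw [mem_subgroupOf] at h'
    exact key _ q.out.2 _ q'.out.2 h'
  have hA' : Nat.card B * B.relIndex A = Nat.card A := by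
    have := relIndex_mul_relIndex ⊥ B A bot_le inf_le_left
    rwa [relIndex_bot_left, relIndex_bot_left] at this
  have hX' : Nat.card C * C.relIndex X = Nat.card X := by
    have := relIndex_mul_relIndex ⊥ C X bot_le le_sup_right
    rwa [relIndex_bot_left, relIndex_bot_left] at this
  rw [← hA', ← hX', mul_assoc, mul_comm (Nat.card C)]
  exact Nat.mul_le_mul_left _ (Nat.mul_le_mul_right _ hrel)

theorem IsReplacing.sup (hV : IsMulCommutative V)
    (hab : ⁅A, A⁆ ≤ centralizer (V : Set G))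
    (hmax : ∀ B ≤ A, Nat.card B * Nat.card ↥(V ⊓ centralizer (B : Set G)) ≤
      Nat.card A * Nat.card ↥(V ⊓ centralizer (A : Set G)))
    {X Y : Subgroup G} (hX : IsReplacing V A X) (hY : IsReplacing V A Y) :
    IsReplacing V A (X ⊔ Y) := by
  refine isReplacing_of_le hmax (sup_le hX.1 hY.1) (hX.2.1.trans le_sup_left) ?_
  set B₁ := A ⊓ centralizer (X : Set G) with hB₁
  set B₂ := A ⊓ centralizer (Y : Set G) with hB₂
  have h3 : A ⊓ centralizer ((X ⊔ Y : Subgroup G) : Set G) = B₁ ⊓ B₂ := by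
    rw [centralizer_sup_eq, inf_inf_distrib_left]
  have h4 : V ⊓ centralizer ((B₁ ⊔ B₂ : Subgroup G) : Set G) = X ⊓ Y := by
    rw [centralizer_sup_eq, inf_inf_distrib_left, hX.2.2.1, hY.2.2.1]
  have hn : B₁ ≤ normalizer (B₂ : Set G) := by
    have hconj : ∀ a ∈ A, ∀ b ∈ B₂, a * b * a⁻¹ ∈ B₂ := by
      intro a ha b hb
      rw [show a * b * a⁻¹ = ⁅a, b⁆ * b by simp only [commutatorElement_def]; group]
      exact mul_mem ⟨A.commutator_le_self (commutator_mem_commutator ha hb.1),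
        centralizer_le hY.1 (hab (commutator_mem_commutator ha hb.1))⟩ hb
    intro a ha
    rw [mem_normalizer_iff]
    exact fun b => ⟨hconj a ha.1 b, fun hb => by
      simpa [mul_assoc] using hconj a⁻¹ (inv_mem ha.1) _ hb⟩
  have hXY : X ≤ normalizer (Y : Set G) := by
    intro x hx
    exact centralizer_le_normalizer _ fun y hy => commute_mem hV (hY.1 hy) (hX.1 hx)
  have e1 := card_sup_mul_card_inf hn
  have e2 := card_sup_mul_card_inf hXY
  have h5 := hmax _ (sup_le (inf_le_left : B₁ ≤ A) (inf_le_left : B₂ ≤ A))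
  rw [h4] at h5
  rw [h3]
  have f1 := hX.2.2.2
  have f2 := hY.2.2.2
  rw [← hB₁] at f1
  rw [← hB₂] at f2
  set f := Nat.card A * Nat.card ↥(V ⊓ centralizer (A : Set G))
  have e3 : (Nat.card ↥(B₁ ⊓ B₂) * Nat.card ↥(X ⊔ Y)) * (Nat.card ↥(B₁ ⊔ B₂) * Nat.card ↥(X ⊓ Y)) =
      f * f := by
    calc _ = (Nat.card ↥(B₁ ⊔ B₂) * Nat.card ↥(B₁ ⊓ B₂)) * (Nat.card ↥(X ⊔ Y) * Nat.card ↥(X ⊓ Y)) := by ring
      _ = (Nat.card B₁ * Nat.card B₂) * (Nat.card X * Nat.card Y) := by rw [e1, e2]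
      _ = (Nat.card B₁ * Nat.card X) * (Nat.card B₂ * Nat.card Y) := by ring
      _ = f * f := by rw [f1, f2]
  have fpos : 0 < f := Nat.mul_pos Nat.card_pos Nat.card_pos
  refine Nat.le_of_mul_le_mul_right ?_ fpos
  rw [← e3]
  exact Nat.mul_le_mul_left _ h5

/-- **Timmesfeld replacement**. -/
theorem timmesfeld (hV : IsMulCommutative V) (hAV : A ≤ normalizer (V : Set G))
    (hab : ⁅A, A⁆ ≤ centralizer (V : Set G))
    (hmax : ∀ B ≤ A, Nat.card B * Nat.card ↥(V ⊓ centralizer (B : Set G)) ≤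
      Nat.card A * Nat.card ↥(V ⊓ centralizer (A : Set G)))
    {U : Subgroup G} (hU : U ≤ V) :
    V ⊓ centralizer ((A ⊓ centralizer ((⁅U, A⁆ : Subgroup G) : Set G) : Subgroup G) : Set G) =
        ⁅U, A⁆ ⊔ V ⊓ centralizer (A : Set G) ∧
      Nat.card A * Nat.card ↥(V ⊓ centralizer (A : Set G)) =
        Nat.card ↥(A ⊓ centralizer ((⁅U, A⁆ : Subgroup G) : Set G)) *
          Nat.card ↥(V ⊓ centralizer
            ((A ⊓ centralizer ((⁅U, A⁆ : Subgroup G) : Set G) : Subgroup G) : Set G)) := by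
  classical
  set C := V ⊓ centralizer (A : Set G) with hC
  have hs : ∀ s : Finset G, (∀ u ∈ s, u ∈ V) →
      IsReplacing V A (s.sup (fun u => commClosure u A) ⊔ C) := by
    intro s
    induction s using Finset.induction_on with
    | empty =>
      intro _
      rw [Finset.sup_empty, bot_sup_eq]
      refine isReplacing_of_le hmax inf_le_left le_rfl (Nat.mul_le_mul_right _ (card_le_of_le ?_))
      exact le_inf le_rfl (by rw [le_centralizer_iff]; exact inf_le_right)
    | insert u s _ ih =>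
      intro h
      rw [Finset.sup_insert, sup_sup_distrib_right]
      exact (isReplacing_commClosure hV hAV hab hmax (h u (Finset.mem_insert_self _ _))).sup hV hab
        hmax (ih fun x hx => h x (Finset.mem_insert_of_mem hx))
  have := Fintype.ofFinite G
  have key := hs (Finset.univ.filter (· ∈ U)) fun u hu => hU (Finset.mem_filter.mp hu).2
  have heq : (Finset.univ.filter (· ∈ U)).sup (fun u => commClosure u A) = ⁅U, A⁆ := by
    refine le_antisymm (Finset.sup_le fun u hu => (closure_le _).mpr ?_) ?_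
    · rintro _ ⟨a, ha, rfl⟩
      exact commutator_mem_commutator (Finset.mem_filter.mp hu).2 ha
    · rw [commutator_le]
      intro u hu a ha
      exact Finset.le_sup (f := fun u => commClosure u A)
        (Finset.mem_filter.mpr ⟨Finset.mem_univ _, hu⟩) (subset_closure ⟨a, ha, rfl⟩)
  rw [heq] at key
  have hcent : A ⊓ centralizer ((⁅U, A⁆ ⊔ C : Subgroup G) : Set G) =
      A ⊓ centralizer ((⁅U, A⁆ : Subgroup G) : Set G) := by
    rw [centralizer_sup_eq, ← inf_assoc, inf_eq_left]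
    exact inf_le_left.trans (by rw [le_centralizer_iff]; exact inf_le_right)
  obtain ⟨-, -, h1, h2⟩ := key
  rw [hcent] at h1 h2
  exact ⟨h1, by rw [h1]; exact h2.symm⟩

theorem commutator_ne_bot_of_replacement [Fact p.Prime] (hV : IsElementaryAbelian p V)
    (hAV : A ≤ normalizer (V : Set G)) (hA : IsBestOffenderOn p V A) {U : Subgroup G} (hU : U ≤ V)
    (hne : ⁅V, A⁆ ≠ ⊥) : ⁅V, A ⊓ centralizer ((⁅U, A⁆ : Subgroup G) : Set G)⁆ ≠ ⊥ := by
  intro hbot
  obtain ⟨h1, -⟩ := timmesfeld hV.1 hAV hA.2.1 hA.1 hU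
  rw [inf_eq_left.mpr (commutator_eq_bot_iff_le_centralizer.mp hbot)] at h1
  refine hne (eq_bot_of_commutator_eq hV.1 (PGroup.isPGroup_of_elementaryAbelian hV) hAV hA.2.1 hA.2.2
    (commutator_le_left hAV) (le_antisymm (commutator_le_left ?_) ?_))
  · intro a ha
    rw [mem_normalizer_iff]
    have : ∀ b ∈ A, ∀ x ∈ ⁅V, A⁆, b * x * b⁻¹ ∈ ⁅V, A⁆ := by
      intro b hb x hx
      rw [show b * x * b⁻¹ = ⁅b, x⁆ * x by simp only [commutatorElement_def]; group]
      refine mul_mem ?_ hx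
      rw [commutator_comm V A]
      exact commutator_mem_commutator hb (commutator_le_left hAV hx)
    exact fun x => ⟨this a ha x, fun hx => by simpa [mul_assoc] using this a⁻¹ (inv_mem ha) _ hx⟩
  · rw [commutator_le]
    intro v hv a ha
    have hv' : v ∈ ⁅V, A⁆ ⊔ V ⊓ centralizer (A : Set G) :=
      sup_le_sup_right (commutator_mono hU le_rfl) _ (h1.le hv)
    have hn : ⁅V, A⁆ ≤ normalizer ((V ⊓ centralizer (A : Set G) : Subgroup G) : Set G) := fun x hx =>
      centralizer_le_normalizer _ fun y hy => commute_mem hV.1 hy.1 (commutator_le_left hAV hx)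
    obtain ⟨x, hx, c, hc, rfl⟩ := (Coprime.mem_sup_iff_of_le_normalizer hn).mp hv'
    have hca : ⁅c, a⁆ = 1 := commutatorElement_eq_one_iff_mul_comm.mpr (hc.2 a ha).symm
    rw [show ⁅x * c, a⁆ = x * ⁅c, a⁆ * x⁻¹ * ⁅x, a⁆ by simp only [commutatorElement_def]; group,
      hca, mul_one, mul_inv_cancel, one_mul]
    exact commutator_mem_commutator hx ha

theorem isBestOffenderOn_replacement (hV : IsElementaryAbelian p V)
    (hAV : A ≤ normalizer (V : Set G)) (hA : IsBestOffenderOn p V A) {U : Subgroup G} (hU : U ≤ V) :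
    IsBestOffenderOn p V (A ⊓ centralizer ((⁅U, A⁆ : Subgroup G) : Set G)) := by
  refine ⟨fun B hB => ?_, (commutator_mono inf_le_left inf_le_left).trans hA.2.1,
    fun a ha => hA.2.2 a ha.1⟩
  exact (hA.1 B (hB.trans inf_le_left)).trans_eq (timmesfeld hV.1 hAV hA.2.1 hA.1 hU).2

/-! ### Replacement for subgroups of largest order -/

section Max

variable [hVn : V.Normal] (hV : IsElementaryAbelian p V) (hA : A ∈ maxElementaryAbelianSubgroups p G)

omit [Finite G] hVn in
theorem le_normalizer_of_normal [V.Normal] : A ≤ normalizer (V : Set G) := by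
  rw [normalizer_eq_top]; exact le_top

include hV hA in
theorem replacement_max :
    (⁅V, A⁆ ⊔ (A ⊓ centralizer ((⁅V, A⁆ : Subgroup G) : Set G))) ∈
      maxElementaryAbelianSubgroups p G := by
  have hAV : A ≤ normalizer (V : Set G) := le_normalizer_of_normal
  have hoff := isBestOffenderOn_of_max hV hA
  obtain ⟨h1, h2⟩ := timmesfeld hV.1 hAV hoff.2.1 hoff.1 le_rfl
  set X := ⁅V, A⁆ with hX
  set B := A ⊓ centralizer (X : Set G) with hB
  have hXV : X ≤ V := commutator_le_left hAV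
  have hEA : IsElementaryAbelian p (X ⊔ B) :=
    PGroup.isElementaryAbelian_sup (PGroup.isElementaryAbelian_mono hV hXV)
      (PGroup.isElementaryAbelian_mono hA.1 inf_le_left) fun x hx b hb => hb.2 x hx
  refine ⟨hEA, fun D hD => (hA.2 D hD).trans (le_of_eq ?_)⟩
  have hn1 : X ≤ normalizer (B : Set G) :=
    (show X ≤ centralizer (B : Set G) from fun x hx b hb => (hb.2 x hx).symm).trans
      (centralizer_le_normalizer _)
  have hn2 : X ≤ normalizer ((V ⊓ centralizer (A : Set G) : Subgroup G) : Set G) := fun x hx =>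
    centralizer_le_normalizer _ fun y hy => commute_mem hV.1 hy.1 (hXV hx)
  have e1 := card_sup_mul_card_inf hn1
  have e2 := card_sup_mul_card_inf hn2
  have i1 : X ⊓ B = X ⊓ A := le_antisymm (inf_le_inf_left _ inf_le_left)
    (le_inf inf_le_left (le_inf inf_le_right fun a ha x hx => commute_mem hV.1 (hXV hx) (hXV ha.1)))
  have i2 : X ⊓ (V ⊓ centralizer (A : Set G)) = X ⊓ A := by
    rw [inf_centralizer_eq_inf_of_max hV hA, ← inf_assoc, inf_eq_left.mpr hXV]
  rw [i1] at e1
  rw [i2] at e2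
  rw [h1] at h2
  set n := Nat.card ↥(X ⊓ A)
  have hpos : 0 < n := Nat.card_pos
  have hC : 0 < Nat.card ↥(V ⊓ centralizer (A : Set G)) := Nat.card_pos
  refine Nat.eq_of_mul_eq_mul_right (Nat.mul_pos hpos hC) ?_
  calc Nat.card A * (n * Nat.card ↥(V ⊓ centralizer (A : Set G)))
      = (Nat.card A * Nat.card ↥(V ⊓ centralizer (A : Set G))) * n := by ring
    _ = Nat.card B * (Nat.card ↥(X ⊔ V ⊓ centralizer (A : Set G)) * n) := by rw [h2]; ring
    _ = (Nat.card X * Nat.card B) * Nat.card ↥(V ⊓ centralizer (A : Set G)) := by rw [e2]; ring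
    _ = Nat.card ↥(X ⊔ B) * (n * Nat.card ↥(V ⊓ centralizer (A : Set G))) := by rw [← e1]; ring

include hV in
omit [Finite G] in
theorem replacement_quadratic :
    ⁅⁅V, ⁅V, A⁆ ⊔ (A ⊓ centralizer ((⁅V, A⁆ : Subgroup G) : Set G))⁆,
      ⁅V, A⁆ ⊔ (A ⊓ centralizer ((⁅V, A⁆ : Subgroup G) : Set G))⁆ = ⊥ := by
  have hAV : A ≤ normalizer (V : Set G) := le_normalizer_of_normal
  set X := ⁅V, A⁆ with hX
  set B := A ⊓ centralizer (X : Set G) with hB
  have hXV : X ≤ V := commutator_le_left hAV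
  have h1 : ⁅V, X ⊔ B⁆ ≤ X := by
    rw [commutator_le]
    intro v hv g hg
    have hn : B ≤ normalizer (X : Set G) := inf_le_right.trans (centralizer_le_normalizer _)
    obtain ⟨x, hx, b, hb, rfl⟩ := (Coprime.mem_sup_iff_of_le_normalizer' hn).mp (sup_comm X B ▸ hg)
    have hvb : ⁅v, b⁆ ∈ X := commutator_mem_commutator hv hb.1
    rw [show ⁅v, x * b⁆ = ⁅v, x⁆ * (x * ⁅v, b⁆ * x⁻¹) by simp only [commutatorElement_def]; group,
      commutatorElement_eq_one_iff_mul_comm.mpr (commute_mem hV.1 hv (hXV hx)), one_mul]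
    exact mul_mem (mul_mem hx hvb) (inv_mem hx)
  rw [commutator_eq_bot_iff_le_centralizer]
  refine h1.trans ?_
  rw [centralizer_sup_eq]
  exact le_inf (fun x hx y hy => commute_mem hV.1 (hXV hy) (hXV hx))
    (by rw [le_centralizer_iff]; exact inf_le_right)

include hV hA in
theorem replacement_nontrivial [Fact p.Prime] (hne : ⁅V, A⁆ ≠ ⊥) :
    ⁅V, ⁅V, A⁆ ⊔ (A ⊓ centralizer ((⁅V, A⁆ : Subgroup G) : Set G))⁆ ≠ ⊥ := fun h =>
  commutator_ne_bot_of_replacement hV le_normalizer_of_normal (isBestOffenderOn_of_max hV hA)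
    le_rfl hne (le_bot_iff.mp ((commutator_mono le_rfl le_sup_right).trans h.le))

end Max

end Cfsg.Agent.Offender
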