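import Cfsg.Prelude.Def_PLocal
import Cfsg.Agent.Lib.Offender.Thompson
import Cfsg.Agent.Lib.PCore.Basic
import Cfsg.Agent.Lib.Components.Subnormal

/-!
# The module `⟨Ω₁(Z(S))^G⟩` and the Frattini argument for the Thompson factorization

* `le_centralizer_of_isPGroup_quotient`, `pCore_quotient_centralizer_eq_bot`
* `omegaZ`, `omegaZ_smul`, `iSup_omegaZ_normal`, `iSup_omegaZ_le_pCore`, `isElementaryAbelian_iSup_omegaZ`
* `sylow_inf_normal`: `S ∩ N` is a Sylow subgroup of the normal subgroup `N`
* `sup_normalizer_thompson_eq_top`: `G = N N(J(S))` when `J(G) ≤ N` and `N` normal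
-/

set_option autoImplicit false

namespace Cfsg.Agent.Offender

open Subgroup
open scoped Pointwise

universe u

variable {G : Type u} [Group G] {p : ℕ}

theorem isPGroup_map_of_relIndex [Fact p.Prime] {C D : Subgroup G} [C.Normal] {k : ℕ}
    (h : C.relIndex D = p ^ k) : IsPGroup p (D.map (QuotientGroup.mk' C)) := by
  refine IsPGroup.of_card (n := k) ?_
  rw [← relIndex_ker, QuotientGroup.ker_mk', h]

/-- A normal `p`-subgroup modulo `C = C_G(V)` is trivial when `V` is generated by Sylow fixed points. -/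
theorem le_centralizer_of_isPGroup_quotient [Finite G] [Fact p.Prime] {V : Subgroup G} [V.Normal]
    (hgen : V ≤ ⨆ S : Sylow p G, V ⊓ centralizer ((S : Subgroup G) : Set G)) {D : Subgroup G}
    [D.Normal] (hp : IsPGroup p (D.map (QuotientGroup.mk' (centralizer (V : Set G))))) :
    D ≤ centralizer (V : Set G) := by
  rw [le_centralizer_iff]
  refine hgen.trans (iSup_le fun S => ?_)
  rw [← le_centralizer_iff]
  set C := centralizer (V : Set G)
  have : (D.map (QuotientGroup.mk' C)).Normal :=
    Subgroup.Normal.map inferInstance _ (QuotientGroup.mk'_surjective C)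
  have h1 : D.map (QuotientGroup.mk' C) ≤ (S : Subgroup G).map (QuotientGroup.mk' C) :=
    (PCore.le_pCore hp).trans
      ((PCore.pCore_le_sylow (S.mapSurjective (QuotientGroup.mk'_surjective C))))
  rw [map_le_iff_le_comap, comap_map_eq, QuotientGroup.ker_mk'] at h1
  refine h1.trans (sup_le ?_ ?_)
  · rw [le_centralizer_iff]; exact inf_le_right
  · exact centralizer_le inf_le_left

theorem pCore_quotient_centralizer_eq_bot [Finite G] [Fact p.Prime] {V : Subgroup G} [V.Normal]
    (hgen : V ≤ ⨆ S : Sylow p G, V ⊓ centralizer ((S : Subgroup G) : Set G)) :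
    pCore p (G ⧸ centralizer (V : Set G)) = ⊥ := by
  set C := centralizer (V : Set G)
  set D := (pCore p (G ⧸ C)).comap (QuotientGroup.mk' C)
  have hD : D.map (QuotientGroup.mk' C) = pCore p (G ⧸ C) :=
    map_comap_eq_self_of_surjective (QuotientGroup.mk'_surjective C) _
  have : D.Normal := Normal.comap PCore.pCore_normal _
  have := le_centralizer_of_isPGroup_quotient (V := V) hgen (D := D) (hD.symm ▸ PCore.isPGroup_pCore)
  rw [← hD, Subgroup.map_eq_bot_iff, QuotientGroup.ker_mk']
  exact this

/-- `Ω₁(Z(U))`, for a subgroup `U`. -/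
abbrev omegaZ (p : ℕ) (U : Subgroup G) : Subgroup G :=
  omegaOne p (U ⊓ centralizer (U : Set G))

theorem map_centralizer_equiv {H : Type*} [Group H] (e : G ≃* H) (U : Subgroup G) :
    (centralizer (U : Set G)).map e.toMonoidHom = centralizer ((U.map e.toMonoidHom : Subgroup H) : Set H) := by
  refine le_antisymm ?_ fun y hy => ?_
  · rintro _ ⟨x, hx, rfl⟩ _ ⟨v, hv, rfl⟩
    rw [← map_mul, ← map_mul, hx v hv]
  · refine ⟨e.symm y, fun v hv => e.injective ?_, by simp⟩
    rw [map_mul, map_mul, e.apply_symm_apply]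
    exact hy (e v) ⟨v, hv, rfl⟩

theorem map_omegaZ {H : Type*} [Group H] (e : G ≃* H) (U : Subgroup G) :
    (omegaZ p U).map e.toMonoidHom = omegaZ p (U.map e.toMonoidHom) := by
  rw [omegaZ, omegaZ, PGroup.map_omegaOne_of_injective e.injective,
    map_inf _ _ e.toMonoidHom e.injective, map_centralizer_equiv]

theorem omegaZ_smul (g : G) (S : Sylow p G) :
    (omegaZ p (S : Subgroup G)).map (MulAut.conj g).toMonoidHom =
      omegaZ p ((g • S : Sylow p G) : Subgroup G) := by
  rw [map_omegaZ]; rfl

theorem iSup_omegaZ_normal :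
    (⨆ S : Sylow p G, omegaZ p (S : Subgroup G)).Normal := by
  refine ⟨fun x hx g => ?_⟩
  have : (⨆ S : Sylow p G, omegaZ p (S : Subgroup G)).map (MulAut.conj g).toMonoidHom ≤
      ⨆ S : Sylow p G, omegaZ p (S : Subgroup G) := by
    rw [Subgroup.map_iSup]
    exact iSup_le fun S => (omegaZ_smul g S).trans_le
      (le_iSup (fun S : Sylow p G => omegaZ p (S : Subgroup G)) (g • S))
  exact this ⟨x, hx, rfl⟩

theorem omegaZ_le_iSup_inf_centralizer :
    (⨆ S : Sylow p G, omegaZ p (S : Subgroup G)) ≤ ⨆ S : Sylow p G,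
      (⨆ T : Sylow p G, omegaZ p (T : Subgroup G)) ⊓ centralizer ((S : Subgroup G) : Set G) :=
  iSup_mono fun S => le_inf (le_iSup (fun T : Sylow p G => omegaZ p (T : Subgroup G)) S)
    ((PGroup.omegaOne_le _).trans inf_le_right)

theorem omegaZ_le_center_pCore [Finite G] [Fact p.Prime]
    (hc : centralizer (pCore p G : Set G) ≤ pCore p G) (S : Sylow p G) :
    omegaZ p (S : Subgroup G) ≤ omegaOne p (pCore p G ⊓ centralizer (pCore p G : Set G)) := by
  refine PGroup.omegaOne_mono fun x hx => ?_
  have : x ∈ centralizer (pCore p G : Set G) := centralizer_le (PCore.pCore_le_sylow S) hx.2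
  exact ⟨hc this, this⟩

theorem isElementaryAbelian_iSup_omegaZ [Finite G] [Fact p.Prime]
    (hc : centralizer (pCore p G : Set G) ≤ pCore p G) :
    IsElementaryAbelian p (⨆ S : Sylow p G, omegaZ p (S : Subgroup G)) :=
  PGroup.isElementaryAbelian_mono (PGroup.isElementaryAbelian_omegaOne
    (PGroup.isMulCommutative_of_forall fun _ ha _ hb => (ha.2 _ hb.1).symm))
    (iSup_le fun S => omegaZ_le_center_pCore hc S)

/-- `S ∩ N` is a Sylow subgroup of a normal subgroup `N`. -/
theorem exists_sylow_eq_inf [Finite G] [Fact p.Prime] (S : Sylow p G) (N : Subgroup G) [N.Normal] :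
    ∃ P : Sylow p N, (P : Subgroup N).map N.subtype = (S : Subgroup G) ⊓ N := by
  have hn : (S : Subgroup G) ≤ normalizer (N : Set G) := by rw [normalizer_eq_top]; exact le_top
  have e := card_sup_mul_card_inf hn
  have hS := relIndex_mul_relIndex ⊥ (S : Subgroup G) (↑S ⊔ N) bot_le le_sup_left
  have hN := relIndex_mul_relIndex ⊥ ((S : Subgroup G) ⊓ N) N bot_le inf_le_right
  rw [relIndex_bot_left, relIndex_bot_left] at hS hN
  rw [inf_relIndex_right] at hN
  have hr : (S : Subgroup G).relIndex N = (S : Subgroup G).relIndex (↑S ⊔ N) := by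
    refine Nat.eq_of_mul_eq_mul_left (Nat.mul_pos (Nat.card_pos (α := (S : Subgroup G)))
      (Nat.card_pos (α := ((S : Subgroup G) ⊓ N : Subgroup G)))) ?_
    calc Nat.card (S : Subgroup G) * Nat.card ↥((S : Subgroup G) ⊓ N) * (S : Subgroup G).relIndex N
        = Nat.card (S : Subgroup G) * (Nat.card ↥((S : Subgroup G) ⊓ N) * (S : Subgroup G).relIndex N) :=
          mul_assoc _ _ _
      _ = Nat.card ↥((S : Subgroup G) ⊔ N) * Nat.card ↥((S : Subgroup G) ⊓ N) := by rw [hN, e]
      _ = _ := by rw [← hS]; ring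
  have hnd : ¬ p ∣ ((S : Subgroup G).subgroupOf N).index := by
    intro hdvd
    refine S.not_dvd_index ?_
    rw [← relIndex_mul_index (le_sup_left : (S : Subgroup G) ≤ ↑S ⊔ N), ← hr]
    exact dvd_mul_of_dvd_left hdvd _
  have hp : IsPGroup p ((S : Subgroup G).subgroupOf N) :=
    S.2.comap_of_injective _ N.subtype_injective
  exact ⟨hp.toSylow hnd, subgroupOf_map_subtype _ _⟩

theorem normalizer_le_normalizer_thompsonSubgroupOf (U : Subgroup G) :
    normalizer (U : Set G) ≤ normalizer (thompsonSubgroupOf p U : Set G) :=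
  have := thompsonSubgroup_characteristic (G := U) (p := p)
  Components.normalizer_le_normalizer_map_of_characteristic U (thompsonSubgroup p U)

/-- Frattini: if `J(S) ≤ N` for the normal `N`, then `G = N · N_G(J(S))`. -/
theorem sup_normalizer_thompson_eq_top [Finite G] [Fact p.Prime] (S : Sylow p G) (N : Subgroup G)
    [N.Normal] (hJ : thompsonSubgroupOf p (S : Subgroup G) ≤ N) :
    N ⊔ normalizer (thompsonSubgroupOf p (S : Subgroup G) : Set G) = ⊤ := by
  obtain ⟨P, hP⟩ := exists_sylow_eq_inf S N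
  obtain ⟨A, hA, hAS⟩ := exists_max_le_sylow S
  have hle : normalizer (((S : Subgroup G) ⊓ N : Subgroup G) : Set G) ≤
      normalizer (thompsonSubgroupOf p (S : Subgroup G) : Set G) := by
    rw [← thompsonSubgroupOf_eq_of_le hA hAS (inf_le_left : (S : Subgroup G) ⊓ N ≤ _)
      (le_inf (thompsonSubgroupOf_le _) hJ)]
    exact normalizer_le_normalizer_thompsonSubgroupOf _
  have h := P.normalizer_sup_eq_top (N := N)
  rw [hP] at h
  rw [sup_comm]
  exact top_le_iff.mp (h.ge.trans (sup_le_sup_right hle N))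

end Cfsg.Agent.Offender
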