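import Cfsg.Agent.Lib.Offender.Decomposition
import Cfsg.Agent.Lib.PSL2.SmallIso

/-!
# Abelian best offenders for the prime 2, and the shape of the groups they generate

* `FF.sq_eq_one`, `FF.isBestOffenderOn_of_abelian`: an abelian 2-group with the best-offender
  inequality on a faithful module with self-centralizing odd core is elementary abelian
* `Gen.exists_pi_perm_three`: the group generated by best offenders is a power of `S₃`
-/

set_option autoImplicit false

namespace Cfsg.Agent.Offender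

open Subgroup
open scoped commutatorElement

universe u

variable {G : Type u} [Group G] [Finite G]

omit [Finite G] in
theorem eq_one_or_eq_of_mem_zpowers {e x : G} (he : e ^ 2 = 1) (hx : x ∈ zpowers e) :
    x = 1 ∨ x = e := by
  obtain ⟨n, rfl⟩ := mem_zpowers_iff.mp hx
  have he' : e ^ (2 : ℤ) = 1 := by exact_mod_cast he
  rcases Int.emod_two_eq_zero_or_one n with h | h
  · exact Or.inl (by rw [← Int.mul_ediv_add_emod n 2, h, add_zero, zpow_mul, he', one_zpow])
  · exact Or.inr (by rw [← Int.mul_ediv_add_emod n 2, h, zpow_add, zpow_mul, he', one_zpow, one_mul, zpow_one])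

variable {V H A : Subgroup G}

/-- The elements of an abelian offender with the best-offender inequality are involutions. -/
theorem FF.sq_eq_one [Fact (Nat.Prime 2)] (h : FF 2 V H) (hAH : A ≤ H) (hab : IsMulCommutative A)
    (hAp : IsPGroup 2 A)
    (hmax : ∀ B ≤ A, Nat.card B * Nat.card ↥(V ⊓ centralizer (B : Set G)) ≤
      Nat.card A * Nat.card ↥(V ⊓ centralizer (A : Set G))) :
    ∀ a ∈ A, a ^ 2 = 1 := by
  induction hn : Nat.card A using Nat.strong_induction_on generalizing A with
  | _ n ih =>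
  by_cases hbot : A = ⊥
  · intro a ha
    rw [hbot, mem_bot] at ha
    rw [ha, one_pow]
  have hAV : A ≤ normalizer (V : Set G) := hAH.trans h.hHV
  have hVp := PGroup.isPGroup_of_elementaryAbelian h.hV
  have hcA : ∀ x ∈ A, ∀ y ∈ A, x * y = y * x := fun x hx y hy =>
    PGroup.mul_comm_of_isMulCommutative hab hx hy
  have habC : ⁅A, A⁆ ≤ centralizer (V : Set G) := by
    rw [commutator_eq_bot_iff_le_centralizer.mpr (show A ≤ centralizer (A : Set G) from
      fun x hx y hy => hcA y hy x hx)]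
    exact bot_le
  -- Timmesfeld replacement
  obtain ⟨h1, h2⟩ := timmesfeld h.hV.1 hAV habC hmax (le_refl V)
  set B := A ⊓ centralizer ((⁅V, A⁆ : Subgroup G) : Set G) with hB
  have hBA : B ≤ A := inf_le_left
  have hq : ⁅⁅V, B⁆, B⁆ = ⊥ := commutator_eq_bot_iff_le_centralizer.mpr
    ((commutator_mono le_rfl hBA).trans (le_centralizer_iff.mp inf_le_right))
  have hBbest : IsBestOffenderOn 2 V B :=
    ⟨fun C hC => (hmax C (hC.trans hBA)).trans_eq h2, (commutator_mono hBA hBA).trans habC,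
      fun b hb => pow_mem_centralizer_of_quadratic h.hV (hBA.trans hAV) hq hb⟩
  have hBne : B ≠ ⊥ := by
    intro e
    rw [e, show centralizer ((⊥ : Subgroup G) : Set G) = ⊤ from
      eq_top_iff.mpr (le_centralizer_iff.mp bot_le), inf_top_eq] at h1
    set X := ⁅V, A⁆ with hX
    have hXV : X ≤ V := commutator_le_left hAV
    have hXA : A ≤ normalizer (X : Set G) :=
      LocalStructure.le_normalizer_commutator hAV le_normalizer
    have hsub : X ≤ ⁅X, A⁆ := by
      refine Subgroup.commutator_le.mpr fun v hv a ha => ?_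
      have hn : X ≤ normalizer ((V ⊓ centralizer (A : Set G) : Subgroup G) : Set G) := fun x hx =>
        centralizer_le_normalizer _ fun y hy => commute_mem h.hV.1 hy.1 (hXV hx)
      obtain ⟨x, hx, c, hc, rfl⟩ := (Coprime.mem_sup_iff_of_le_normalizer hn).mp (h1.le hv)
      have hca : ⁅c, a⁆ = 1 := commutatorElement_eq_one_iff_mul_comm.mpr (hc.2 a ha).symm
      rw [show ⁅x * c, a⁆ = x * ⁅c, a⁆ * x⁻¹ * ⁅x, a⁆ by simp only [commutatorElement_def]; group,
        hca, mul_one, mul_inv_cancel, one_mul]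
      exact commutator_mem_commutator hx ha
    have hXbot : X = ⊥ := by
      by_contra hne
      exact (Coprime.commutator_lt_of_isPGroup hAp (hVp.to_le hXV) hXA hne).not_ge hsub
    exact hbot (h.eq_bot hAH hXbot)
  -- a transvection group inside `A`
  obtain ⟨k, F, hF, -, hsup⟩ := h.exists_tv_family (hBA.trans hAH) hBbest
  rcases Nat.eq_zero_or_pos k with rfl | hk
  · exact absurd (by rw [← hsup, iSup_of_empty]) hBne
  obtain ⟨hFB, hT⟩ := hF ⟨0, hk⟩
  set E := F ⟨0, hk⟩
  have hEA : E ≤ A := hFB.trans hBA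
  obtain ⟨a, e, x, P⟩ := h.exists_pair (hEA.trans hAH) hT
  set f := x * e * x⁻¹ with hf
  have haA : a ∈ A := hEA P.mem_a
  have he2 : e ^ 2 = 1 := h.hV.2 e P.mem
  have hf2 : f ^ 2 = 1 := h.hV.2 f P.f_mem
  have hAE : A ≤ centralizer (E : Set G) := fun c hc y hy => hcA y (hEA hy) c hc
  have hEn : A ≤ normalizer (E : Set G) := hAE.trans (centralizer_le_normalizer _)
  have hXn : A ≤ normalizer (P.X : Set G) := by
    rw [← P.eSub_eq]
    exact LocalStructure.le_normalizer_sup (LocalStructure.le_normalizer_commutator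
      (hAH.trans le_normalizer_qcore) hEn) hEn
  have hWn : A ≤ normalizer (P.W : Set G) := by
    rw [← P.W_eq]
    exact LocalStructure.le_normalizer_commutator hAV hXn
  have hfix : ∀ c ∈ A, c * e * c⁻¹ = e := by
    intro c hc
    have hm : c * e * c⁻¹ ∈ ⁅V, E⁆ :=
      (mem_normalizer_iff.mp (LocalStructure.le_normalizer_commutator hAV hEn hc) e).mp
        (P.comm ▸ mem_zpowers e)
    rw [P.comm] at hm
    exact (eq_one_or_eq_of_mem_zpowers he2 hm).resolve_left fun h1 =>
      P.e_ne_one (conj_eq_one_iff.mp h1)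
  have himg : ∀ c ∈ A, c * f * c⁻¹ = f ∨ c * f * c⁻¹ = e * f := by
    intro c hc
    obtain ⟨i, j, hij⟩ := P.exists_zpow ((mem_normalizer_iff.mp (hWn hc) f).mp
      (mem_sup_right (mem_zpowers f)))
    rw [hij]
    rcases eq_one_or_eq_of_mem_zpowers he2 (zpow_mem_zpowers e i) with hi | hi <;>
      rcases eq_one_or_eq_of_mem_zpowers hf2 (zpow_mem_zpowers f j) with hj | hj
    · exfalso
      rw [hi, hj, one_mul, conj_eq_one_iff] at hij
      exact P.e_ne_one (conj_eq_one_iff.mp hij)
    · exact Or.inl (by rw [hi, hj, one_mul])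
    · exfalso
      rw [hi, hj, mul_one] at hij
      have hfe : f = e := (MulAut.conj c).injective
        (by rw [MulAut.conj_apply, MulAut.conj_apply, hij, hfix c hc])
      exact P.not_commute (show Commute a f from hfe.symm ▸ P.commute)
    · exact Or.inr (by rw [hi, hj])
  have haf : a * f * a⁻¹ = e * f := (himg a haA).resolve_left fun h1 =>
    P.not_commute (mul_inv_eq_iff_eq_mul.mp h1)
  set A₀ := A ⊓ centralizer ({f} : Set G) with hA₀
  have haA₀ : a ∉ A₀ := fun h1 => P.not_commute (mem_centralizer_singleton_iff.mp h1.2)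
  have hsplit : ∀ c ∈ A, c ∈ A₀ ∨ a * c ∈ A₀ := by
    intro c hc
    rcases himg c hc with h1 | h1
    · exact Or.inl ⟨hc, mem_centralizer_singleton_iff.mpr (mul_inv_eq_iff_eq_mul.mp h1)⟩
    · refine Or.inr ⟨mul_mem haA hc, mem_centralizer_singleton_iff.mpr (mul_inv_eq_iff_eq_mul.mp ?_)⟩
      rw [show a * c * f * (a * c)⁻¹ = a * (c * f * c⁻¹) * a⁻¹ by group, h1,
        show a * (e * f) * a⁻¹ = (a * e * a⁻¹) * (a * f * a⁻¹) by group, hfix a haA, haf,
        ← mul_assoc, ← sq, he2, one_mul]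
  have hA0A : A₀ < A := lt_of_le_of_ne inf_le_left fun e0 => haA₀ (e0 ▸ haA)
  have hcard : Nat.card A ≤ 2 * Nat.card A₀ := by
    have hsA : A ≤ zpowers a ⊔ A₀ := by
      intro c hc
      rcases hsplit c hc with h1 | h1
      · exact mem_sup_right h1
      · rw [show c = a⁻¹ * (a * c) by group]
        exact mul_mem (mem_sup_left (inv_mem (mem_zpowers a))) (mem_sup_right h1)
    have hn : zpowers a ≤ normalizer (A₀ : Set G) :=
      (show zpowers a ≤ centralizer (A₀ : Set G) from
        zpowers_le.mpr fun y hy => hcA y hy.1 a haA).trans (centralizer_le_normalizer _)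
    have e1 := card_sup_mul_card_inf hn
    rw [Nat.card_zpowers, P.order_a] at e1
    exact (card_le_of_le hsA).trans ((Nat.le_mul_of_pos_right _ Nat.card_pos).trans e1.le)
  have hCC : 2 * Nat.card ↥(V ⊓ centralizer (A : Set G)) ≤
      Nat.card ↥(V ⊓ centralizer (A₀ : Set G)) := by
    have hle : V ⊓ centralizer (A : Set G) ≤ V ⊓ centralizer (A₀ : Set G) :=
      inf_le_inf_left _ (centralizer_le (SetLike.coe_subset_coe.mpr hA0A.le))
    have hne : V ⊓ centralizer (A : Set G) ≠ V ⊓ centralizer (A₀ : Set G) := by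
      intro e0
      have hfC : f ∈ V ⊓ centralizer (A₀ : Set G) :=
        ⟨P.f_mem, fun y hy => mem_centralizer_singleton_iff.mp hy.2⟩
      rw [← e0] at hfC
      exact P.not_commute (hfC.2 a haA)
    obtain ⟨m, hm⟩ := card_dvd_of_le hle
    have h2m : 2 ≤ m := by
      by_contra hlt
      refine hne (eq_of_le_of_card_ge hle ?_)
      rw [hm]
      exact (Nat.mul_le_mul_left _ (by omega : m ≤ 1)).trans (mul_one _).le
    rw [hm, mul_comm 2]
    exact Nat.mul_le_mul_left _ h2m
  have hoff : Nat.card A * Nat.card ↥(V ⊓ centralizer (A : Set G)) ≤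
      Nat.card A₀ * Nat.card ↥(V ⊓ centralizer (A₀ : Set G)) := by
    refine (Nat.mul_le_mul_right _ hcard).trans ?_
    rw [mul_comm 2, mul_assoc]
    exact Nat.mul_le_mul_left _ hCC
  have hlt : Nat.card A₀ < n :=
    hn ▸ (Set.toFinite _).card_lt_card (SetLike.coe_ssubset_coe.mpr hA0A)
  have hsq := ih _ hlt (A := A₀) (hA0A.le.trans hAH)
    (PGroup.isMulCommutative_of_forall fun u hu v hv => hcA u hu.1 v hv.1) (hAp.to_le hA0A.le)
    (fun C hC => (hmax C (hC.trans hA0A.le)).trans hoff) rfl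
  have ha2 : a ^ 2 = 1 := by rw [← P.order_a, pow_orderOf_eq_one]
  intro c hc
  rcases hsplit c hc with h1 | h1
  · exact hsq c h1
  · have := hsq _ h1
    rwa [Commute.mul_pow (hcA a haA c hc), ha2, one_mul] at this

/-- An abelian 2-group with the best-offender inequality is a best offender. -/
theorem FF.isBestOffenderOn_of_abelian [Fact (Nat.Prime 2)] (h : FF 2 V H) (hAH : A ≤ H)
    (hab : IsMulCommutative A) (hAp : IsPGroup 2 A)
    (hmax : ∀ B ≤ A, Nat.card B * Nat.card ↥(V ⊓ centralizer (B : Set G)) ≤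
      Nat.card A * Nat.card ↥(V ⊓ centralizer (A : Set G))) : IsBestOffenderOn 2 V A := by
  refine ⟨hmax, ?_, fun a ha => ?_⟩
  · rw [commutator_eq_bot_iff_le_centralizer.mpr (show A ≤ centralizer (A : Set G) from
      fun x hx y hy => PGroup.mul_comm_of_isMulCommutative hab hy hx)]
    exact bot_le
  · rw [h.sq_eq_one hAH hab hAp hmax a ha]
    exact one_mem _

/-- The group generated by best offenders is a power of `S₃`. -/
theorem Gen.exists_pi_perm_three [Fact (Nat.Prime 2)] (h : Gen 2 V H) (hH : H ≠ ⊥) :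
    ∃ n : ℕ, 1 ≤ n ∧ Nonempty (↥H ≃* (Fin n → Equiv.Perm (Fin 3))) := by
  classical
  have := Fintype.ofFinite ↥(eFam 2 V H)
  have hiso : ∀ E : eFam 2 V H, Nonempty (↥(E : Subgroup G) ≃* Equiv.Perm (Fin 3)) := by
    rintro ⟨E, A, hAH, hT, rfl⟩
    obtain ⟨a, e, x, P⟩ := h.toFF.exists_pair hAH hT
    obtain ⟨θ⟩ := P.exists_iso
    obtain ⟨ψ⟩ := PSL2.sl_two_iso (F := ZMod 2) (ZMod.card 2)
    exact ⟨(MulEquiv.subgroupCongr P.eSub_eq).trans (θ.trans ψ)⟩
  let φ := fun E => (hiso E).some
  let ι : eFam 2 V H → Equiv.Perm (Fin 3) →* G :=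
    fun E => (E : Subgroup G).subtype.comp (φ E).symm.toMonoidHom
  have hmem : ∀ (E : eFam 2 V H) (y : Equiv.Perm (Fin 3)), ι E y ∈ (E : Subgroup G) := fun E y => ((φ E).symm y).2
  have hcomm : Pairwise fun E E' => ∀ y z, Commute (ι E y) (ι E' z) := fun E E' hne y z =>
    (h.toFF.eFam_commute E'.2 E.2 (fun e0 => hne (Subtype.ext e0))).1 (hmem E y) _ (hmem E' z) |>.symm
  have hrange : ∀ E : eFam 2 V H, (ι E).range = (E : Subgroup G) := fun E => by
    refine le_antisymm (by rintro _ ⟨y, rfl⟩; exact hmem E y) fun g hg =>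
      ⟨φ E ⟨g, hg⟩, ?_⟩
    simp [ι]
  have hinj : ∀ E, Function.Injective (ι E) := fun E =>
    (Subgroup.subtype_injective _).comp (φ E).symm.injective
  have hind : iSupIndep fun E => (ι E).range := by
    simp only [hrange]
    rintro ⟨E, A, hAH, hT, rfl⟩
    rw [disjoint_iff, ← le_bot_iff]
    refine le_trans (inf_le_inf_left _ ?_) (h.toFF.eSub_inf_centralizer hAH hT).le
    refine iSup₂_le fun F hF => (h.toFF.eFam_commute ⟨A, hAH, hT, rfl⟩ F.2 ?_).2
    exact fun e0 => hF (Subtype.ext e0)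
  let Φ := MonoidHom.noncommPiCoprod ι hcomm
  have hΦ : Function.Injective Φ :=
    MonoidHom.injective_noncommPiCoprod_of_iSupIndep (ϕ := ι) hind hinj
  have hΦr : Φ.range = H := by
    rw [MonoidHom.noncommPiCoprod_range]
    simp only [hrange]
    rw [iSup_subtype]
    exact h.eFam_iSup_eq
  let e₁ : (eFam 2 V H → Equiv.Perm (Fin 3)) ≃* ↥H :=
    (MonoidHom.ofInjective hΦ).trans (MulEquiv.subgroupCongr hΦr)
  refine ⟨Nat.card ↥(eFam 2 V H), ?_, ⟨e₁.symm.trans
    (MulEquiv.arrowCongr (Finite.equivFin _) (MulEquiv.refl _))⟩⟩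
  rw [Nat.one_le_iff_ne_zero]
  intro h0
  obtain ⟨A, hAH, hT⟩ := h.exists_tv hH
  have : IsEmpty ↥(eFam 2 V H) := Finite.card_eq_zero_iff.mp h0
  exact isEmptyElim (⟨_, A, hAH, hT, rfl⟩ : ↥(eFam 2 V H))

end Cfsg.Agent.Offender
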