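import Cfsg.Agent.Lib.Offender.PlaneSFour
import Cfsg.Agent.Lib.PComplement.ThompsonTwo
import Cfsg.Agent.Lib.ConjFun.Parts

/-!
# `J(S)` is normal in constrained `S₄`-free groups with `S` of class at most 2

`thompsonSubgroupOf_normal_of_constrained`.
-/

set_option autoImplicit false

namespace Cfsg.Agent.Offender

open Subgroup Subnormal
open scoped commutatorElement

universe u

variable {G : Type u} [Group G] [Finite G]

theorem thompsonSubgroupOf_normal_of_constrained
    (hc : centralizer (Cfsg.pCore 2 G : Set G) ≤ Cfsg.pCore 2 G)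
    (hS4 : ¬ Cfsg.Involves (Equiv.Perm (Fin 4)) G) (S : Sylow 2 G)
    (hcl : ∀ x ∈ (S : Subgroup G), ∀ y ∈ (S : Subgroup G), ∀ z ∈ (S : Subgroup G),
      ⁅x, y⁆ * z = z * ⁅x, y⁆) :
    (Cfsg.thompsonSubgroupOf 2 (S : Subgroup G)).Normal := by
  haveI : Fact (Nat.Prime 2) := ⟨Nat.prime_two⟩
  set J := Cfsg.thompsonSubgroupOf 2 (S : Subgroup G) with hJ
  have hJS : J ≤ (S : Subgroup G) := thompsonSubgroupOf_le _
  obtain ⟨A₀, hA₀, hA₀S⟩ := exists_max_le_sylow S
  suffices key : ∀ n, ∀ H : Subgroup G, Nat.card H = n → (S : Subgroup G) ≤ H →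
      H ≤ normalizer (J : Set G) by
    exact normalizer_eq_top_iff.mp (top_le_iff.mp (key _ ⊤ rfl le_top))
  intro n
  induction n using Nat.strong_induction_on with
  | _ n ihn =>
  intro H hn hSH
  subst hn
  by_contra hbad
  set M := H ⊓ normalizer (J : Set G) with hM
  have huniq : ∀ K : Subgroup G, K < H → (S : Subgroup G) ≤ K → K ≤ M := fun K hK hSK =>
    le_inf hK.le (ihn _ (lt_of_le_of_ne (card_le_of_le hK.le) fun he =>
      hK.ne (eq_of_le_of_card_ge hK.le he.ge)) K rfl hSK)
  have hSN : (S : Subgroup G) ≤ normalizer (J : Set G) :=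
    le_normalizer.trans (normalizer_le_normalizer_thompsonSubgroupOf _)
  have hMH : M < H := lt_of_le_of_ne inf_le_left fun he => hbad (inf_eq_left.mp he)
  set Q := Cfsg.pCore 2 G with hQ
  have hQS : Q ≤ (S : Subgroup G) := PCore.pCore_le_sylow S
  have hQn : Q.Normal := PCore.pCore_normal
  set ZQ := Q ⊓ centralizer (Q : Set G) with hZQ
  have hZQc : IsMulCommutative ZQ :=
    PGroup.isMulCommutative_of_forall fun a ha b hb => (ha.2 b hb.1).symm
  let V : Subgroup G :=
    { carrier := {x | x ∈ ZQ ∧ x ^ 2 = 1}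
      one_mem' := ⟨one_mem _, one_pow 2⟩
      mul_mem' := fun {x y} hx hy => ⟨mul_mem hx.1 hy.1, by
        rw [(show Commute x y from commute_mem hZQc hx.1 hy.1).mul_pow, hx.2, hy.2, one_mul]⟩
      inv_mem' := fun {x} hx => ⟨inv_mem hx.1, by rw [inv_pow, hx.2, inv_one]⟩ }
  have hVe : IsElementaryAbelian 2 V :=
    ⟨PGroup.isMulCommutative_of_forall fun x hx y hy => commute_mem hZQc hx.1 hy.1, fun x hx => hx.2⟩
  have hVn : ∀ x ∈ V, ∀ g : G, g * x * g⁻¹ ∈ V := fun x hx g =>
    ⟨(inferInstance : ZQ.Normal).conj_mem x hx.1 g, by rw [conj_pow, hx.2, mul_one, mul_inv_cancel]⟩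
  have hVS : V ≤ (S : Subgroup G) := fun x hx => hQS hx.1.1
  -- the involutions of `Z(S)` lie in `V`
  have hZSV : ∀ f : G, f ∈ (S : Subgroup G) → f ^ 2 = 1 → f ∈ centralizer ((S : Subgroup G) : Set G) →
      f ∈ V := fun f hf h2 hfc =>
    have hfQ : f ∈ centralizer (Q : Set G) := fun q hq => hfc q (hQS hq)
    ⟨⟨hc hfQ, hfQ⟩, h2⟩
  by_cases hex : ∃ f ∈ (S : Subgroup G), f ^ 2 = 1 ∧ f ∈ centralizer ((S : Subgroup G) : Set G) ∧
      ¬ H ≤ centralizer ({f} : Set G)
  · obtain ⟨f, hfS, hf2, hfc, hfH⟩ := hex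
    set U := closure {y | ∃ x ∈ H, y = x * f * x⁻¹} with hU
    have hfV := hZSV f hfS hf2 hfc
    have hUV : U ≤ V := (closure_le _).mpr (by
      rintro _ ⟨x, -, rfl⟩
      exact hVn f hfV x)
    have hUe : IsElementaryAbelian 2 U := PGroup.isElementaryAbelian_mono hVe hUV
    have hHU : H ≤ normalizer (U : Set G) := by
      intro y hy
      refine mem_normalizer_of_cj_le ?_
      rw [cj, hU, MonoidHom.map_closure, closure_le]
      rintro _ ⟨_, ⟨x, hx, rfl⟩, rfl⟩
      exact subset_closure ⟨y * x, mul_mem hy hx, by simp [mul_assoc]⟩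
    have hfU : f ∈ U := subset_closure ⟨1, one_mem _, by simp⟩
    have hSf : (S : Subgroup G) ≤ centralizer ({f} : Set G) := fun s hs =>
      mem_centralizer_singleton_iff.mpr (hfc s hs)
    obtain ⟨A, hA, hAS, hAU⟩ : ∃ A ∈ maxElementaryAbelianSubgroups 2 G,
        A ≤ (S : Subgroup G) ∧ ¬ A ≤ centralizer (U : Set G) := by
      by_contra hcon
      push Not at hcon
      have hJU : J ≤ centralizer (U : Set G) := by
        rw [hJ, thompsonSubgroupOf_eq hA₀ hA₀S]
        exact sSup_le fun B hB => hcon B hB.1 hB.2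
      set K := H ⊓ centralizer (U : Set G) with hK
      have hKH : K ≤ M := (le_inf inf_le_left (inf_le_right.trans (centralizer_le (by
        simpa using hfU)))).trans (huniq _ (lt_of_le_of_ne inf_le_left fun he =>
          hfH (inf_eq_left.mp he)) (le_inf hSH hSf))
      haveI hKn : (K.subgroupOf H).Normal := by
        refine (normal_subgroupOf_iff_le_normalizer inf_le_left).mpr ?_
        exact LocalStructure.le_normalizer_inf le_normalizer (LocalStructure.le_normalizer_centralizer hHU)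
      let P : Sylow 2 H := S.subtype hSH
      obtain ⟨R, hR⟩ := exists_sylow_eq_inf P (K.subgroupOf H)
      have htop := R.normalizer_sup_eq_top (N := K.subgroupOf H)
      rw [hR] at htop
      refine hbad fun g hg => ?_
      obtain ⟨m, hm, k, hk, hmk⟩ := mem_sup_of_normal_right.mp (htop.ge (mem_top (⟨g, hg⟩ : H)))
      rw [show g = (m : G) * k from (congrArg Subtype.val hmk).symm]
      refine mul_mem ?_ (hKH (mem_subgroupOf.mp hk)).2
      have hmR : (m : G) ∈ normalizer (((S : Subgroup G) ⊓ K : Subgroup G) : Set G) := by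
        refine mem_normalizer_of_cj_le ?_
        rintro _ ⟨s, hs, rfl⟩
        have h1 := (mem_normalizer_iff.mp hm (⟨s, hSH hs.1⟩ : H)).mp ⟨hs.1, hs.2⟩
        exact ⟨h1.1, h1.2⟩
      have hJK : J ≤ (S : Subgroup G) ⊓ K := le_inf hJS (le_inf (hJS.trans hSH) hJU)
      have he := thompsonSubgroupOf_eq_of_le hA₀ hA₀S (inf_le_left : (S : Subgroup G) ⊓ K ≤ _) hJK
      have h2 := normalizer_le_normalizer_thompsonSubgroupOf (p := 2) _ hmR
      rwa [he] at h2
    obtain ⟨B, hB, hBS, hBn, hBq, hBU⟩ := exists_quadratic_max hUe (hUV.trans hVS) hA hAS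
      ((hAS.trans hSH).trans hHU) hAU
    set F := U ⊓ centralizer (J : Set G) with hF
    have hdata : TwoFF U H (S : Subgroup G) B M F f :=
      { hV := hUe
        hXV := hHU
        hTX := hSH
        hT := S.2
        hTi := fun hd => S.not_dvd_index (hd.trans (relIndex_dvd_index_of_le hSH))
        hAT := hBS
        hbest := (isBestOffenderOn_of_max hUe hB).1
        hquad := hBq
        hne := hBU
        hfV := hfU
        hfT := hSf
        hfX := hfH
        hgen := le_rfl
        hMX := hMH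
        hTM := le_inf hSH hSN
        huniq := huniq
        hMF := LocalStructure.le_normalizer_inf (inf_le_left.trans hHU)
          (LocalStructure.le_normalizer_centralizer inf_le_right)
        hfF := ⟨hfU, fun j hj => hfc j (hJS hj)⟩
        hFV := inf_le_left
        hFA := fun z hz hzM => by
          obtain ⟨m, hm, hmS⟩ := exists_cj_le (le_inf hSH hSN : (S : Subgroup G) ≤ M) S.2
            (fun hd => S.not_dvd_index ((hd.trans (relIndex_dvd_of_le_left' (le_inf hSH hSN) inf_le_left)).trans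
              (relIndex_dvd_index_of_le hSH))) hzM
            ((PGroup.isPGroup_of_elementaryAbelian hB.1).map _)
          rw [← cj_mul] at hmS
          have h1 : cj (m * z) B ≤ J := le_thompsonSubgroupOf (conj_mem_max _ hB) hmS
          have h2 : cj z B ≤ J := by
            have h3 := cj_mono (g := m⁻¹) h1
            rw [← cj_mul, inv_mul_cancel_left] at h3
            exact h3.trans (cj_eq_of_mem_normalizer (inv_mem hm.2)).le
          exact h2.trans (le_centralizer_iff.mp inf_le_right) }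
    exact hS4 (hdata.exists_plane.involves_sfour hUe)
  · -- the involutions of `Z(S)` are central in `H`
    push Not at hex
    have hcom : ∀ s ∈ (S : Subgroup G), ∀ x ∈ (S : Subgroup G), ⁅x, s⁆ ∈ centralizer ((S : Subgroup G) : Set G) :=
      fun s hs x hx z hz => (hcl x hx s hs z hz).symm
    set C := V ⊓ centralizer (H : Set G) with hC
    let N : Subgroup G :=
      { carrier := {x | x ∈ H ∧ (∀ v ∈ V, ⁅x, v⁆ ∈ C) ∧ ∀ q ∈ Q, ⁅x, q⁆ ∈ ZQ}
        one_mem' := ⟨one_mem _, fun v _ => by simp, fun q _ => by simp⟩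
        mul_mem' := fun {x y} hx hy => ⟨mul_mem hx.1 hy.1, fun v hv => by
          rw [show ⁅x * y, v⁆ = x * ⁅y, v⁆ * x⁻¹ * ⁅x, v⁆ by simp only [commutatorElement_def]; group,
            (hy.2.1 v hv).2 x hx.1, mul_inv_cancel_right]
          exact mul_mem (hy.2.1 v hv) (hx.2.1 v hv), fun q hq => by
          rw [show ⁅x * y, q⁆ = x * ⁅y, q⁆ * x⁻¹ * ⁅x, q⁆ by simp only [commutatorElement_def]; group]
          exact mul_mem ((inferInstance : ZQ.Normal).conj_mem _ (hy.2.2 q hq) x) (hx.2.2 q hq)⟩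
        inv_mem' := fun {x} hx => ⟨inv_mem hx.1, fun v hv => by
          rw [show ⁅x⁻¹, v⁆ = x⁻¹ * ⁅x, v⁆⁻¹ * x by simp only [commutatorElement_def]; group,
            (inv_mem (hx.2.1 v hv) : ⁅x, v⁆⁻¹ ∈ C).2 x⁻¹ (inv_mem hx.1), inv_mul_cancel_right]
          exact inv_mem (hx.2.1 v hv), fun q hq => by
          rw [show ⁅x⁻¹, q⁆ = x⁻¹ * ⁅x, q⁆⁻¹ * (x⁻¹)⁻¹ by simp only [commutatorElement_def]; group]
          exact (inferInstance : ZQ.Normal).conj_mem _ (inv_mem (hx.2.2 q hq)) x⁻¹⟩ }
    have hHV : H ≤ normalizer (C : Set G) := by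
      refine LocalStructure.le_normalizer_inf (fun y _ => mem_normalizer_of_cj_le ?_)
        (LocalStructure.le_normalizer_centralizer le_normalizer)
      rintro _ ⟨x, hx, rfl⟩
      exact hVn x hx y
    have hHN : H ≤ normalizer (N : Set G) := fun y hy => mem_normalizer_of_cj_le (by
      rintro _ ⟨x, hx, rfl⟩
      refine ⟨mul_mem (mul_mem hy hx.1) (inv_mem hy), fun v hv => ?_, fun q hq => ?_⟩
      · have hv' : y⁻¹ * v * y ∈ V := by simpa using hVn v hv y⁻¹
        have h1 := (mem_normalizer_iff.mp (hHV hy) _).mp (hx.2.1 _ hv')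
        convert h1 using 1
        simp only [MulEquiv.coe_toMonoidHom, MulAut.conj_apply, commutatorElement_def]
        group
      · have hq' : y⁻¹ * q * y ∈ Q := by simpa using hQn.conj_mem q hq y⁻¹
        have h1 := (inferInstance : ZQ.Normal).conj_mem _ (hx.2.2 _ hq') y
        convert h1 using 1
        simp only [MulEquiv.coe_toMonoidHom, MulAut.conj_apply, commutatorElement_def]
        group)
    have hSN' : (S : Subgroup G) ≤ N := by
      intro s hs
      refine ⟨hSH hs, fun v hv => ?_, fun q hq => ?_⟩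
      · have hm : ⁅s, v⁆ ∈ V := by
          rw [commutatorElement_def]; exact mul_mem (hVn v hv s) (inv_mem hv)
        refine ⟨hm, fun h hh => ?_⟩
        exact mem_centralizer_singleton_iff.mp (hex _ (hVS hm) hm.2 (hcom v (hVS hv) s hs) hh)
      · refine ⟨?_, fun z hz => (hcl s hs q (hQS hq) z (hQS hz)).symm⟩
        show ⁅s, q⁆ ∈ Q
        rw [commutatorElement_def]
        exact mul_mem (hQn.conj_mem q hq s) (inv_mem hq)
    -- `N` is a 2-group
    have hN2 : IsPGroup 2 N := by
      intro x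
      obtain ⟨x₁, x₂, hxe, hx₁, hx₂, m, hm⟩ := ConjFun.exists_decomp (p := 2) (x : G)
      have hx₂N : x₂ ∈ N := by
        rw [show x₂ = x₁⁻¹ * x by rw [hxe, inv_mul_cancel_left], hm]
        exact mul_mem (inv_mem (pow_mem x.2 m)) x.2
      have hfixV : ∀ v ∈ ZQ, v ^ 2 = 1 → Commute v x₂ := fun v hv hv2 => by
        have hcv := hx₂N.2.1 v ⟨hv, hv2⟩
        exact (Coprime.commute_of_translate (z := ⁅x₂, v⁆) (by simp [commutatorElement_def, mul_assoc])
          (show Commute x₂ ⁅x₂, v⁆ from hcv.2 x₂ hx₂N.1)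
          (hx₂.coprime_dvd_right (orderOf_dvd_of_pow_eq_one hcv.1.2))).symm
      have hfixZ : ∀ z ∈ ZQ, Commute z x₂ :=
        PComplement.commute_of_omega_abelian ZQ hZQc ((PCore.isPGroup_pCore (p := 2)).to_le inf_le_left) hx₂
          (fun z hz => (inferInstance : ZQ.Normal).conj_mem z hz x₂) hfixV
      have hfixQ : x₂ ∈ centralizer (Q : Set G) := by
        intro q hq
        have hz := hx₂N.2.2 q hq
        obtain ⟨k, hk⟩ := (PCore.isPGroup_pCore (p := 2) (G := G)) ⟨⁅x₂, q⁆, hz.1⟩
        exact (Coprime.commute_of_translate (z := ⁅x₂, q⁆) (by simp [commutatorElement_def, mul_assoc])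
          (hfixZ _ hz).symm ((hx₂.pow_right k).coprime_dvd_right
            (orderOf_dvd_of_pow_eq_one (congrArg Subtype.val hk : ⁅x₂, q⁆ ^ 2 ^ k = 1)))).eq.symm
      obtain ⟨k, hk⟩ := (PCore.isPGroup_pCore (p := 2) (G := G)) ⟨x₂, hc hfixQ⟩
      have h1 : x₂ = 1 := orderOf_eq_one_iff.mp (Nat.eq_one_of_dvd_coprimes (hx₂.pow_right k) dvd_rfl
        (orderOf_dvd_of_pow_eq_one (congrArg Subtype.val hk : x₂ ^ 2 ^ k = 1)))
      obtain ⟨j, hj⟩ := hx₁ ⟨x₁, mem_zpowers x₁⟩
      exact ⟨j, Subtype.ext (by rw [Subgroup.coe_pow, hxe, h1, mul_one]; exact congrArg Subtype.val hj)⟩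
    have hNS : N = (S : Subgroup G) := S.3 hN2 hSN'
    exact hbad (hHN.trans (hNS ▸ normalizer_le_normalizer_thompsonSubgroupOf _))

end Cfsg.Agent.Offender
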