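import Cfsg.Agent.Lib.Offender.Decomposition

/-!
# A coprime operator group on the structure of failure of factorization

`T` is a `q`-group (`q ≥ 5`) normalizing `V` and `H` in the setting of the structure theorem.

* `fixed_of_card_lt`: a `q`-group fixes every point of a set with fewer than `q` points
* `Pair.commute_of_normalizes`: a `q`-element normalizing `⟨A, A^x⟩` centralizes it and its plane
* `Gen.eSub_conj`, `Gen.exists_fixed_realizing`: every element of a factor is realized by a fixed point of `T`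
* `Gen.exists_fixed_plane`: an equivariant copy of each plane inside the fixed points of `T`
-/

set_option autoImplicit false

namespace Cfsg.Agent.Offender

open Subgroup
open scoped commutatorElement Pointwise

universe u

/-- A `q`-group fixes every point of a set with fewer than `q` points. -/
theorem fixed_of_card_lt {M α : Type*} [Group M] [MulAction M α] [Finite α] {q : ℕ} [hq : Fact q.Prime]
    (hM : IsPGroup q M) (hlt : Nat.card α < q) (a : α) (m : M) : m • a = a := by
  obtain ⟨n, hn⟩ := hM.card_orbit a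
  have hle : Nat.card (MulAction.orbit M a) ≤ Nat.card α :=
    Nat.card_le_card_of_injective _ Subtype.val_injective
  have hn0 : n = 0 := by
    by_contra h0
    have := Nat.le_self_pow h0 q
    omega
  rw [hn0, pow_zero, Nat.card_eq_one_iff_unique] at hn
  exact congrArg Subtype.val (hn.1.elim ⟨_, MulAction.mem_orbit a m⟩ ⟨a, MulAction.mem_orbit_self a⟩)

variable {G : Type u} [Group G] [Finite G] {p : ℕ} [hp : Fact p.Prime] {q : ℕ} [hq : Fact q.Prime]

/-- A `q`-element normalizing a group of order two or three centralizes it. -/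
theorem commute_of_conj_mem_zpowers (hp3 : p = 2 ∨ p = 3) (hq5 : 5 ≤ q) {t u : G} (hu : orderOf u = p)
    {k : ℕ} (ht : t ^ q ^ k = 1) (hn : t ∈ normalizer (zpowers u : Set G)) : Commute t u := by
  set s := (zpowers u).normalizerMonoidHom ⟨t, hn⟩ with hs
  have h1 : orderOf s ∣ p - 1 := by
    have h := orderOf_dvd_natCard s
    rwa [IsCyclic.card_mulAut, Nat.card_zpowers, hu, Nat.totient_prime hp.out] at h
  have h2 : orderOf s ∣ q ^ k := orderOf_dvd_of_pow_eq_one (by
    rw [hs, ← map_pow]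
    exact (congrArg _ (Subtype.ext (by simpa using ht))).trans (map_one _))
  have hcop : Nat.Coprime (p - 1) (q ^ k) := by
    refine Nat.Coprime.pow_right k (Nat.Coprime.symm ((hq.out.coprime_iff_not_dvd).mpr fun hd => ?_))
    have h := Nat.le_of_dvd (by rcases hp3 with rfl | rfl <;> norm_num) hd
    rcases hp3 with rfl | rfl <;> omega
  have hker : (⟨t, hn⟩ : normalizer (zpowers u : Set G)) ∈ (zpowers u).normalizerMonoidHom.ker :=
    MonoidHom.mem_ker.mpr (orderOf_eq_one_iff.mp (Nat.eq_one_of_dvd_coprimes hcop h1 h2))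
  rw [normalizerMonoidHom_ker, mem_subgroupOf] at hker
  exact (hker u (mem_zpowers u)).symm

/-- An element normalizing `[V, B]` factors of a commuting generator. -/
theorem mem_normalizer_commutator {V B : Subgroup G} {t : G} (htV : t ∈ normalizer (V : Set G))
    (htB : t ∈ normalizer (B : Set G)) : t ∈ normalizer ((⁅V, B⁆ : Subgroup G) : Set G) := by
  refine Subnormal.mem_normalizer_of_cj_le ?_
  rw [Subnormal.cj, map_commutator]
  exact commutator_mono (Subnormal.cj_eq_of_mem_normalizer htV).le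
    (Subnormal.cj_eq_of_mem_normalizer htB).le

variable {V H A : Subgroup G} {a e x : G}

/-- A `q`-element normalizing `V` and `⟨A, A^x⟩` centralizes the latter and its plane. -/
theorem Pair.commute_of_normalizes (P : Pair p V H A a e x) (hq5 : 5 ≤ q) {t : G} {k : ℕ}
    (ht : t ^ q ^ k = 1) (htV : t ∈ normalizer (V : Set G)) (htX : t ∈ normalizer (P.X : Set G)) :
    (∀ g ∈ P.X, Commute t g) ∧ ∀ w ∈ P.W, Commute t w := by
  have hp3 := P.p_eq_two_or_three
  obtain ⟨θ⟩ := P.exists_iso
  have hcardX : Nat.card P.X = p * (p ^ 2 - 1) := by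
    rw [Nat.card_congr θ.toEquiv, GL.card_SL2, ZMod.card]
  -- the Sylow `p`-subgroups of `X` are fewer than `q`
  have hsyl : Nat.card (Sylow p P.X) < q := by
    let R : Sylow p P.X := default
    have h1 := R.card_dvd_index
    have hR : Nat.card (R : Subgroup P.X) = p := by
      obtain ⟨n, hn⟩ := IsPGroup.iff_card.mp R.2
      have h2 : p ^ n ∣ p * (p ^ 2 - 1) := hn ▸ hcardX ▸ card_subgroup_dvd_card (R : Subgroup P.X)
      have h3 : p ^ 1 ∣ Nat.card (R : Subgroup P.X) :=
        R.pow_dvd_card_of_pow_dvd_card (by rw [pow_one, hcardX]; exact dvd_mul_right _ _)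
      rw [hn] at h3 ⊢
      have hn2 : ¬ p ^ 2 ∣ p * (p ^ 2 - 1) := by rcases hp3 with rfl | rfl <;> norm_num
      have hn1 : n ≤ 1 := by
        by_contra hlt
        exact hn2 ((pow_dvd_pow p (by omega : 2 ≤ n)).trans h2)
      have hn0 : 1 ≤ n := (Nat.pow_dvd_pow_iff_le_right hp.out.one_lt).mp h3
      rw [show n = 1 by omega, pow_one]
    have hidx : (R : Subgroup P.X).index = p ^ 2 - 1 := by
      have h := (R : Subgroup P.X).card_mul_index
      rw [hR, hcardX] at h
      exact Nat.eq_of_mul_eq_mul_left hp.out.pos h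
    rw [hidx] at h1
    have h4 := card_sylow_modEq_one p P.X
    have h5 := Nat.le_of_dvd (by rcases hp3 with rfl | rfl <;> norm_num) h1
    rcases hp3 with rfl | rfl
    · norm_num at h5; omega
    · unfold Nat.ModEq at h4
      norm_num at h1 h5
      interval_cases Nat.card (Sylow 3 P.X) <;> omega
  -- `t` fixes each of them, hence the two generators
  set s := P.X.normalizerMonoidHom ⟨t, htX⟩ with hs
  have hsq : IsPGroup q (zpowers s) := by
    intro y
    refine ⟨k, ?_⟩
    obtain ⟨n, hn⟩ := mem_zpowers_iff.mp y.2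
    refine Subtype.ext ?_
    rw [Subgroup.coe_pow, ← hn, ← zpow_natCast, ← zpow_mul, mul_comm, zpow_mul, zpow_natCast, hs,
      ← map_pow, show (⟨t, htX⟩ : normalizer (P.X : Set G)) ^ q ^ k = 1 from Subtype.ext (by simpa using ht),
      map_one, one_zpow, OneMemClass.coe_one]
  have hgen : ∀ g : G, g ∈ P.X → orderOf g = p → t ∈ normalizer (zpowers g : Set G) := by
    intro g hg hord
    obtain ⟨S, hS⟩ : ∃ S : Sylow p P.X, (S : Subgroup P.X) = zpowers (⟨g, hg⟩ : P.X) := by
      have hcard : Nat.card (zpowers (⟨g, hg⟩ : P.X)) = p := by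
        rw [Nat.card_zpowers, Subgroup.orderOf_mk, hord]
      have hidx : ¬ p ∣ (zpowers (⟨g, hg⟩ : P.X)).index := by
        have h := (zpowers (⟨g, hg⟩ : P.X)).card_mul_index
        rw [hcard, hcardX] at h
        rw [Nat.eq_of_mul_eq_mul_left hp.out.pos h]
        rcases hp3 with rfl | rfl <;> norm_num
      exact ⟨(IsPGroup.of_card (n := 1) (by rw [hcard, pow_one])).toSylow hidx, rfl⟩
    have hfix := fixed_of_card_lt (M := zpowers s) hsq hsyl S ⟨s, mem_zpowers s⟩
    have hfix' : s • (S : Subgroup P.X) = (S : Subgroup P.X) := by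
      conv_rhs => rw [← hfix]
      rfl
    refine Subnormal.mem_normalizer_of_cj_le ?_
    rintro _ ⟨y, hy, rfl⟩
    show t * y * t⁻¹ ∈ zpowers g
    obtain ⟨n, rfl⟩ := mem_zpowers_iff.mp hy
    have hmem : s (⟨g, hg⟩ ^ n : P.X) ∈ (S : Subgroup P.X) := by
      rw [← hfix']
      exact Subgroup.smul_mem_pointwise_smul _ s _ (hS ▸ zpow_mem (mem_zpowers _) n)
    rw [hS] at hmem
    obtain ⟨m, hm⟩ := mem_zpowers_iff.mp hmem
    have h6 := congrArg Subtype.val hm
    rw [SubgroupClass.coe_zpow] at h6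
    refine mem_zpowers_iff.mpr ⟨m, h6.trans ?_⟩
    rw [hs]
    show t * ((⟨g, hg⟩ ^ n : P.X) : G) * t⁻¹ = t * g ^ n * t⁻¹
    rw [SubgroupClass.coe_zpow]
  have hob : orderOf (x * a * x⁻¹) = p := by
    rw [← MulAut.conj_apply, MulEquiv.orderOf_eq, P.order_a]
  have hta : Commute t a :=
    commute_of_conj_mem_zpowers hp3 hq5 P.order_a ht (hgen a P.a_memX P.order_a)
  have htb : Commute t (x * a * x⁻¹) :=
    commute_of_conj_mem_zpowers hp3 hq5 hob ht (hgen _ P.b_memX hob)
  have hX : P.X ≤ centralizer ({t} : Set G) := P.X_le_iff.mpr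
    ⟨mem_centralizer_singleton_iff.mpr hta.eq.symm, mem_centralizer_singleton_iff.mpr htb.eq.symm⟩
  refine ⟨fun g hg => (mem_centralizer_singleton_iff.mp (hX hg)).symm, fun w hw => ?_⟩
  have htA : t ∈ normalizer (A : Set G) := by rw [P.gen]; exact hgen a P.a_memX P.order_a
  have hte : Commute t e := commute_of_conj_mem_zpowers hp3 hq5 P.order_e ht
    (P.comm ▸ mem_normalizer_commutator htV htA)
  have hxV : V.map (MulAut.conj x).toMonoidHom = V :=
    Subnormal.cj_eq_of_mem_normalizer (P.ff.hHV P.xH)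
  have hf : ⁅V, A.map (MulAut.conj x).toMonoidHom⁆ = zpowers (x * e * x⁻¹) := by
    conv_lhs => rw [← hxV, ← map_commutator, P.comm, MonoidHom.map_zpowers]
    rfl
  have htA' : t ∈ normalizer (A.map (MulAut.conj x).toMonoidHom : Set G) := by
    rw [P.map_eq]; exact hgen _ P.b_memX hob
  have htf : Commute t (x * e * x⁻¹) := commute_of_conj_mem_zpowers hp3 hq5
    (by rw [← MulAut.conj_apply, MulEquiv.orderOf_eq, P.order_e]) ht
    (hf ▸ mem_normalizer_commutator htV htA')
  obtain ⟨i, j, rfl⟩ := P.exists_zpow hw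
  exact (hte.zpow_right i).mul_right (htf.zpow_right j)

section Orbit

variable (h : Gen p V H) {T : Subgroup G} (hTV : T ≤ normalizer (V : Set G))
  (hTH : T ≤ normalizer (H : Set G)) (hT : IsPGroup q T) (hq5 : 5 ≤ q) (hAH : A ≤ H)
  (hA : IsTv p V A)

omit hq hp in
theorem cj_qcore {t : G} (ht : t ∈ normalizer (H : Set G)) :
    Subnormal.cj t (qcore p H) = qcore p H :=
  Subnormal.cj_eq_of_mem_normalizer
    (Components.normalizer_le_normalizer_map_of_characteristic H (pPrimeCore p ↥H) ht)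

omit hq hp in
theorem cj_eSub {t : G} (ht : t ∈ normalizer (H : Set G)) :
    Subnormal.cj t (eSub p H A) = eSub p H (Subnormal.cj t A) := by
  simp only [Subnormal.cj, eSub]
  rw [Subgroup.map_sup, map_commutator]
  congr 2
  exact cj_qcore ht

include h hTV hTH hT hq5 hAH hA

/-- For `t ∈ T` the conjugate of a factor is the factor itself, centralized along with its plane, or
another one, centralized by it along with its plane. -/
theorem Gen.conj_cases {t : G} (ht : t ∈ T) :
    ((∀ g ∈ eSub p H A, Commute t g) ∧ ∀ w ∈ ⁅V, eSub p H A⁆, Commute t w) ∨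
      (Subnormal.cj t (eSub p H A) ≠ eSub p H A ∧
        Subnormal.cj t (eSub p H A) ≤ centralizer (eSub p H A : Set G) ∧
        Subnormal.cj t (eSub p H A) ≤ centralizer ((⁅V, eSub p H A⁆ : Subgroup G) : Set G) ∧
        Subnormal.cj t ⁅V, eSub p H A⁆ ≤ V ⊓ centralizer (eSub p H A : Set G)) := by
  have hA' : Subnormal.cj t A ≤ H :=
    (Subnormal.cj_mono hAH).trans (Subnormal.cj_eq_of_mem_normalizer (hTH ht)).le
  have htv : IsTv p V (Subnormal.cj t A) := hA.conj (hTV ht)
  by_cases heq : Subnormal.cj t (eSub p H A) = eSub p H A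
  · left
    obtain ⟨a, e, x, P⟩ := h.toFF.exists_pair hAH hA
    obtain ⟨k, hk⟩ := hT ⟨t, ht⟩
    rw [P.eSub_eq] at heq ⊢
    rw [P.W_eq]
    exact P.commute_of_normalizes hq5 (congrArg Subtype.val hk) (hTV ht)
      (Subnormal.mem_normalizer_of_cj_eq heq)
  · right
    rw [cj_eSub (hTH ht)] at heq
    obtain ⟨h1, h2⟩ := h.toFF.eSub_le_centralizer hAH hA hA' htv heq
    obtain ⟨-, h3⟩ := h.toFF.eSub_le_centralizer hA' htv hAH hA (Ne.symm heq)
    rw [← cj_eSub (hTH ht)] at h1 h2 h3 heq
    refine ⟨heq, h1, h2, le_inf ?_ (le_centralizer_iff.mp ?_)⟩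
    · exact (Subnormal.cj_mono (h.toFF.plane_le ⟨A, hAH, hA, rfl⟩)).trans
        (Subnormal.cj_eq_of_mem_normalizer (hTV ht)).le
    · refine h3.trans (centralizer_le (SetLike.coe_subset_coe.mpr ?_))
      simp only [Subnormal.cj]
      rw [map_commutator]
      exact commutator_mono (Subnormal.cj_eq_of_mem_normalizer (hTV ht)).le le_rfl

/-- Every element of a factor is realized on it by a fixed point of `T` in `H`. -/
theorem Gen.exists_fixed_realizing (hqp : ¬ q ∣ Nat.card ↥(eSub p H A)) {e₀ : G}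
    (he : e₀ ∈ eSub p H A) : ∃ c ∈ H ⊓ centralizer (T : Set G),
      e₀⁻¹ * c ∈ centralizer (eSub p H A : Set G) ∧
      e₀⁻¹ * c ∈ centralizer ((⁅V, eSub p H A⁆ : Subgroup G) : Set G) := by
  classical
  set E := eSub p H A with hE
  have := Fintype.ofFinite T
  set m := Nat.card {t : T // ∀ g ∈ E, Commute (t : G) g} with hm
  -- `m` is a power of `q`
  have hmq : ∃ n, m = q ^ n := by
    let S : Subgroup T := (centralizer (E : Set G)).subgroupOf T
    have hS : m = Nat.card S := Nat.card_congr (Equiv.subtypeEquivRight fun t => by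
      rw [mem_subgroupOf, mem_centralizer_iff]
      exact ⟨fun h g hg => (h g hg).eq.symm, fun h g hg => (h g hg).symm⟩)
    exact hS ▸ IsPGroup.iff_card.mp (hT.to_subgroup S)
  obtain ⟨n, hn⟩ := hmq
  have hcop : m.Coprime (orderOf e₀) := by
    rw [hn]
    exact Nat.Coprime.pow_left n ((hq.out.coprime_iff_not_dvd).mpr fun hd =>
      hqp (hd.trans (orderOf_dvd_natCard _ he)))
  obtain ⟨j, hj⟩ := exists_pow_eq_self_of_coprime (x := e₀) hcop
  set e₁ := e₀ ^ j with he₁
  have he₁m : e₁ ^ m = e₀ := by rw [he₁, ← pow_mul, mul_comm, pow_mul]; exact hj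
  have he₁E : e₁ ∈ E := pow_mem he j
  -- the conjugates of `e₁` commute
  set s : Set G := Set.range fun t : T => (t : G) * e₁ * (t : G)⁻¹ with hs
  have hcomm : ∀ t : T, Commute e₁ ((t : G) * e₁ * (t : G)⁻¹) := fun t => by
    rcases h.conj_cases hTV hTH hT hq5 hAH hA t.2 with ⟨h1, -⟩ | ⟨-, h1, -, -⟩
    · rw [(h1 e₁ he₁E).eq, mul_inv_cancel_right]
    · exact (h1 ⟨e₁, he₁E, rfl⟩) e₁ he₁E
  have hcomm' : ∀ t t' : T, Commute ((t : G) * e₁ * (t : G)⁻¹) ((t' : G) * e₁ * (t' : G)⁻¹) := by
    intro t t'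
    have h1 := (hcomm (t⁻¹ * t')).map (MulAut.conj (t : G)).toMonoidHom
    simpa [mul_assoc] using h1
  set D := closure s with hD
  have hDc : IsMulCommutative D := isMulCommutative_closure (by
    rintro _ ⟨t, rfl⟩ _ ⟨t', rfl⟩
    exact (hcomm' t t').eq)
  let _ : CommGroup D := { (inferInstance : Group D) with mul_comm := hDc.is_comm.comm }
  let d : T → D := fun t => ⟨(t : G) * e₁ * (t : G)⁻¹, subset_closure ⟨t, rfl⟩⟩
  set c : D := ∏ t, d t with hc
  have hDH : D ≤ H := by
    rw [hD, closure_le]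
    rintro _ ⟨t, rfl⟩
    exact (mem_normalizer_iff.mp (hTH t.2) e₁).mp (eSub_le hAH he₁E)
  refine ⟨c, mem_inf.mpr ⟨hDH c.2, fun y hy => ?_⟩, ?_⟩
  · have hDy : ∀ z ∈ D, y * z * y⁻¹ ∈ D := by
      have hle : D ≤ D.comap (MulAut.conj y).toMonoidHom := by
        rw [hD, closure_le]
        rintro _ ⟨t, rfl⟩
        exact subset_closure ⟨⟨y, hy⟩ * t, by simp [mul_assoc]⟩
      exact fun z hz => hle hz
    let ψ : D →* D :=
      { toFun := fun z => ⟨y * z * y⁻¹, hDy z z.2⟩
        map_one' := Subtype.ext (by simp)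
        map_mul' := fun z z' => Subtype.ext (by simp [mul_assoc]) }
    have h1 : ψ c = c := by
      rw [hc, map_prod]
      refine Fintype.prod_equiv (Equiv.mulLeft (⟨y, hy⟩ : T)) _ _ fun t => Subtype.ext ?_
      simp [ψ, d, mul_assoc]
    have h2 := congrArg Subtype.val h1
    simp only [ψ, MonoidHom.coe_mk, OneHom.coe_mk, mul_inv_eq_iff_eq_mul] at h2
    exact h2
  · have hsplit := Finset.prod_filter_mul_prod_filter_not Finset.univ
      (fun t : T => ∀ g ∈ E, Commute (t : G) g) d
    have h1 : ((∏ t ∈ Finset.univ.filter (fun t : T => ∀ g ∈ E, Commute (t : G) g), d t : D) : G) =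
        e₀ := by
      rw [Finset.prod_congr rfl (g := fun _ => (⟨e₁, subset_closure ⟨1, by simp⟩⟩ : D)) fun t ht =>
        Subtype.ext (by
          show (t : G) * e₁ * (t : G)⁻¹ = e₁
          rw [((Finset.mem_filter.mp ht).2 e₁ he₁E).eq, mul_inv_cancel_right]),
        Finset.prod_const, Subgroup.coe_pow]
      rw [show (Finset.univ.filter (fun t : T => ∀ g ∈ E, Commute (t : G) g)).card = m by
        rw [hm, Nat.card_eq_fintype_card, Fintype.card_subtype]]
      exact he₁m
    set R := (∏ t ∈ Finset.univ.filter (fun t : T => ¬ ∀ g ∈ E, Commute (t : G) g), d t : D) with hR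
    have hRmem : (R : G) ∈ centralizer (E : Set G) ⊓ centralizer ((⁅V, E⁆ : Subgroup G) : Set G) := by
      refine mem_subgroupOf.mp (show R ∈ (centralizer (E : Set G) ⊓
        centralizer ((⁅V, E⁆ : Subgroup G) : Set G)).subgroupOf D from
          prod_mem fun t ht => mem_subgroupOf.mpr ?_)
      rcases h.conj_cases hTV hTH hT hq5 hAH hA t.2 with ⟨h3, -⟩ | ⟨-, h3, h4, -⟩
      · exact absurd h3 (Finset.mem_filter.mp ht).2
      · exact mem_inf.mpr ⟨h3 ⟨e₁, he₁E, rfl⟩, h4 ⟨e₁, he₁E, rfl⟩⟩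
    have hce : e₀⁻¹ * (c : G) = R := by
      rw [hc, ← hsplit, Subgroup.coe_mul, h1, inv_mul_cancel_left]
    rw [hce]
    exact mem_inf.mp hRmem

/-- An equivariant copy of the plane in the fixed points of `T`. -/
theorem Gen.exists_fixed_plane (hqp : q ≠ p) : ∃ Φ : ↥(⁅V, eSub p H A⁆) →* G,
    Function.Injective Φ ∧ (∀ w, Φ w ∈ V ⊓ centralizer (T : Set G)) ∧
    ∀ g ∈ H ⊓ centralizer (T : Set G), ∀ e₀ ∈ eSub p H A,
      e₀⁻¹ * g ∈ centralizer ((⁅V, eSub p H A⁆ : Subgroup G) : Set G) →
      ∀ w w' : ↥(⁅V, eSub p H A⁆), e₀ * (w : G) * e₀⁻¹ = w' → g * Φ w * g⁻¹ = Φ w' := by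
  classical
  set E := eSub p H A with hE
  set W := ⁅V, E⁆ with hW
  have := Fintype.ofFinite T
  have hWV : W ≤ V := h.toFF.plane_le ⟨A, hAH, hA, rfl⟩
  let _ : CommGroup V := { (inferInstance : Group V) with
    mul_comm := fun u v => Subtype.ext (commute_mem h.hV.1 u.2 v.2) }
  let d : T → W → V := fun t w =>
    ⟨(t : G) * w * (t : G)⁻¹, (mem_normalizer_iff.mp (hTV t.2) _).mp (hWV w.2)⟩
  let Φ : W →* G := V.subtype.comp
    { toFun := fun w => ∏ t, d t w
      map_one' := Finset.prod_eq_one fun t _ => Subtype.ext (by simp [d])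
      map_mul' := fun w w' => by
        rw [← Finset.prod_mul_distrib]
        exact Finset.prod_congr rfl fun t _ => Subtype.ext (by simp [d, mul_assoc]) }
  have hΦ : ∀ w : W, Φ w = ((∏ t, d t w : V) : G) := fun _ => rfl
  refine ⟨Φ, ?_, ?_, ?_⟩
  · rw [injective_iff_map_eq_one]
    intro w hw
    have hsplit := Finset.prod_filter_mul_prod_filter_not Finset.univ
      (fun t : T => ∀ v ∈ W, Commute (t : G) v) (fun t => d t w)
    set m := (Finset.univ.filter (fun t : T => ∀ v ∈ W, Commute (t : G) v)).card with hm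
    have h1 : ((∏ t ∈ Finset.univ.filter (fun t : T => ∀ v ∈ W, Commute (t : G) v), d t w : V) : G) =
        (w : G) ^ m := by
      rw [Finset.prod_congr rfl (g := fun _ => (⟨w, hWV w.2⟩ : V)) fun t ht => Subtype.ext (by
          show (t : G) * w * (t : G)⁻¹ = w
          rw [((Finset.mem_filter.mp ht).2 w w.2).eq, mul_inv_cancel_right]),
        Finset.prod_const, Subgroup.coe_pow]
    set R := (∏ t ∈ Finset.univ.filter (fun t : T => ¬ ∀ v ∈ W, Commute (t : G) v), d t w : V) with hR
    have hRmem : (R : G) ∈ centralizer (E : Set G) := by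
      refine mem_subgroupOf.mp (show R ∈ (centralizer (E : Set G)).subgroupOf V from
        prod_mem fun t ht => mem_subgroupOf.mpr ?_)
      rcases h.conj_cases hTV hTH hT hq5 hAH hA t.2 with ⟨-, h3⟩ | ⟨-, -, -, h3⟩
      · exact absurd h3 (Finset.mem_filter.mp ht).2
      · exact (mem_inf.mp (h3 ⟨(w : G), w.2, rfl⟩)).2
    rw [hΦ, ← hsplit, Subgroup.coe_mul, h1] at hw
    have hwE : (w : G) ^ m ∈ W ⊓ centralizer (E : Set G) := by
      refine mem_inf.mpr ⟨pow_mem w.2 m, ?_⟩
      rw [eq_inv_of_mul_eq_one_left hw]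
      exact inv_mem hRmem
    rw [h.toFF.plane_inf_centralizer hAH hA, mem_bot] at hwE
    have hcop : (orderOf (w : G)).Coprime m := by
      refine Nat.Coprime.coprime_dvd_left (orderOf_dvd_of_pow_eq_one (h.hV.2 _ (hWV w.2))) ?_
      let S : Subgroup T := (centralizer (W : Set G)).subgroupOf T
      have hS : m = Nat.card S := by
        rw [hm, ← Fintype.card_subtype, ← Nat.card_eq_fintype_card]
        exact Nat.card_congr (Equiv.subtypeEquivRight fun t => by
          rw [mem_subgroupOf, mem_centralizer_iff]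
          exact ⟨fun h g hg => (h g hg).eq.symm, fun h g hg => (h g hg).symm⟩)
      obtain ⟨k, hk⟩ := IsPGroup.iff_card.mp (hT.to_subgroup S)
      rw [hS, hk]
      exact Nat.Coprime.pow_right k ((Nat.coprime_primes hp.out hq.out).mpr hqp.symm)
    exact Subtype.ext (orderOf_eq_one_iff.mp
      (Nat.eq_one_of_dvd_coprimes hcop dvd_rfl (orderOf_dvd_of_pow_eq_one hwE)))
  · intro w
    refine mem_inf.mpr ⟨(∏ t, d t w : V).2, fun y hy => ?_⟩
    let ψ : V →* V :=
      { toFun := fun z => ⟨y * z * y⁻¹, (mem_normalizer_iff.mp (hTV hy) _).mp z.2⟩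
        map_one' := Subtype.ext (by simp)
        map_mul' := fun z z' => Subtype.ext (by simp [mul_assoc]) }
    have h1 : ψ (∏ t, d t w) = ∏ t, d t w := by
      rw [map_prod]
      refine Fintype.prod_equiv (Equiv.mulLeft (⟨y, hy⟩ : T)) _ _ fun t => Subtype.ext ?_
      simp [ψ, d, mul_assoc]
    have h2 := congrArg Subtype.val h1
    simp only [ψ, MonoidHom.coe_mk, OneHom.coe_mk, mul_inv_eq_iff_eq_mul] at h2
    exact h2
  · intro g hg e₀ he₀ hr w w' hww
    obtain ⟨hgH, hgT⟩ := mem_inf.mp hg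
    let ψ : V →* V :=
      { toFun := fun z => ⟨g * z * g⁻¹, (mem_normalizer_iff.mp (h.hHV hgH) _).mp z.2⟩
        map_one' := Subtype.ext (by simp)
        map_mul' := fun z z' => Subtype.ext (by simp [mul_assoc]) }
    have hconj : g * (w : G) * g⁻¹ = w' := by
      calc g * (w : G) * g⁻¹ = e₀ * (e₀⁻¹ * g * w * (e₀⁻¹ * g)⁻¹) * e₀⁻¹ := by group
        _ = w' := by rw [show e₀⁻¹ * g * w = w * (e₀⁻¹ * g) from (hr (w : G) w.2).symm,
          mul_inv_cancel_right, hww]
    have h1 : ψ (∏ t, d t w) = ∏ t, d t w' := by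
      rw [map_prod]
      refine Finset.prod_congr rfl fun t _ => Subtype.ext ?_
      show g * ((t : G) * w * (t : G)⁻¹) * g⁻¹ = (t : G) * w' * (t : G)⁻¹
      have htg : Commute (t : G) g := hgT t t.2
      rw [← hconj]
      calc g * ((t : G) * w * (t : G)⁻¹) * g⁻¹ = (g * t) * w * (g * t)⁻¹ := by group
        _ = (t * g) * w * ((t : G) * g)⁻¹ := by rw [htg.eq]
        _ = _ := by group
    exact congrArg Subtype.val h1

end Orbit

end Cfsg.Agent.Offender
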