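import Cfsg.Agent.Lib.Offender.Structure

/-!
# The structure theorem for failure of factorization

When `H` is also generated by best offenders on `V`, the groups `[Q, A] A ≅ SL(2, p)` are normal, pairwise
commute, and split off both `H` and `V`.

* `FF.le_or_commute`, `FF.eSub_eq_of_le`, `FF.eSub_le_centralizer`
* `Gen`, `Gen.le_normalizer_eSub`, `Gen.commute_eSub`, `Gen.eSub_sup`, `Gen.commutator_le`
* `eFam`, `Gen.eFam_iSup_eq`, `Gen.plane_sup_eq`, `Gen.centralizer_inf_planes`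
-/

set_option autoImplicit false

namespace Cfsg.Agent.Offender

open Subgroup
open scoped commutatorElement

universe u

variable {G : Type u} [Group G] {p : ℕ} [Finite G] [hp : Fact p.Prime] {V H A B : Subgroup G}
  {a e x : G}

/-- A subgroup normalized by `Q` and meeting the plane trivially is fixed by the plane's group. -/
theorem Pair.le_centralizer_X (P : Pair p V H A a e x) {K : Subgroup G} (hKV : K ≤ V)
    (hKQ : qcore p H ≤ normalizer (K : Set G)) (hdis : ∀ w ∈ P.W, w ∈ K → w = 1) :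
    K ≤ centralizer (P.X : Set G) := by
  intro k hk
  obtain ⟨y, hy⟩ : ∃ y, y = x * a * x⁻¹ * a⁻¹ := ⟨_, rfl⟩
  have hyX : y ∈ P.X := hy ▸ mul_mem P.b_memX (inv_mem P.a_memX)
  have hyQ : y ∈ qcore p H := hy ▸ P.y_memQ
  have hky : Commute k y := by
    refine commutatorElement_eq_one_iff_mul_comm.mp (hdis _ ((P.X_le_trivOn hyX).2 k (hKV hk)) ?_)
    rw [commutatorElement_def, show k * y * k⁻¹ * y⁻¹ = k * (y * k⁻¹ * y⁻¹) by group]
    exact mul_mem hk ((mem_normalizer_iff.mp (hKQ hyQ) _).mp (inv_mem hk))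
  have hn : P.W ≤ normalizer ((V ⊓ centralizer (P.X : Set G) : Subgroup G) : Set G) := fun w hw =>
    centralizer_le_normalizer _ fun u hu => commute_mem P.ff.hV.1 (mem_inf.mp hu).1 (P.W_le hw)
  obtain ⟨w, hw, u, hu, rfl⟩ :=
    (Coprime.mem_sup_iff_of_le_normalizer hn).mp (P.sup_eq.ge (hKV hk))
  have huy : Commute u y := ((mem_inf.mp hu).2 y hyX).symm
  have hwy : Commute w y := by simpa using hky.mul_left huy.inv_left
  have hw1 : w = 1 := P.eq_one_of_commute_y hw (hy ▸ hwy.symm)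
  rw [hw1, one_mul]
  exact (mem_inf.mp hu).2

/-- A transvection group lies in `[Q, A] A` or centralizes it and its plane. -/
theorem FF.le_or_commute (h : FF p V H) (hAH : A ≤ H) (hA : IsTv p V A) (hBH : B ≤ H)
    (hB : IsTv p V B) : B ≤ eSub p H A ∨
      (B ≤ centralizer (eSub p H A : Set G) ∧
        B ≤ centralizer ((⁅V, eSub p H A⁆ : Subgroup G) : Set G)) := by
  obtain ⟨a, e, x, P⟩ := h.exists_pair hAH hA
  obtain ⟨a', e', x', P'⟩ := h.exists_pair hBH hB
  rw [P.eSub_eq, P.W_eq]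
  have hn : P.W ≤ normalizer ((V ⊓ centralizer (P.X : Set G) : Subgroup G) : Set G) := fun w hw =>
    centralizer_le_normalizer _ fun u hu => commute_mem h.hV.1 (mem_inf.mp hu).1 (P.W_le hw)
  by_cases hmeet : ∃ w ∈ P.W, w ∈ P'.W ∧ w ≠ 1
  · left
    obtain ⟨w, hw, hw', hw1⟩ := hmeet
    obtain ⟨q, hq, -, hwq⟩ := P.exists_line_conj hw
    have hgen : zpowers w = zpowers (q * e * q⁻¹) := by
      refine eq_of_le_of_card_ge (zpowers_le.mpr hwq) ?_
      rw [Nat.card_zpowers, Nat.card_zpowers, orderOf_eq_prime (h.hV.2 _ (P.W_le hw)) hw1,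
        ← MulAut.conj_apply, MulEquiv.orderOf_eq, P.order_e]
    have heW : e ∈ P'.W := (mem_normalizer_iff.mp (P'.qcore_le_normalizer_W hq) e).mpr
      ((zpowers_le.mpr hw') (hgen ▸ mem_zpowers _))
    have hWW : P.W = P'.W := eq_of_le_of_card_ge (sup_le (zpowers_le.mpr heW)
      (zpowers_le.mpr ((mem_normalizer_iff.mp (P'.qcore_le_normalizer_W P.memQ) e).mp heW)))
      (by rw [P.card_W, P'.card_W])
    -- `a'` centralizes `C_V(X)`
    have hU : ∀ u ∈ V ⊓ centralizer (P.X : Set G), Commute a' u := by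
      intro u hu
      obtain ⟨y', hy'⟩ : ∃ y, y = x' * a' * x'⁻¹ * a'⁻¹ := ⟨_, rfl⟩
      have hy'X : y' ∈ P'.X := hy' ▸ mul_mem P'.b_memX (inv_mem P'.a_memX)
      have hy'Q : y' ∈ qcore p H := hy' ▸ P'.y_memQ
      have huy : Commute u y' := by
        refine commutatorElement_eq_one_iff_mul_comm.mp (mem_bot.mp (P.W_inf_centralizer.le
          (mem_inf.mpr ⟨hWW.ge ((P'.X_le_trivOn hy'X).2 u (mem_inf.mp hu).1), ?_⟩)))
        have hUn := P.qcore_le_normalizer_U hy'Q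
        have hm : u * (y' * u⁻¹ * y'⁻¹) ∈ V ⊓ centralizer (P.X : Set G) :=
          mul_mem hu ((mem_normalizer_iff.mp hUn _).mp (inv_mem hu))
        rw [commutatorElement_def, show u * y' * u⁻¹ * y'⁻¹ = u * (y' * u⁻¹ * y'⁻¹) by group]
        exact (mem_inf.mp hm).2
      have hn' : P'.W ≤ normalizer ((V ⊓ centralizer (P'.X : Set G) : Subgroup G) : Set G) :=
        fun w hw => centralizer_le_normalizer _ fun u hu =>
          commute_mem h.hV.1 (mem_inf.mp hu).1 (P'.W_le hw)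
      obtain ⟨w', hw'', u', hu', rfl⟩ :=
        (Coprime.mem_sup_iff_of_le_normalizer hn').mp (P'.sup_eq.ge (mem_inf.mp hu).1)
      have hu'y : Commute u' y' := ((mem_inf.mp hu').2 y' hy'X).symm
      have hwy : Commute w' y' := by simpa using huy.mul_left hu'y.inv_left
      rw [P'.eq_one_of_commute_y hw'' (hy' ▸ hwy.symm), one_mul]
      exact (mem_inf.mp hu').2 a' P'.a_memX
    obtain ⟨q, hq, hqX, heq⟩ := P.exists_line_conj (hWW.ge (mem_sup_left (mem_zpowers e')))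
    have hline : zpowers e' = zpowers (q * e * q⁻¹) := by
      refine eq_of_le_of_card_ge (zpowers_le.mpr heq) ?_
      rw [Nat.card_zpowers, Nat.card_zpowers, P'.order_e, ← MulAut.conj_apply, MulEquiv.orderOf_eq,
        P.order_e]
    obtain ⟨c, d, hc, -, ha, -⟩ := P.exists_coeff
    obtain ⟨a₀, ha₀⟩ : ∃ g, g = q * a * q⁻¹ := ⟨_, rfl⟩
    obtain ⟨e₀, he₀⟩ : ∃ g, g = q * e * q⁻¹ := ⟨_, rfl⟩
    obtain ⟨f₀, hf₀⟩ : ∃ g, g = q * (x * e * x⁻¹) * q⁻¹ := ⟨_, rfl⟩
    rw [← ha₀] at hqX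
    rw [← he₀] at hline
    have hqV := P.qcore_le_normalizer_V hq
    have he₀V : e₀ ∈ V := he₀ ▸ (mem_normalizer_iff.mp hqV e).mp P.mem
    have hf₀V : f₀ ∈ V := hf₀ ▸ (mem_normalizer_iff.mp hqV _).mp P.f_mem
    have hae : Commute a₀ e₀ := by
      rw [ha₀, he₀]
      show _ = _
      rw [show q * a * q⁻¹ * (q * e * q⁻¹) = q * (a * e) * q⁻¹ by group, P.commute.eq]
      group
    have hstep : a₀ * f₀ * a₀⁻¹ = e₀ ^ c * f₀ := by
      have h1 := ha 0 1
      simp only [zpow_zero, zpow_one, one_mul, zero_add, mul_one] at h1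
      rw [ha₀, he₀, hf₀, conj_zpow]
      calc q * a * q⁻¹ * (q * (x * e * x⁻¹) * q⁻¹) * (q * a * q⁻¹)⁻¹
          = q * (a * (x * e * x⁻¹) * a⁻¹) * q⁻¹ := by group
        _ = q * (e ^ c * (x * e * x⁻¹)) * q⁻¹ := by rw [h1]
        _ = _ := by group
    have hpow : ∀ n : ℕ, a₀ ^ n * f₀ * (a₀ ^ n)⁻¹ = e₀ ^ ((n : ℤ) * c) * f₀ := by
      intro n
      induction n with
      | zero => simp
      | succ n ih =>
        calc a₀ ^ (n + 1) * f₀ * (a₀ ^ (n + 1))⁻¹ = a₀ * (a₀ ^ n * f₀ * (a₀ ^ n)⁻¹) * a₀⁻¹ := by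
              rw [pow_succ' a₀]; group
          _ = a₀ * e₀ ^ ((n : ℤ) * c) * a₀⁻¹ * (a₀ * f₀ * a₀⁻¹) := by rw [ih]; group
          _ = e₀ ^ ((n : ℤ) * c) * (e₀ ^ c * f₀) := by
              rw [(hae.zpow_right _).eq, mul_inv_cancel_right, hstep]
          _ = e₀ ^ (((n + 1 : ℕ) : ℤ) * c) * f₀ := by
              rw [← mul_assoc, ← zpow_add]; congr 2; push_cast; ring
    obtain ⟨k, hk⟩ := mem_zpowers_iff.mp (hline ▸ P'.a_comm (inv_mem hf₀V) : ⁅f₀⁻¹, a'⁆ ∈ zpowers e₀)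
    have hf' : a' * f₀ * a'⁻¹ = e₀ ^ k * f₀ := by
      rw [(commute_mem h.hV.1 (zpow_mem he₀V k) hf₀V), hk, commutatorElement_def]
      group
    set n := ((k : ZMod p) / (c : ZMod p)).val
    have hdvd : (p : ℤ) ∣ k - (n : ℤ) * c := by
      rw [← ZMod.intCast_zmod_eq_zero_iff_dvd]
      have hc0 : (c : ZMod p) ≠ 0 := fun h0 => hc ((ZMod.intCast_zmod_eq_zero_iff_dvd _ _).mp h0)
      push_cast
      rw [ZMod.natCast_zmod_val, div_mul_cancel₀ _ hc0, sub_self]
    obtain ⟨z, hz⟩ : ∃ z, z = (a₀ ^ n)⁻¹ * a' := ⟨_, rfl⟩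
    have hze : Commute z e₀ := by
      have h1 : Commute a' e₀ := by
        obtain ⟨m, hm⟩ := mem_zpowers_iff.mp (hline ▸ mem_zpowers e₀ : e₀ ∈ zpowers e')
        rw [← hm]
        exact P'.commute.zpow_right m
      rw [hz]
      exact ((hae.pow_left n).inv_left).mul_left h1
    have hzf : Commute z f₀ := by
      have h1 : a' * f₀ * a'⁻¹ = a₀ ^ n * f₀ * (a₀ ^ n)⁻¹ := by
        rw [hf', hpow, show k = (n : ℤ) * c + (k - (n : ℤ) * c) by ring, zpow_add,
          P.zpow_eq_one_of_dvd he₀V hdvd, mul_one]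
      show z * f₀ = f₀ * z
      rw [hz]
      calc (a₀ ^ n)⁻¹ * a' * f₀ = (a₀ ^ n)⁻¹ * (a' * f₀ * a'⁻¹) * a' := by group
        _ = f₀ * ((a₀ ^ n)⁻¹ * a') := by rw [h1]; group
    have hzH : z ∈ H := hz ▸ mul_mem (inv_mem (pow_mem (P.X_le_H hqX) n)) P'.aH
    have hz1 : z = 1 := by
      refine h.eq_one hzH ?_
      have hVz : V ≤ centralizer ({z} : Set G) := by
        conv_lhs => rw [← P.sup_eq]
        refine sup_le (fun w hw => mem_centralizer_singleton_iff.mpr ?_)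
          (fun u hu => mem_centralizer_singleton_iff.mpr ?_)
        · obtain ⟨i, j, hij⟩ := P.exists_zpow
            ((mem_normalizer_iff'.mp (P.qcore_le_normalizer_W hq) (q⁻¹ * w)).mpr (by simpa using hw))
          have hw' : w = e₀ ^ i * f₀ ^ j := by
            rw [he₀, hf₀, conj_zpow, conj_zpow]
            calc w = q * (q⁻¹ * w * q) * q⁻¹ := by group
              _ = q * (e ^ i * (x * e * x⁻¹) ^ j) * q⁻¹ := by rw [hij]
              _ = _ := by group
          rw [hw']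
          exact ((hze.zpow_right i).mul_right (hzf.zpow_right j)).eq.symm
        · have h1 : Commute a₀ u := (mem_inf.mp hu).2 a₀ hqX
          rw [hz]
          exact ((h1.pow_left n).inv_left.mul_left (hU u hu)).eq.symm
      exact fun v hv => mem_centralizer_singleton_iff.mp (hVz hv)
    rw [P'.gen, zpowers_le, ← (inv_mul_eq_one.mp (hz.symm.trans hz1))]
    exact pow_mem hqX n
  · right
    push Not at hmeet
    have hK' := P.le_centralizer_X P'.W_le P'.qcore_le_normalizer_W fun w hw hw' => hmeet w hw hw'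
    have hK := P'.le_centralizer_X P.W_le P.qcore_le_normalizer_W fun w hw hw' => hmeet w hw' hw
    have hWa : ∀ w ∈ P.W, Commute a' w := fun w hw => hK hw a' P'.a_memX
    have hone : ∀ g ∈ P.X, Commute g a' := fun g hg => commute_of_lines h (P.X_le_H hg) P'.aH
      P.W_le P'.W_le (P.X_le_trivOn hg).2 (fun w hw => (P'.X_le_trivOn P'.a_memX).2 w hw) hWa
      fun w hw => hK' hw g hg
    refine ⟨?_, ?_⟩
    · rw [P'.gen, zpowers_le]
      exact fun g hg => hone g hg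
    · rw [P'.gen, zpowers_le]
      exact fun w hw => (hWa w hw).symm

theorem FF.eSub_eq_of_le (h : FF p V H) (hAH : A ≤ H) (hA : IsTv p V A) (hBH : B ≤ H)
    (hB : IsTv p V B) (hle : B ≤ eSub p H A) : eSub p H B = eSub p H A := by
  obtain ⟨a, e, x, P⟩ := h.exists_pair hAH hA
  obtain ⟨a', e', x', P'⟩ := h.exists_pair hBH hB
  rw [P.eSub_eq] at hle ⊢
  rw [P'.eSub_eq]
  refine eq_of_le_of_card_ge (P'.X_le_iff.mpr ⟨hle P'.mem_a, ?_⟩) ?_
  · exact (mem_normalizer_iff.mp (P.qcore_le_normalizer_X P'.memQ) a').mp (hle P'.mem_a)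
  · obtain ⟨θ⟩ := P.exists_iso
    obtain ⟨θ'⟩ := P'.exists_iso
    rw [Nat.card_congr θ.toEquiv, Nat.card_congr θ'.toEquiv]

theorem FF.eSub_le_centralizer (h : FF p V H) (hAH : A ≤ H) (hA : IsTv p V A) (hBH : B ≤ H)
    (hB : IsTv p V B) (hne : eSub p H B ≠ eSub p H A) :
    eSub p H B ≤ centralizer (eSub p H A : Set G) ∧
      eSub p H B ≤ centralizer ((⁅V, eSub p H A⁆ : Subgroup G) : Set G) := by
  rcases h.le_or_commute hAH hA hBH hB with hle | ⟨h1, h2⟩
  · exact absurd (h.eSub_eq_of_le hAH hA hBH hB hle) hne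
  obtain ⟨a, e, x, P⟩ := h.exists_pair hAH hA
  obtain ⟨a', e', x', P'⟩ := h.exists_pair hBH hB
  rw [P.eSub_eq] at h1 ⊢
  rw [P.eSub_eq, P.W_eq] at h2
  rw [P'.eSub_eq, P.W_eq]
  refine ⟨P'.X_le_iff.mpr ⟨h1 P'.mem_a, ?_⟩, P'.X_le_iff.mpr ⟨h2 P'.mem_a, ?_⟩⟩
  · exact (mem_normalizer_iff.mp
      (LocalStructure.le_normalizer_centralizer P.qcore_le_normalizer_X P'.memQ) a').mp (h1 P'.mem_a)
  · exact (mem_normalizer_iff.mp
      (LocalStructure.le_normalizer_centralizer P.qcore_le_normalizer_W P'.memQ) a').mp (h2 P'.mem_a)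

/-- The setting of the structure theorem. -/
structure Gen (p : ℕ) (V H : Subgroup G) : Prop extends FF p V H where
  hgen : H ≤ ⨆ A : {A : Subgroup G // A ≤ H ∧ IsBestOffenderOn p V A}, (A : Subgroup G)

theorem Gen.le_of_tv (h : Gen p V H) {K : Subgroup G}
    (hK : ∀ B ≤ H, IsTv p V B → B ≤ K) : H ≤ K := by
  refine h.hgen.trans (iSup_le fun ⟨A, hAH, hA⟩ => ?_)
  obtain ⟨k, F, hF, -, hsup⟩ := h.toFF.exists_tv_family hAH hA
  show A ≤ K
  rw [← hsup]
  exact iSup_le fun i => hK _ ((hF i).1.trans hAH) (hF i).2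

theorem Gen.exists_tv (h : Gen p V H) (hH : H ≠ ⊥) : ∃ A ≤ H, IsTv p V A := by
  by_contra hcon
  push Not at hcon
  exact hH (le_bot_iff.mp (h.le_of_tv fun B hB hT => absurd hT (hcon B hB)))

theorem eSub_le (hAH : A ≤ H) : eSub p H A ≤ H :=
  sup_le (commutator_le.mpr fun q hq a ha => by
    rw [commutatorElement_def]
    exact mul_mem (mul_mem (mul_mem (qcore_le hq) (hAH ha)) (inv_mem (qcore_le hq)))
      (inv_mem (hAH ha))) hAH

theorem Gen.le_normalizer_eSub (h : Gen p V H) (hAH : A ≤ H) (hA : IsTv p V A) :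
    H ≤ normalizer (eSub p H A : Set G) :=
  h.le_of_tv fun _ hB hT => by
    rcases h.toFF.le_or_commute hAH hA hB hT with hle | ⟨h1, -⟩
    · exact hle.trans le_normalizer
    · exact h1.trans (centralizer_le_normalizer _)

theorem Gen.le_normalizer_plane (h : Gen p V H) (hAH : A ≤ H) (hA : IsTv p V A) :
    H ≤ normalizer ((⁅V, eSub p H A⁆ : Subgroup G) : Set G) := fun g hg => by
  refine Subnormal.mem_normalizer_of_cj_le ?_
  rw [Subnormal.cj, map_commutator]
  exact commutator_mono (Subnormal.cj_eq_of_mem_normalizer (h.hHV hg)).le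
    (Subnormal.cj_eq_of_mem_normalizer (h.le_normalizer_eSub hAH hA hg)).le

theorem FF.eSub_inf_centralizer (h : FF p V H) (hAH : A ≤ H) (hA : IsTv p V A) :
    eSub p H A ⊓ centralizer ((⁅V, eSub p H A⁆ : Subgroup G) : Set G) = ⊥ := by
  obtain ⟨a, e, x, P⟩ := h.exists_pair hAH hA
  rw [P.eSub_eq, P.W_eq]
  exact P.X_inf_centralizer

theorem FF.plane_inf_centralizer (h : FF p V H) (hAH : A ≤ H) (hA : IsTv p V A) :
    ⁅V, eSub p H A⁆ ⊓ centralizer (eSub p H A : Set G) = ⊥ := by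
  obtain ⟨a, e, x, P⟩ := h.exists_pair hAH hA
  rw [P.eSub_eq, P.W_eq]
  exact P.W_inf_centralizer

theorem FF.plane_sup_centralizer (h : FF p V H) (hAH : A ≤ H) (hA : IsTv p V A) :
    ⁅V, eSub p H A⁆ ⊔ V ⊓ centralizer (eSub p H A : Set G) = V := by
  obtain ⟨a, e, x, P⟩ := h.exists_pair hAH hA
  rw [P.eSub_eq, P.W_eq]
  exact P.sup_eq

/-- `[E, C_H([V, E])] = 1`. -/
theorem Gen.commute_eSub (h : Gen p V H) (hAH : A ≤ H) (hA : IsTv p V A) :
    ⁅eSub p H A, H ⊓ centralizer ((⁅V, eSub p H A⁆ : Subgroup G) : Set G)⁆ = ⊥ := by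
  set E := eSub p H A with hE
  set W := ⁅V, E⁆ with hW
  rw [← le_bot_iff, ← h.toFF.eSub_inf_centralizer hAH hA]
  refine le_inf (commutator_le.mpr fun g hg c hc => ?_) (commutator_le.mpr fun g hg c hc => ?_)
  · rw [commutatorElement_def, show g * c * g⁻¹ * c⁻¹ = g * (c * g⁻¹ * c⁻¹) by group]
    exact mul_mem hg
      ((mem_normalizer_iff.mp (h.le_normalizer_eSub hAH hA hc.1) _).mp (inv_mem hg))
  · rw [commutatorElement_def]
    have hgn := LocalStructure.le_normalizer_centralizer (h.le_normalizer_plane hAH hA)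
      (eSub_le hAH hg)
    exact mul_mem ((mem_normalizer_iff.mp hgn c).mp hc.2) (inv_mem hc.2)

theorem Gen.eSub_sup (h : Gen p V H) (hAH : A ≤ H) (hA : IsTv p V A) :
    eSub p H A ⊔ H ⊓ centralizer ((⁅V, eSub p H A⁆ : Subgroup G) : Set G) = H :=
  le_antisymm (sup_le (eSub_le hAH) inf_le_left) (h.le_of_tv fun _ hB hT => by
    rcases h.toFF.le_or_commute hAH hA hB hT with hle | ⟨-, h2⟩
    · exact hle.trans le_sup_left
    · exact (le_inf hB h2).trans le_sup_right)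

theorem Gen.commutator_le (h : Gen p V H) (hAH : A ≤ H) (hA : IsTv p V A) :
    ⁅V, H ⊓ centralizer ((⁅V, eSub p H A⁆ : Subgroup G) : Set G)⁆ ≤
      V ⊓ centralizer (eSub p H A : Set G) := by
  set E := eSub p H A with hE
  set W := ⁅V, E⁆ with hW
  refine Subgroup.commutator_le.mpr fun v hv c hc => ?_
  have hWV : W ≤ V := commutator_le_left ((eSub_le hAH).trans h.hHV)
  have hn : W ≤ normalizer ((V ⊓ centralizer (E : Set G) : Subgroup G) : Set G) := fun w hw =>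
    centralizer_le_normalizer _ fun u hu => commute_mem h.hV.1 (mem_inf.mp hu).1 (hWV hw)
  obtain ⟨w, hw, u, hu, rfl⟩ := (Coprime.mem_sup_iff_of_le_normalizer hn).mp
    ((h.toFF.plane_sup_centralizer hAH hA).ge hv)
  have hu' : ⁅u, c⁆ ∈ V ⊓ centralizer (E : Set G) := by
    rw [commutatorElement_def, show u * c * u⁻¹ * c⁻¹ = u * (c * u⁻¹ * c⁻¹) by group]
    exact mul_mem hu ((mem_normalizer_iff.mp (LocalStructure.le_normalizer_inf h.hHV
      (LocalStructure.le_normalizer_centralizer (h.le_normalizer_eSub hAH hA)) hc.1) _).mp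
        (inv_mem hu))
  rw [show ⁅w * u, c⁆ = w * ⁅u, c⁆ * w⁻¹ * ⁅w, c⁆ by simp only [commutatorElement_def]; group,
    commutatorElement_eq_one_iff_mul_comm.mpr (hc.2 w hw), mul_one,
    commute_mem h.hV.1 (hWV hw) (mem_inf.mp hu').1, mul_inv_cancel_right]
  exact hu'

/-- The groups `[Q, A] A`. -/
def eFam (p : ℕ) (V H : Subgroup G) : Set (Subgroup G) :=
  {E | ∃ A ≤ H, IsTv p V A ∧ E = eSub p H A}

theorem FF.eFam_commute (h : FF p V H) {E F : Subgroup G} (hE : E ∈ eFam p V H)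
    (hF : F ∈ eFam p V H) (hne : F ≠ E) :
    F ≤ centralizer (E : Set G) ∧ F ≤ centralizer ((⁅V, E⁆ : Subgroup G) : Set G) := by
  obtain ⟨A, hAH, hA, rfl⟩ := hE
  obtain ⟨B, hBH, hB, rfl⟩ := hF
  exact h.eSub_le_centralizer hAH hA hBH hB hne

theorem FF.plane_le (h : FF p V H) {E : Subgroup G} (hE : E ∈ eFam p V H) : ⁅V, E⁆ ≤ V := by
  obtain ⟨A, hAH, -, rfl⟩ := hE
  exact commutator_le_left ((eSub_le hAH).trans h.hHV)

theorem Gen.eFam_iSup_eq (h : Gen p V H) : (⨆ E ∈ eFam p V H, E) = H := by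
  refine le_antisymm (iSup₂_le fun E hE => ?_) (h.le_of_tv fun B hB hT => ?_)
  · obtain ⟨A, hAH, -, rfl⟩ := hE
    exact eSub_le hAH
  · exact le_sup_right.trans (le_iSup₂_of_le (eSub p H B) ⟨B, hB, hT, rfl⟩ le_rfl)

theorem Gen.plane_sup_eq (h : Gen p V H) :
    V ⊓ centralizer (H : Set G) ⊔ (⨆ E ∈ eFam p V H, ⁅V, E⁆) = V := by
  refine le_antisymm (sup_le inf_le_left (iSup₂_le fun E hE => h.toFF.plane_le hE)) ?_
  suffices hs : ∀ s ⊆ eFam p V H, s.Finite →
      V ≤ V ⊓ centralizer ((⨆ E ∈ s, E : Subgroup G) : Set G) ⊔ ⨆ E ∈ s, ⁅V, E⁆ by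
    have := hs _ subset_rfl (Set.toFinite _)
    rwa [h.eFam_iSup_eq] at this
  intro s hs hfin
  induction s, hfin using Set.Finite.induction_on with
  | empty =>
    simp only [Set.mem_empty_iff_false, iSup_false, iSup_bot, sup_bot_eq]
    exact le_inf le_rfl (le_centralizer_iff.mp bot_le)
  | @insert E s hEs hfin ih =>
    have hEf : E ∈ eFam p V H := hs (Set.mem_insert _ _)
    refine (ih ((Set.subset_insert _ _).trans hs)).trans (sup_le ?_
      ((biSup_mono fun F hF => Set.mem_insert_of_mem E hF).trans le_sup_right))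
    intro v hv
    obtain ⟨hvV, hvs⟩ := mem_inf.mp hv
    have hWV := h.toFF.plane_le hEf
    have hn : ⁅V, E⁆ ≤ normalizer ((V ⊓ centralizer (E : Set G) : Subgroup G) : Set G) := fun w hw =>
      centralizer_le_normalizer _ fun u hu => commute_mem h.hV.1 (mem_inf.mp hu).1 (hWV hw)
    obtain ⟨A, hAH, hA, hEA⟩ := hEf
    obtain ⟨w, hw, u, hu, rfl⟩ := (Coprime.mem_sup_iff_of_le_normalizer hn).mp
      ((hEA.symm ▸ h.toFF.plane_sup_centralizer hAH hA).ge hvV)
    refine mul_mem (mem_sup_right (mem_iSup_of_mem E (mem_iSup_of_mem (Set.mem_insert _ _) hw))) ?_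
    refine mem_sup_left (mem_inf.mpr ⟨(mem_inf.mp hu).1, ?_⟩)
    have hws : w ∈ centralizer ((⨆ F ∈ s, F : Subgroup G) : Set G) := by
      have h1 : (⨆ F ∈ s, F) ≤ centralizer ((⁅V, E⁆ : Subgroup G) : Set G) := iSup₂_le fun F hF =>
        (h.toFF.eFam_commute ⟨A, hAH, hA, hEA⟩ (hs (Set.mem_insert_of_mem _ hF))
          fun e0 => hEs (e0 ▸ hF)).2
      exact le_centralizer_iff.mp h1 hw
    have h2 : u ∈ centralizer ((E ⊔ ⨆ F ∈ s, F : Subgroup G) : Set G) := by
      rw [centralizer_sup_eq]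
      refine mem_inf.mpr ⟨(mem_inf.mp hu).2, ?_⟩
      simpa using mul_mem (inv_mem hws) hvs
    rwa [iSup_insert]

theorem Gen.centralizer_inf_planes (h : Gen p V H) :
    (V ⊓ centralizer (H : Set G)) ⊓ (⨆ E ∈ eFam p V H, ⁅V, E⁆) = ⊥ := by
  suffices hs : ∀ s ⊆ eFam p V H, s.Finite →
      (V ⊓ centralizer (H : Set G)) ⊓ (⨆ E ∈ s, ⁅V, E⁆) = ⊥ from hs _ subset_rfl (Set.toFinite _)
  intro s hs hfin
  induction s, hfin using Set.Finite.induction_on with
  | empty => simp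
  | @insert E s hEs hfin ih =>
    have hEf : E ∈ eFam p V H := hs (Set.mem_insert _ _)
    have hWV := h.toFF.plane_le hEf
    obtain ⟨A, hAH, hA, hEA⟩ := hEf
    have hR : (⨆ F ∈ s, ⁅V, F⁆) ≤ V ⊓ centralizer (E : Set G) := iSup₂_le fun F hF =>
      le_inf (h.toFF.plane_le (hs (Set.mem_insert_of_mem _ hF))) (le_centralizer_iff.mp
        (h.toFF.eFam_commute (hs (Set.mem_insert_of_mem _ hF)) ⟨A, hAH, hA, hEA⟩
          fun e0 => hEs (e0 ▸ hF)).2)
    refine (eq_bot_iff_forall _).mpr fun v hv => ?_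
    obtain ⟨hvC, hvs⟩ := mem_inf.mp hv
    rw [iSup_insert] at hvs
    have hn : ⁅V, E⁆ ≤ normalizer ((⨆ F ∈ s, ⁅V, F⁆ : Subgroup G) : Set G) := fun w hw =>
      centralizer_le_normalizer _ fun u hu => commute_mem h.hV.1 (mem_inf.mp (hR hu)).1 (hWV hw)
    obtain ⟨w, hw, r, hr, rfl⟩ := (Coprime.mem_sup_iff_of_le_normalizer hn).mp hvs
    have hEH : E ≤ H := hEA ▸ eSub_le hAH
    have hwE : w ∈ centralizer (E : Set G) := by
      have hvE : w * r ∈ centralizer (E : Set G) :=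
        centralizer_le (SetLike.coe_subset_coe.mpr hEH) (mem_inf.mp hvC).2
      simpa using mul_mem hvE (inv_mem (mem_inf.mp (hR hr)).2)
    have hw1 : w = 1 := mem_bot.mp ((hEA.symm ▸ h.toFF.plane_inf_centralizer hAH hA).le
      (mem_inf.mpr ⟨hw, hwE⟩))
    rw [hw1, one_mul] at hvC ⊢
    exact mem_bot.mp ((ih ((Set.subset_insert _ _).trans hs)).le (mem_inf.mpr ⟨hvC, hr⟩))

end Cfsg.Agent.Offender
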