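import Cfsg.Agent.Lib.Offender.PairTwo
import Cfsg.Agent.Lib.PComplement.SFour

/-!
# A plane gives a section `S₄`

* `HasPlane.involves_sfour`
* `exists_quadratic_max`: replacement inside a Sylow subgroup, relative to a normal-in-`H` subgroup `U`
-/

set_option autoImplicit false

namespace Cfsg.Agent.Offender

open Subgroup Subnormal
open scoped commutatorElement

universe u

variable {G : Type u} [Group G] [Finite G]

theorem HasPlane.involves_sfour {V X : Subgroup G} (hV : IsElementaryAbelian 2 V)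
    (h : HasPlane V X) : Cfsg.Involves (Equiv.Perm (Fin 4)) G := by
  obtain ⟨a, -, b, -, v, hv, w, hw, hv1, hav, hbw, haw, hbv⟩ := h
  have hvw : w * v = v * w := commute_mem hV.1 hw hv
  have hv2 : v * v = 1 := by rw [← pow_two]; exact hV.2 v hv
  have hw2 : w * w = 1 := by rw [← pow_two]; exact hV.2 w hw
  have hw1 : w ≠ 1 := fun h1 => hv1 (by
    rw [h1, mul_one, mul_inv_cancel] at haw
    exact (mul_one v ▸ haw.symm))
  have hne : v ≠ w := fun h1 => hv1 (by
    subst h1
    rw [hv2, show a * v * a⁻¹ = v by rw [hav.eq, mul_inv_cancel_right]] at haw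
    exact haw)
  have hvw1 : v * w ≠ 1 := fun h1 => hne (by
    calc v = v * (w * w) := by rw [hw2, mul_one]
      _ = v * w * w := by group
      _ = w := by rw [h1, one_mul])
  let M : Subgroup G :=
    { carrier := {1, v, w, v * w}
      one_mem' := Or.inl rfl
      mul_mem' := by
        have e1 : v * (v * w) = w := by rw [← mul_assoc, hv2, one_mul]
        have e2 : v * w * v = w := by rw [mul_assoc, hvw, e1]
        have e3 : w * (v * w) = v := by rw [← hvw, ← mul_assoc, hw2, one_mul]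
        have e4 : v * w * w = v := by rw [mul_assoc, hw2, mul_one]
        have e5 : v * w * (v * w) = 1 := by rw [← mul_assoc, e2, hw2]
        rintro x y (rfl | rfl | rfl | rfl) (rfl | rfl | rfl | rfl) <;>
          simp [hv2, hw2, hvw, e1, e2, e3, e4, e5]
      inv_mem' := by
        rintro x (rfl | rfl | rfl | rfl)
        · simp
        · exact Or.inr (Or.inl (inv_eq_of_mul_eq_one_right hv2))
        · exact Or.inr (Or.inr (Or.inl (inv_eq_of_mul_eq_one_right hw2)))
        · refine Or.inr (Or.inr (Or.inr (inv_eq_of_mul_eq_one_right ?_)))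
          rw [show v * w * (v * w) = v * (w * v) * w by group, hvw, ← mul_assoc, hv2, one_mul, hw2] }
  have hMmem : ∀ x, x ∈ M ↔ x = 1 ∨ x = v ∨ x = w ∨ x = v * w := fun x => Iff.rfl
  have hcard : Nat.card M = 4 := by
    show Nat.card ({1, v, w, v * w} : Set G) = 4
    classical
    rw [Nat.card_coe_set_eq, Set.ncard_insert_of_notMem, Set.ncard_insert_of_notMem, Set.ncard_pair]
    · intro h1; exact hv1 (right_eq_mul.mp h1)
    · rintro (h1 | h1)
      · exact hne h1
      · exact hw1 (left_eq_mul.mp h1)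
    · rintro (h1 | h1 | h1)
      exacts [hv1 h1.symm, hw1 h1.symm, hvw1 h1.symm]
  have hn : ∀ y : G, y * v * y⁻¹ ∈ M → y * w * y⁻¹ ∈ M → y ∈ normalizer (M : Set G) := by
    intro y h1 h2
    refine mem_normalizer_of_cj_le ?_
    rintro _ ⟨x, hx, rfl⟩
    show y * x * y⁻¹ ∈ M
    rcases hx with rfl | rfl | rfl | rfl
    · simp
    · exact h1
    · exact h2
    · rw [show y * (v * w) * y⁻¹ = (y * v * y⁻¹) * (y * w * y⁻¹) by group]
      exact mul_mem h1 h2
  have hav' : a * v * a⁻¹ = v := by rw [hav.eq, mul_inv_cancel_right]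
  have hbw' : b * w * b⁻¹ = w := by rw [hbw.eq, mul_inv_cancel_right]
  have haN : a ∈ normalizer (M : Set G) :=
    hn a ((hMmem _).mpr (Or.inr (Or.inl hav'))) ((hMmem _).mpr (Or.inr (Or.inr (Or.inr haw))))
  have hbN : b ∈ normalizer (M : Set G) :=
    hn b ((hMmem _).mpr (Or.inr (Or.inr (Or.inr (hbv.trans hvw)))))
      ((hMmem _).mpr (Or.inr (Or.inr (Or.inl hbw'))))
  have hcv : a * b * v * (a * b)⁻¹ = w := by
    calc a * b * v * (a * b)⁻¹ = a * (b * v * b⁻¹) * a⁻¹ := by group
      _ = (a * w * a⁻¹) * (a * v * a⁻¹) := by rw [hbv]; group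
      _ = w := by rw [haw, hav', mul_assoc, hvw, ← mul_assoc, hv2, one_mul]
  have hcw : a * b * w * (a * b)⁻¹ = v * w := by
    calc a * b * w * (a * b)⁻¹ = a * (b * w * b⁻¹) * a⁻¹ := by group
      _ = v * w := by rw [hbw', haw]
  refine PComplement.involves_sfour M hcard (c := a * b) (t := a) (mul_mem haN hbN) haN ?_
    ⟨v, (hMmem _).mpr (Or.inr (Or.inl rfl)), hv1, hav⟩ ?_
  · intro m hm hc
    have hm' : a * b * m * (a * b)⁻¹ = m := by rw [hc.eq, mul_inv_cancel_right]
    rcases hm with rfl | rfl | rfl | rfl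
    · rfl
    · exact absurd (hm'.symm.trans hcv) hne
    · exact absurd (right_eq_mul.mp (hm'.symm.trans hcw)) hv1
    · rw [show a * b * (v * w) * (a * b)⁻¹ = (a * b * v * (a * b)⁻¹) * (a * b * w * (a * b)⁻¹) by group,
        hcv, hcw, ← mul_assoc, hvw, mul_assoc, hw2, mul_one] at hm'
      exact absurd (left_eq_mul.mp hm') hw1
  · intro hall
    have h1 : a * w * a⁻¹ = w := by
      rw [(hall w ((hMmem _).mpr (Or.inr (Or.inr (Or.inl rfl))))).eq, mul_inv_cancel_right]
    exact hv1 (right_eq_mul.mp (h1.symm.trans haw))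

/-- Timmesfeld replacement in a Sylow subgroup: if a largest elementary abelian `A ≤ S` moves the
elementary abelian `U ≤ S` it normalizes, some largest elementary abelian subgroup of `S` moves it
quadratically. -/
theorem exists_quadratic_max {S U A : Subgroup G} (hU : IsElementaryAbelian 2 U) (hUS : U ≤ S)
    (hA : A ∈ maxElementaryAbelianSubgroups 2 G) (hAS : A ≤ S) (hAU : A ≤ normalizer (U : Set G))
    (hne : ¬ A ≤ centralizer (U : Set G)) :
    ∃ B ∈ maxElementaryAbelianSubgroups 2 G, B ≤ S ∧ B ≤ normalizer (U : Set G) ∧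
      ⁅⁅U, B⁆, B⁆ = ⊥ ∧ ¬ B ≤ centralizer (U : Set G) := by
  haveI : Fact (Nat.Prime 2) := ⟨Nat.prime_two⟩
  have hoff := isBestOffenderOn_of_max hU hA
  obtain ⟨h1, h2⟩ := timmesfeld hU.1 hAU hoff.2.1 hoff.1 (le_refl U)
  set A₁ := A ⊓ centralizer ((⁅U, A⁆ : Subgroup G) : Set G) with hA₁
  set Y := U ⊓ centralizer (A₁ : Set G) with hY
  set D := U ⊓ centralizer (A : Set G) with hD
  set B := A₁ ⊔ Y with hB
  have hA₁n : A₁ ≤ normalizer (Y : Set G) :=
    (show A₁ ≤ centralizer (Y : Set G) from le_centralizer_iff.mp inf_le_right).trans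
      (centralizer_le_normalizer _)
  have hBe : IsElementaryAbelian 2 B :=
    PGroup.isElementaryAbelian_sup (PGroup.isElementaryAbelian_mono hA.1 inf_le_left)
      (PGroup.isElementaryAbelian_mono hU inf_le_left) fun a ha y hy => hy.2 a ha
  have hWU : ⁅U, A⁆ ≤ U := commutator_le_left hAU
  have hint : A₁ ⊓ Y = D := by
    refine le_antisymm (fun x hx => ⟨hx.2.1, fun a ha =>
      PGroup.mul_comm_of_elementaryAbelian hA.1 ha hx.1.1⟩) fun x hx => ?_
    have hxA : x ∈ A := inf_centralizer_le_of_max hU hA hx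
    exact ⟨⟨hxA, fun y hy => commute_mem hU.1 (hWU hy) hx.1⟩,
      hx.1, fun a ha => hx.2 a ha.1⟩
  have hc := card_sup_mul_card_inf hA₁n
  rw [hint, ← h2] at hc
  have hBc : Nat.card B = Nat.card A := Nat.eq_of_mul_eq_mul_right Nat.card_pos hc
  have hYc : Y ≤ centralizer (U : Set G) := fun y hy u hu => commute_mem hU.1 hu hy.1
  have hquadA : ⁅⁅U, A₁⁆, A₁⁆ = ⊥ := le_bot_iff.mp
    ((commutator_mono (commutator_mono le_rfl inf_le_left) le_rfl).trans
      (commutator_eq_bot_iff_le_centralizer.mpr (le_centralizer_iff.mp inf_le_right)).le)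
  refine ⟨B, ⟨hBe, fun E hE => (hA.2 E hE).trans hBc.ge⟩,
    sup_le (inf_le_left.trans hAS) (inf_le_left.trans hUS),
    sup_le (inf_le_left.trans hAU) (hYc.trans (centralizer_le_normalizer _)), ?_, ?_⟩
  · have hUB : ⁅U, B⁆ ≤ ⁅U, A⁆ := by
      refine commutator_le.mpr fun u hu b hb => ?_
      obtain ⟨a, ha, y, hy, rfl⟩ := (Coprime.mem_sup_iff_of_le_normalizer hA₁n).mp hb
      rw [show ⁅u, a * y⁆ = ⁅u, a⁆ by
        rw [commutatorElement_def, commutatorElement_def, mul_inv_rev]
        calc u * (a * y) * u⁻¹ * (y⁻¹ * a⁻¹) = u * a * (y * u⁻¹) * y⁻¹ * a⁻¹ := by group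
          _ = u * a * (u⁻¹ * y) * y⁻¹ * a⁻¹ := by rw [(hYc hy) u⁻¹ (inv_mem hu)]
          _ = _ := by group]
      exact commutator_mem_commutator hu ha.1
    refine le_bot_iff.mp ((commutator_mono hUB le_rfl).trans ?_)
    refine (commutator_eq_bot_iff_le_centralizer.mpr (le_centralizer_iff.mp ?_)).le
    exact sup_le inf_le_right (fun y hy x hx => commute_mem hU.1 (hWU hx) hy.1)
  · intro hle
    refine commutator_ne_bot_of_replacement hU hAU hoff (le_refl U) ?_
      (commutator_eq_bot_iff_le_centralizer.mpr (le_centralizer_iff.mp (le_sup_left.trans hle)))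
    intro h0
    exact hne (le_centralizer_iff.mp (commutator_eq_bot_iff_le_centralizer.mp h0))

end Cfsg.Agent.Offender
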