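import Cfsg.Agent.Lib.Offender.WFull
import Cfsg.Agent.Lib.Offender.PlaneSFour

/-!
# No offenders without a plane

`FixGen V X T F`: `T` is a Sylow 2-subgroup of `X`, fixes `F ≤ V` and `V = ⟨F^X⟩` is elementary
abelian.  If no elements of `X` induce `S₃` on a four-subgroup of `V`, then no quadratically acting
2-subgroup of `X` is an offender on `V` (`FixGen.card_lt`), and every largest elementary abelian
subgroup of `G` lying in `T` centralizes `V` (`FixGen.le_centralizer_of_max`).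
-/

set_option autoImplicit false
set_option linter.style.haveILetI false

namespace Cfsg.Agent.Offender

open Subgroup Subnormal
open scoped commutatorElement

universe u

variable {G : Type u} [Group G]

/-- `V = ⟨F^X⟩` with `F` fixed by the Sylow 2-subgroup `T` of `X`. -/
structure FixGen (V X T F : Subgroup G) : Prop where
  hV : IsElementaryAbelian 2 V
  hXV : X ≤ normalizer (V : Set G)
  hTX : T ≤ X
  hT : IsPGroup 2 T
  hTi : ¬ 2 ∣ T.relIndex X
  hFV : F ≤ V
  hTF : T ≤ centralizer (F : Set G)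
  hgen : V ≤ closure {y | ∃ x ∈ X, ∃ w ∈ F, y = x * w * x⁻¹}

/-- The weight `|B / C_B(V)| |C_V(B)|`. -/
noncomputable def weight (V B : Subgroup G) : ℕ :=
  Nat.card B * Nat.card ↥(V ⊓ centralizer (B : Set G)) / Nat.card ↥(B ⊓ centralizer (V : Set G))

theorem weight_mul [Finite G] (V B : Subgroup G) :
    weight V B * Nat.card ↥(B ⊓ centralizer (V : Set G)) =
      Nat.card B * Nat.card ↥(V ⊓ centralizer (B : Set G)) :=
  Nat.div_mul_cancel (dvd_mul_of_dvd_left (card_dvd_of_le inf_le_left) _)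

theorem weight_of_le [Finite G] {V B : Subgroup G} (h : B ≤ centralizer (V : Set G)) :
    weight V B = Nat.card V := by
  rw [weight, inf_eq_left.mpr (le_centralizer_iff.mp h : V ≤ centralizer (B : Set G)),
    inf_eq_left.mpr h, Nat.mul_div_cancel_left _ Nat.card_pos]

theorem cj_inf_centralizer {V : Subgroup G} (B : Subgroup G) {x : G}
    (hx : x ∈ normalizer (V : Set G)) :
    cj x (V ⊓ centralizer (B : Set G)) = V ⊓ centralizer ((cj x B : Subgroup G) : Set G) ∧
      cj x (B ⊓ centralizer (V : Set G)) = cj x B ⊓ centralizer (V : Set G) := by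
  have hxV : cj x V = V := cj_eq_of_mem_normalizer hx
  constructor
  · rw [cj, Subgroup.map_inf _ _ _ (MulEquiv.injective _), map_centralizer_equiv]
    congr 1
  · rw [cj, Subgroup.map_inf _ _ _ (MulEquiv.injective _), map_centralizer_equiv]
    congr 3

theorem weight_cj {V : Subgroup G} (B : Subgroup G) {x : G} (hx : x ∈ normalizer (V : Set G)) :
    weight V (cj x B) = weight V B := by
  have hc : ∀ C : Subgroup G, Nat.card ↥(cj x C) = Nat.card ↥C := fun C =>
    card_map_of_injective (MulAut.conj x).injective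
  rw [weight, weight, hc B, ← (cj_inf_centralizer B hx).1, ← (cj_inf_centralizer B hx).2, hc, hc]

theorem cj_quad {V : Subgroup G} {B : Subgroup G} {x : G} (hx : x ∈ normalizer (V : Set G))
    (hq : ⁅⁅V, B⁆, B⁆ = ⊥) : ⁅⁅V, cj x B⁆, cj x B⁆ = ⊥ := by
  conv_lhs => rw [← cj_eq_of_mem_normalizer hx]
  rw [cj, cj, ← map_commutator, ← map_commutator, hq, Subgroup.map_bot]

theorem cj_not_le {V : Subgroup G} {B : Subgroup G} {x : G} (hx : x ∈ normalizer (V : Set G))
    (hne : ¬ B ≤ centralizer (V : Set G)) : ¬ cj x B ≤ centralizer (V : Set G) := fun hle => by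
  refine hne (fun b hb v hv => ?_)
  have h1 := hle (conj_mem_cj (g := x) hb) (x * v * x⁻¹) ((mem_normalizer_iff.mp hx v).mp hv)
  exact mul_left_cancel (a := x) (mul_right_cancel (b := x⁻¹) (by simpa [mul_assoc] using h1))

variable [Finite G]

/-- Best offenders stay best on a submodule. -/
theorem best_mono {U V A : Subgroup G} (hV : IsMulCommutative V) (hUV : U ≤ V) {B : Subgroup G}
    (hB : B ≤ A) (h : Nat.card B * Nat.card ↥(V ⊓ centralizer (B : Set G)) ≤
      Nat.card A * Nat.card ↥(V ⊓ centralizer (A : Set G))) :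
    Nat.card B * Nat.card ↥(U ⊓ centralizer (B : Set G)) ≤
      Nat.card A * Nat.card ↥(U ⊓ centralizer (A : Set G)) := by
  set Z := V ⊓ centralizer (A : Set G)
  set Y := U ⊓ centralizer (B : Set G)
  have hZn : Y ≤ normalizer (Z : Set G) := fun u hu => centralizer_le_normalizer _ fun z hz =>
    commute_mem hV hz.1 (hUV hu.1)
  have hYZ : Y ⊔ Z ≤ V ⊓ centralizer (B : Set G) :=
    sup_le (inf_le_inf_right _ hUV) (inf_le_inf_left _ (centralizer_le (SetLike.coe_subset_coe.mpr hB)))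
  have hint : Y ⊓ Z = U ⊓ centralizer (A : Set G) := by
    refine le_antisymm (fun u hu => ⟨hu.1.1, hu.2.2⟩) fun u hu => ?_
    exact ⟨⟨hu.1, centralizer_le (SetLike.coe_subset_coe.mpr hB) hu.2⟩, hUV hu.1, hu.2⟩
  have hc := card_sup_mul_card_inf hZn
  rw [hint] at hc
  refine Nat.le_of_mul_le_mul_right ?_ (Nat.card_pos (α := Z))
  calc Nat.card B * Nat.card Y * Nat.card Z
      = Nat.card B * (Nat.card ↥(Y ⊔ Z) * Nat.card ↥(U ⊓ centralizer (A : Set G))) := by rw [hc]; ring
    _ ≤ Nat.card B * (Nat.card ↥(V ⊓ centralizer (B : Set G)) * Nat.card ↥(U ⊓ centralizer (A : Set G))) := by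
        gcongr; exact card_le_of_le hYZ
    _ = Nat.card B * Nat.card ↥(V ⊓ centralizer (B : Set G)) * Nat.card ↥(U ⊓ centralizer (A : Set G)) := by ring
    _ ≤ Nat.card A * Nat.card Z * Nat.card ↥(U ⊓ centralizer (A : Set G)) := Nat.mul_le_mul_right _ h
    _ = _ := by ring

omit [Finite G] in
theorem closure_conj_le {V X F : Subgroup G} (hX : X ≤ normalizer (V : Set G)) (hF : F ≤ V) :
    closure {y | ∃ x ∈ X, ∃ w ∈ F, y = x * w * x⁻¹} ≤ V := (closure_le _).mpr (by
  rintro _ ⟨x, hx, w, hw, rfl⟩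
  exact (mem_normalizer_iff.mp (hX hx) w).mp (hF hw))

theorem le_normalizer_closure_conj {X F : Subgroup G} :
    X ≤ normalizer ((closure {y | ∃ x ∈ X, ∃ w ∈ F, y = x * w * x⁻¹} : Subgroup G) : Set G) := by
  intro y hy
  refine mem_normalizer_of_cj_le ?_
  rw [cj, MonoidHom.map_closure, closure_le]
  rintro _ ⟨_, ⟨x, hx, w, hw, rfl⟩, rfl⟩
  exact subset_closure ⟨y * x, mul_mem hy hx, w, hw, by simp [mul_assoc]⟩

omit [Finite G] in
theorem le_closure_conj {X F : Subgroup G} :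
    F ≤ closure {y | ∃ x ∈ X, ∃ w ∈ F, y = x * w * x⁻¹} :=
  fun w hw => subset_closure ⟨1, one_mem _, w, hw, by simp⟩

theorem FixGen.card_lt {V X T F : Subgroup G} (h : FixGen V X T F) (hno : ¬ HasPlane V X)
    {D : Subgroup G} (hDX : D ≤ X) (hD : IsPGroup 2 D) (hq : ⁅⁅V, D⁆, D⁆ = ⊥)
    (hne : ¬ D ≤ centralizer (V : Set G)) :
    Nat.card D * Nat.card ↥(V ⊓ centralizer (D : Set G)) <
      Nat.card V * Nat.card ↥(D ⊓ centralizer (V : Set G)) := by
  haveI : Fact (Nat.Prime 2) := ⟨Nat.prime_two⟩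
  suffices key : ∀ n (V X T F D : Subgroup G), Nat.card X = n → FixGen V X T F → ¬ HasPlane V X →
      D ≤ X → IsPGroup 2 D → ⁅⁅V, D⁆, D⁆ = ⊥ → ¬ D ≤ centralizer (V : Set G) →
      Nat.card D * Nat.card ↥(V ⊓ centralizer (D : Set G)) <
        Nat.card V * Nat.card ↥(D ⊓ centralizer (V : Set G)) from
    key _ V X T F D rfl h hno hDX hD hq hne
  intro n
  induction n using Nat.strong_induction_on with
  | _ n IH =>
  intro V X T F D hn h hno hDX hD hq hne
  by_contra hcon
  have hwD : Nat.card V ≤ weight V D := by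
    refine (Nat.le_div_iff_mul_le Nat.card_pos).mpr ?_
    exact not_lt.mp hcon
  -- an offender of greatest weight
  obtain ⟨x, hx, hxT⟩ := exists_cj_le h.hTX h.hT h.hTi hDX hD
  obtain ⟨A₀, ⟨hA₀T, hA₀q, hA₀ne⟩, hmax⟩ := Set.exists_max_image
    {B : Subgroup G | B ≤ T ∧ ⁅⁅V, B⁆, B⁆ = ⊥ ∧ ¬ B ≤ centralizer (V : Set G)}
    (weight V) (Set.toFinite _)
    ⟨cj x D, hxT, cj_quad (h.hXV hx) hq, cj_not_le (h.hXV hx) hne⟩
  set m := weight V A₀ with hm
  have hVm : Nat.card V ≤ m := hwD.trans ((weight_cj D (h.hXV hx)).symm.trans_le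
    (hmax _ ⟨hxT, cj_quad (h.hXV hx) hq, cj_not_le (h.hXV hx) hne⟩))
  set 𝒥 : Set (Subgroup G) :=
    {B | B ≤ T ∧ ⁅⁅V, B⁆, B⁆ = ⊥ ∧ ¬ B ≤ centralizer (V : Set G) ∧ weight V B = m} with h𝒥
  set J := sSup 𝒥 with hJ
  have hJT : J ≤ T := sSup_le fun B hB => hB.1
  have hmove : ∀ z ∈ X, ∀ B ∈ 𝒥, cj z B ≤ T → cj z B ∈ 𝒥 := fun z hz B hB hle =>
    ⟨hle, cj_quad (h.hXV hz) hB.2.1, cj_not_le (h.hXV hz) hB.2.2.1,
      (weight_cj B (h.hXV hz)).trans hB.2.2.2⟩
  have hJn : ∀ z ∈ X, (∀ B ∈ 𝒥, cj z B ≤ T) → z ∈ normalizer (J : Set G) := by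
    intro z hz hpres
    refine mem_normalizer_of_cj_le ?_
    rw [cj, map_le_iff_le_comap, hJ]
    refine sSup_le fun B hB => map_le_iff_le_comap.mp ?_
    exact le_sSup (hmove z hz B hB (hpres B hB))
  set N := X ⊓ normalizer (J : Set G) with hN
  have hTN : T ≤ N := le_inf h.hTX fun t ht => hJn t (h.hTX ht) fun B hB =>
    (cj_mono hB.1).trans (cj_eq_of_mem ht).le
  set W := closure {y | ∃ x ∈ N, ∃ w ∈ F, y = x * w * x⁻¹} with hW
  have hWV : W ≤ V := closure_conj_le (inf_le_left.trans h.hXV) h.hFV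
  have hJW : J ≤ centralizer (W : Set G) := by
    rw [le_centralizer_iff, hW, closure_le]
    rintro _ ⟨z, hz, w, hw, rfl⟩ j hj
    have hj' : z⁻¹ * j * z ∈ J := by simpa using (mem_normalizer_iff.mp (inv_mem hz.2) j).mp hj
    have h1 : w * (z⁻¹ * j * z) = z⁻¹ * j * z * w := h.hTF (hJT hj') w hw
    calc j * (z * w * z⁻¹) = z * (z⁻¹ * j * z * w) * z⁻¹ := by group
      _ = z * (w * (z⁻¹ * j * z)) * z⁻¹ := by rw [h1]
      _ = z * w * z⁻¹ * j := by group
  set G₁ := X ⊓ normalizer (W : Set G) with hG₁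
  have hNG₁ : N ≤ G₁ := le_inf inf_le_left le_normalizer_closure_conj
  have hFW : F ≤ W := le_closure_conj
  have hG₁X : G₁ < X := by
    refine lt_of_le_of_ne inf_le_left fun he => hA₀ne ?_
    have hVW : V ≤ W := h.hgen.trans (closure_conj_le (inf_eq_left.mp he) hFW)
    have hA₀ : A₀ ∈ 𝒥 := ⟨hA₀T, hA₀q, hA₀ne, rfl⟩
    have h1 : A₀ ≤ J := le_sSup hA₀
    exact (h1.trans hJW).trans (centralizer_le (SetLike.coe_subset_coe.mpr hVW))
  -- a minimal overgroup of `T` that moves `W`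
  obtain ⟨P, ⟨hTP, hPX, hPG⟩, hPmin⟩ := (Set.toFinite
    {P : Subgroup G | T ≤ P ∧ P ≤ X ∧ ¬ P ≤ G₁}).exists_minimal
    ⟨X, h.hTX, le_rfl, fun hle => hG₁X.not_ge hle⟩
  set U := closure {y | ∃ x ∈ P, ∃ w ∈ W, y = x * w * x⁻¹} with hU
  have hUV : U ≤ V := closure_conj_le (hPX.trans h.hXV) hWV
  have hPU : P ≤ normalizer (U : Set G) := le_normalizer_closure_conj
  have hWU : W ≤ U := le_closure_conj
  have hPi : ¬ 2 ∣ T.relIndex P := fun hd =>
    h.hTi (hd.trans (relIndex_dvd_of_le_left' hTP hPX))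
  obtain ⟨A, hA, hAU⟩ : ∃ A ∈ 𝒥, ¬ A ≤ centralizer (U : Set G) := by
    by_contra hcon
    push Not at hcon
    set K := P ⊓ centralizer (U : Set G) with hK
    have hKn : (K.subgroupOf P).Normal := (normal_subgroupOf_iff_le_normalizer inf_le_left).mpr
      (LocalStructure.le_normalizer_inf le_normalizer (LocalStructure.le_normalizer_centralizer hPU))
    let S : Sylow 2 P := (h.hT.comap_of_injective P.subtype P.subtype_injective :
      IsPGroup 2 (T.subgroupOf P)).toSylow hPi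
    obtain ⟨Q, hQ⟩ := exists_sylow_eq_inf S (K.subgroupOf P)
    have htop := Q.normalizer_sup_eq_top (N := K.subgroupOf P)
    rw [hQ] at htop
    refine hPG fun g hg => ?_
    obtain ⟨q, hq', k, hk, hqk⟩ := mem_sup_of_normal_right.mp (htop.ge (mem_top (⟨g, hg⟩ : P)))
    have hg' : g = (q : G) * k := (congrArg Subtype.val hqk).symm
    rw [hg']
    refine mul_mem (hNG₁ ⟨hPX q.2, hJn _ (hPX q.2) fun B hB => ?_⟩) ?_
    · rintro _ ⟨u, hu, rfl⟩
      have hu' : (⟨u, hTP (hB.1 hu)⟩ : P) ∈ (S : Subgroup P) ⊓ K.subgroupOf P :=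
        ⟨hB.1 hu, hTP (hB.1 hu), hcon B hB hu⟩
      exact ((mem_normalizer_iff.mp hq' _).mp hu').1
    · have hk' : (k : G) ∈ centralizer (U : Set G) := (mem_inf.mp (mem_subgroupOf.mp hk)).2
      exact ⟨hPX k.2, centralizer_le_normalizer _
        (centralizer_le (SetLike.coe_subset_coe.mpr hWU) hk')⟩
  -- the minimal configuration
  have hTG₁ : T ≤ G₁ := hTN.trans hNG₁
  have hG₁i : ¬ 2 ∣ T.relIndex G₁ := fun hd =>
    h.hTi (hd.trans (relIndex_dvd_of_le_left' hTG₁ inf_le_left))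
  set M := P ⊓ normalizer (W : Set G) with hM
  have hTM : T ≤ M := le_inf hTP (hTG₁.trans inf_le_right)
  refine hno ((WFF.exists_plane (M := M) (A := A) (W := W) (T := T)
    { hV := PGroup.isElementaryAbelian_mono h.hV hUV
      hXV := hPU
      hTX := hTP
      hT := h.hT
      hTi := hPi
      hAT := hA.1
      hbest := fun B hB => best_mono h.hV.1 hUV hB ?_
      hquad := ?_
      hne := hAU
      hWV := hWU
      hgen := le_rfl
      hMX := lt_of_le_of_ne inf_le_left fun he => hPG (le_inf hPX (inf_eq_left.mp he))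
      hTM := hTM
      huniq := fun K hK hTK => le_inf hK.le ?_
      hMW := inf_le_right
      hWM := le_rfl
      hWA := fun z hz hle => ?_
      hstrict := fun E hE hE2 hEq hEne => ?_ }).mono hUV hPX)
  · have hw : weight V B ≤ weight V A := by
      rw [hA.2.2.2]
      by_cases hBV : B ≤ centralizer (V : Set G)
      · rw [weight_of_le hBV]; exact hVm
      · exact hmax B ⟨hB.trans hA.1, le_bot_iff.mp
          ((commutator_mono (commutator_mono le_rfl hB) hB).trans hA.2.1.le), hBV⟩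
    rw [← weight_mul V B, ← weight_mul V A]
    exact Nat.mul_le_mul hw (card_le_of_le (inf_le_inf_right _ hB))
  · exact le_bot_iff.mp
      ((commutator_mono (commutator_mono hUV le_rfl) le_rfl).trans hA.2.1.le)
  · by_contra hKW
    exact hK.not_ge (hPmin ⟨hTK, hK.le.trans hPX, fun hle => hKW (hle.trans inf_le_right)⟩ hK.le)
  · -- conjugates of `A` inside `M` fix `W`
    have hMi : ¬ 2 ∣ T.relIndex M := fun hd =>
      hPi (hd.trans (relIndex_dvd_of_le_left' hTM inf_le_left))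
    have hAp : IsPGroup 2 ↥(cj z A) := (h.hT.to_le hA.1).map _
    obtain ⟨y, hy, hyT⟩ := exists_cj_le hTM h.hT hMi hle hAp
    have h1 : cj (y * z) A ∈ 𝒥 := hmove _ (mul_mem (hPX hy.1) (hPX hz)) A hA (by rwa [cj_mul])
    have h1' : cj (y * z) A ≤ J := le_sSup h1
    have h2 : cj y (cj z A) ≤ centralizer (W : Set G) := by
      rw [← cj_mul]; exact h1'.trans hJW
    have h3 := cj_mono (g := y⁻¹) h2
    rw [cj_inv_cj, cj_eq_of_mem_normalizer (LocalStructure.le_normalizer_centralizer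
      (le_refl (normalizer (W : Set G))) (inv_mem hy.2))] at h3
    exact h3
  · have hlt : Nat.card G₁ < n := hn ▸ lt_of_le_of_ne (card_le_of_le inf_le_left)
      fun he => hG₁X.ne (eq_of_le_of_card_ge inf_le_left he.ge)
    have hEG : E ≤ G₁ := hE.trans (inf_le_inf_right _ hPX)
    refine IH _ hlt W G₁ T F E rfl ⟨PGroup.isElementaryAbelian_mono h.hV hWV, inf_le_right, hTG₁,
      h.hT, hG₁i, hFW, h.hTF, ?_⟩ (fun hp => hno (hp.mono hWV inf_le_left)) hEG hE2 hEq hEne
    exact closure_mono fun y ⟨z, hz, w, hw, hy⟩ => ⟨z, hNG₁ hz, w, hw, hy⟩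

/-- Without a plane, a largest elementary abelian subgroup inside `T` centralizes `V`. -/
theorem FixGen.le_centralizer_of_max {V X T F : Subgroup G} (h : FixGen V X T F)
    (hno : ¬ HasPlane V X) (hVT : V ≤ T) {A : Subgroup G}
    (hA : A ∈ maxElementaryAbelianSubgroups 2 G) (hAT : A ≤ T) :
    A ≤ centralizer (V : Set G) := by
  by_contra hne
  obtain ⟨B, hB, hBT, -, hBq, hBne⟩ :=
    exists_quadratic_max h.hV hVT hA hAT (hAT.trans (h.hTX.trans h.hXV)) hne
  refine (h.card_lt hno (hBT.trans h.hTX) (h.hT.to_le hBT) hBq hBne).not_ge ?_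
  set C := B ⊓ centralizer (V : Set G) with hC
  have hbest := (isBestOffenderOn_of_max h.hV hB).1 C inf_le_left
  rwa [inf_eq_left.mpr (le_centralizer_iff.mp inf_le_right : V ≤ centralizer (C : Set G)),
    mul_comm (Nat.card C)] at hbest

end Cfsg.Agent.Offender
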