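import Mathlib

/-!
# The gap lemma

Let `S` be a space of maps `Y → C` over `F₂` and `L` a space of endomorphisms of `Y`, all nonzero ones
injective and none with a nonzero fixed vector, such that `S ∘ L ⊆ S`.  If every nonzero subspace `D` of
`S` satisfies `dim D + dim (common kernel) < dim Y`, then `dim S + dim L < dim Y`.

The proof finds `g` in the algebra generated by `L` acting on a minimal invariant subspace of `S` as a
field generator, and compares dimensions on the kernel of its minimal polynomial.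
-/

set_option autoImplicit false
set_option linter.style.haveILetI false

namespace Cfsg.Agent.Offender.Gap

open Module Polynomial

universe u v

/-- An endomorphism killed by an irreducible polynomial: its degree divides the dimension. -/
theorem natDegree_dvd_finrank {F : Type*} [Field F] {M : Type*} [AddCommGroup M] [Module F M]
    {f : Module.End F M} {p : F[X]} (hp : Irreducible p) (h : aeval f p = 0) :
    p.natDegree ∣ finrank F M := by
  haveI : Fact (Irreducible p) := ⟨hp⟩
  let φ : AdjoinRoot p →+* Module.End F M :=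
    Ideal.Quotient.lift (Ideal.span {p}) (aeval f : F[X] →ₐ[F] Module.End F M).toRingHom
      fun a ha => by
        obtain ⟨b, rfl⟩ := Ideal.mem_span_singleton'.mp ha
        show aeval f (b * p) = 0
        rw [map_mul, h, mul_zero]
  have hφ : ∀ a : F, φ (AdjoinRoot.of p a) = algebraMap F (Module.End F M) a := fun a =>
    (Ideal.Quotient.lift_mk _ _ _).trans (aeval_C f a)
  letI : Module (AdjoinRoot p) M := Module.compHom M φ
  haveI : IsScalarTower F (AdjoinRoot p) M := ⟨fun a b m => by
    show φ (a • b) m = a • φ b m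
    rw [Algebra.smul_def, map_mul, AdjoinRoot.algebraMap_eq, hφ, Module.End.mul_apply,
      Module.algebraMap_end_apply]⟩
  have h1 : finrank F (AdjoinRoot p) = p.natDegree := by
    rw [(AdjoinRoot.powerBasis hp.ne_zero).finrank, AdjoinRoot.powerBasis_dim]
  exact ⟨finrank (AdjoinRoot p) M, by rw [← h1, finrank_mul_finrank]⟩

set_option maxHeartbeats 800000 in
/-- A simple module over a finite algebra of operators: some element generates a field of full degree. -/
theorem exists_field_generator {T : Type u} [AddCommGroup T] [Module (ZMod 2) T] [Finite T] [Nontrivial T]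
    (A : Subalgebra (ZMod 2) (Module.End (ZMod 2) T))
    (hsimple : ∀ N : Submodule (ZMod 2) T, (∀ a ∈ A, ∀ x ∈ N, a x ∈ N) → N = ⊥ ∨ N = ⊤) :
    ∃ r ∈ A, ∃ p : (ZMod 2)[X], Irreducible p ∧ p.natDegree = finrank (ZMod 2) T ∧ aeval r p = 0 := by
  classical
  haveI : IsSimpleModule A T := by
    rw [isSimpleModule_iff]
    refine { eq_bot_or_eq_top := fun N => ?_ }
    rcases hsimple (N.restrictScalars (ZMod 2)) (fun a ha x hx => N.smul_mem (⟨a, ha⟩ : A) hx) with
      h | h
    · exact Or.inl ((Submodule.restrictScalars_eq_bot_iff _ _ _).mp h)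
    · exact Or.inr ((Submodule.restrictScalars_eq_top_iff _ _ _).mp h)
  haveI : Finite (Module.End A T) := Finite.of_injective (fun f => (f : T → T)) DFunLike.coe_injective
  letI : DivisionRing (Module.End A T) := Module.End.instDivisionRing
  letI : Field (Module.End A T) := littleWedderburn _
  haveI : CharP (Module.End A T) 2 := charP_of_injective_algebraMap'
    (R := ZMod 2) (A := Module.End A T) 2
  set d := finrank (Module.End A T) T with hd
  have hd0 : 0 < d := finrank_pos
  haveI : NeZero d := ⟨hd0.ne'⟩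
  let E := FiniteField.Extension (Module.End A T) 2 d
  let e : T ≃ₗ[Module.End A T] E := LinearEquiv.ofFinrankEq T E
    (FiniteField.finrank_extension _ 2 d).symm
  haveI : Finite E := Finite.of_equiv T e.toEquiv
  obtain ⟨u, hu⟩ := IsCyclic.exists_generator (α := Eˣ)
  let f : Module.End (Module.End A T) T :=
    e.symm.toLinearMap ∘ₗ LinearMap.mulLeft (Module.End A T) (u : E) ∘ₗ e.toLinearMap
  haveI : Fintype T := Fintype.ofFinite T
  obtain ⟨r, hr⟩ := jacobson_density f (Finset.univ : Finset T)
  have hrf : ∀ t : T, (r : Module.End (ZMod 2) T) t = e.symm ((u : E) * e t) := fun t =>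
    (hr t (Finset.mem_univ t)).symm
  haveI : CharP E 2 := charP_of_injective_algebraMap' (R := Module.End A T) (A := E) 2
  letI : Algebra (ZMod 2) E := ZMod.algebra E 2
  have hpow : ∀ (n : ℕ) (t : T),
      ((r : Module.End (ZMod 2) T) ^ n) t = e.symm ((u : E) ^ n * e t) := by
    intro n
    induction n with
    | zero => intro t; rw [pow_zero, pow_zero, one_mul, e.symm_apply_apply, Module.End.one_apply]
    | succ n ih =>
      intro t
      rw [pow_succ', Module.End.mul_apply, ih, hrf, e.apply_symm_apply, pow_succ', mul_assoc]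
  have haeval : ∀ (q : (ZMod 2)[X]) (t : T),
      (aeval (r : Module.End (ZMod 2) T) q) t = e.symm ((aeval (u : E) q) * e t) := by
    intro q
    induction q using Polynomial.induction_on' with
    | add q₁ q₂ h₁ h₂ =>
      intro t; rw [map_add, map_add, LinearMap.add_apply, h₁, h₂, add_mul, map_add]
    | monomial n c =>
      intro t
      rw [aeval_monomial, aeval_monomial, Module.End.mul_apply, Module.algebraMap_end_apply, hpow]
      rcases (show c = 0 ∨ c = 1 from by revert c; decide) with rfl | rfl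
      · rw [map_zero, zero_smul, zero_mul, zero_mul, map_zero]
      · rw [map_one, one_smul, one_mul]
  set p := minpoly (ZMod 2) (u : E) with hp
  have hint : IsIntegral (ZMod 2) (u : E) := Algebra.IsIntegral.isIntegral _
  refine ⟨r, r.2, p, minpoly.irreducible hint, ?_, LinearMap.ext fun t => by
    rw [haeval, hp, minpoly.aeval, zero_mul, map_zero, LinearMap.zero_apply]⟩
  have htop : IntermediateField.adjoin (ZMod 2) {(u : E)} = ⊤ := by
    rw [eq_top_iff]
    intro x _
    by_cases hx : x = 0
    · rw [hx]; exact zero_mem _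
    obtain ⟨k, hk⟩ := Subgroup.mem_zpowers_iff.mp (hu (Units.mk0 x hx))
    have h1 : (u : E) ^ k = x := by
      have h2 := congrArg (fun w : Eˣ => (w : E)) hk
      simpa [Units.val_zpow_eq_zpow_val] using h2
    rw [← h1]
    exact zpow_mem (IntermediateField.mem_adjoin_simple_self _ _) k
  rw [hp, ← IntermediateField.adjoin.finrank hint, htop, IntermediateField.finrank_top']
  have hcard : Nat.card T = Nat.card E := Nat.card_congr e.toEquiv
  rw [Module.natCard_eq_pow_finrank (K := ZMod 2), Module.natCard_eq_pow_finrank (K := ZMod 2) (V := E)]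
    at hcard
  exact (Nat.pow_right_injective (by rw [Nat.card_zmod]) hcard).symm

theorem aeval_restrict_eq_zero {F : Type*} [Field F] {M : Type*} [AddCommGroup M] [Module F M]
    (f : Module.End F M) {N : Submodule F M} (hf : ∀ x ∈ N, f x ∈ N) (p : F[X])
    (h : ∀ x ∈ N, aeval f p x = 0) : aeval (f.restrict hf) p = 0 := by
  have hq : ∀ (q : F[X]) (x : N), ((aeval (f.restrict hf) q x : N) : M) = aeval f q x := by
    intro q
    induction q using Polynomial.induction_on' with
    | add q₁ q₂ h₁ h₂ => intro x; simp [map_add, h₁, h₂]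
    | monomial k c =>
      intro x
      have hk : ∀ (k : ℕ) (x : N), ((((f.restrict hf) ^ k) x : N) : M) = (f ^ k) x := by
        intro k
        induction k with
        | zero => intro x; rfl
        | succ k ih => intro x; rw [pow_succ', pow_succ', Module.End.mul_apply, Module.End.mul_apply, ← ih]; rfl
      rw [aeval_monomial, aeval_monomial, Module.End.mul_apply, Module.End.mul_apply,
        Module.algebraMap_end_apply, Module.algebraMap_end_apply, Submodule.coe_smul, hk]
  exact LinearMap.ext fun x => Subtype.ext ((hq p x).trans (h x x.2))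

variable {Y : Type u} {C : Type v} [AddCommGroup Y] [Module (ZMod 2) Y] [Finite Y]
  [AddCommGroup C] [Module (ZMod 2) C] [Finite C]

local notation "F₂" => ZMod 2

set_option maxHeartbeats 800000 in
/-- **Gap lemma.** -/
theorem finrank_add_finrank_lt [Nontrivial Y] (S : Submodule (ZMod 2) (Y →ₗ[ZMod 2] C))
    (L : Submodule (ZMod 2) (Module.End (ZMod 2) Y))
    (hinj : ∀ l ∈ L, l ≠ 0 → Function.Injective l)
    (hfix : ∀ l ∈ L, ∀ y, l y = y → y = 0)
    (hstab : ∀ σ ∈ S, ∀ l ∈ L, σ ∘ₗ l ∈ S)
    (hH : ∀ D : Submodule (ZMod 2) (Y →ₗ[ZMod 2] C), D ≤ S → D ≠ ⊥ →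
      ∀ N : Submodule (ZMod 2) Y, (∀ σ ∈ D, ∀ y ∈ N, σ y = 0) →
        finrank (ZMod 2) D + finrank (ZMod 2) N < finrank (ZMod 2) Y) :
    finrank (ZMod 2) S + finrank (ZMod 2) L < finrank (ZMod 2) Y := by
  classical
  haveI : Finite (Y →ₗ[F₂] C) := Finite.of_injective (fun f => (f : Y → C)) DFunLike.coe_injective
  haveI : Finite (Y →ₗ[F₂] Y) := Finite.of_injective (fun f => (f : Y → Y)) DFunLike.coe_injective
  rcases eq_or_ne S ⊥ with hS | hS
  · -- `l ↦ l w` embeds `L` and misses `w`
    obtain ⟨w, hw⟩ := exists_ne (0 : Y)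
    let ev : L →ₗ[F₂] Y := (LinearMap.applyₗ w).comp L.subtype
    have hev : Function.Injective ev := by
      rw [← LinearMap.ker_eq_bot, Submodule.eq_bot_iff]
      intro l hl
      by_contra h0
      have h1 : (l : Module.End F₂ Y) ≠ 0 := fun h => h0 (Subtype.ext h)
      exact hw (hinj _ l.2 h1 ((show (l : Module.End F₂ Y) w = 0 from hl).trans (map_zero _).symm))
    have hw' : w ∉ LinearMap.range ev := fun ⟨l, hl⟩ => hw (hfix _ l.2 w hl)
    have h1 : finrank F₂ (LinearMap.range ev) < finrank F₂ Y :=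
      Submodule.finrank_lt fun h => hw' (h ▸ Submodule.mem_top)
    rw [LinearMap.finrank_range_of_inj hev] at h1
    rw [hS, finrank_bot, zero_add]
    exact h1
  -- a minimal invariant subspace
  obtain ⟨T, ⟨hT0, hTS, hTstab⟩, hTmin⟩ := (Set.toFinite
    {T : Submodule F₂ (Y →ₗ[F₂] C) | T ≠ ⊥ ∧ T ≤ S ∧ ∀ σ ∈ T, ∀ l ∈ L, σ ∘ₗ l ∈ T}).exists_minimal
    ⟨S, hS, le_rfl, hstab⟩
  haveI : Nontrivial T := Submodule.nontrivial_iff_ne_bot.mpr hT0
  let P : ∀ l ∈ L, Module.End F₂ T := fun l hl =>
    (LinearMap.lcomp F₂ C l).restrict (p := T) (q := T) fun σ hσ => hTstab σ hσ l hl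
  let A : Subalgebra F₂ (Module.End F₂ T) := Algebra.adjoin F₂ {x | ∃ l hl, x = P l hl}
  have hsimple : ∀ N : Submodule F₂ T, (∀ a ∈ A, ∀ x ∈ N, a x ∈ N) → N = ⊥ ∨ N = ⊤ := by
    intro N hN
    refine or_iff_not_imp_left.mpr fun hN0 => ?_
    have hne : N.map T.subtype ≠ ⊥ := fun h => hN0 (by
      refine (Submodule.map_injective_of_injective T.subtype_injective) (h.trans ?_)
      exact (Submodule.map_bot _).symm)
    have hle : T ≤ N.map T.subtype := hTmin ⟨hne, (Submodule.map_subtype_le T N).trans hTS, by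
      rintro _ ⟨x, hx, rfl⟩ l hl
      exact ⟨P l hl x, hN _ (Algebra.subset_adjoin ⟨l, hl, rfl⟩) x hx, rfl⟩⟩
      (Submodule.map_subtype_le T N)
    rw [eq_top_iff]
    intro x _
    obtain ⟨y, hy, hyx⟩ := hle x.2
    rwa [Subtype.ext hyx] at hy
  obtain ⟨r, hrA, p, hp, hdeg, hrp⟩ := exists_field_generator A hsimple
  set n := finrank F₂ T with hn
  -- `r` is composition with some endomorphism of `Y`
  obtain ⟨g, hgS, hgT⟩ : ∃ g : Module.End F₂ Y, (∀ σ ∈ S, σ ∘ₗ g ∈ S) ∧
      ∀ t : T, ((r t : T) : Y →ₗ[F₂] C) = (t : Y →ₗ[F₂] C) ∘ₗ g := by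
    clear hrp
    induction hrA using Algebra.adjoin_induction with
    | mem x hx =>
      obtain ⟨l, hl, rfl⟩ := hx
      exact ⟨l, fun σ hσ => hstab σ hσ l hl, fun t => rfl⟩
    | algebraMap c =>
      refine ⟨c • LinearMap.id, fun σ hσ => ?_, fun t => ?_⟩
      · rw [LinearMap.comp_smul, LinearMap.comp_id]; exact S.smul_mem c hσ
      · rw [LinearMap.comp_smul, LinearMap.comp_id]; rfl
    | add x y _ _ hx hy =>
      obtain ⟨g₁, h₁, k₁⟩ := hx
      obtain ⟨g₂, h₂, k₂⟩ := hy
      refine ⟨g₁ + g₂, fun σ hσ => ?_, fun t => ?_⟩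
      · rw [LinearMap.comp_add]; exact S.add_mem (h₁ σ hσ) (h₂ σ hσ)
      · rw [LinearMap.comp_add, ← k₁, ← k₂]; rfl
    | mul x y _ _ hx hy =>
      obtain ⟨g₁, h₁, k₁⟩ := hx
      obtain ⟨g₂, h₂, k₂⟩ := hy
      refine ⟨g₂ * g₁, fun σ hσ => ?_, fun t => ?_⟩
      · rw [Module.End.mul_eq_comp, ← LinearMap.comp_assoc]; exact h₁ _ (h₂ σ hσ)
      · show ((x (y t) : T) : Y →ₗ[F₂] C) = _
        rw [Module.End.mul_eq_comp g₂ g₁, ← LinearMap.comp_assoc, ← k₂, ← k₁]
  let G : Module.End F₂ S := (LinearMap.lcomp F₂ C g).restrict (p := S) (q := S) hgS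
  set q := aeval g p with hq
  have hGpow : ∀ (q : F₂[X]) (σ : S),
      ((aeval G q σ : S) : Y →ₗ[F₂] C) = (σ : Y →ₗ[F₂] C) ∘ₗ aeval g q := by
    intro q
    induction q using Polynomial.induction_on' with
    | add q₁ q₂ h₁ h₂ => intro σ; simp [map_add, h₁, h₂, LinearMap.comp_add]
    | monomial k c =>
      intro σ
      have hk : ∀ (k : ℕ) (σ : S), (((G ^ k) σ : S) : Y →ₗ[F₂] C) = (σ : Y →ₗ[F₂] C) ∘ₗ (g ^ k) := by
        intro k
        induction k with
        | zero => intro σ; simp [Module.End.one_eq_id]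
        | succ k ih =>
          intro σ
          rw [pow_succ, Module.End.mul_apply, ih, pow_succ', Module.End.mul_eq_comp,
            ← LinearMap.comp_assoc]
          rfl
      rw [aeval_monomial, aeval_monomial, ← Algebra.smul_def, ← Algebra.smul_def, LinearMap.smul_apply,
        Submodule.coe_smul, hk, LinearMap.comp_smul]
  set D₀ := LinearMap.ker (aeval G p) with hD₀
  set I₀ := LinearMap.range (aeval G p) with hI₀
  set D := D₀.map S.subtype with hD
  set I := I₀.map S.subtype with hI
  have hfD : finrank F₂ D = finrank F₂ D₀ := Submodule.finrank_map_subtype_eq S D₀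
  have hfI : finrank F₂ I = finrank F₂ I₀ := Submodule.finrank_map_subtype_eq S I₀
  have hsplit : finrank F₂ S = finrank F₂ D + finrank F₂ I := by
    rw [hfD, hfI, add_comm]
    exact (LinearMap.finrank_range_add_finrank_ker _).symm
  -- `T ≤ D`
  have hTD : T ≤ D := by
    intro t ht
    refine ⟨⟨t, hTS ht⟩, ?_, rfl⟩
    have hTpow : ∀ (q : F₂[X]) (t : T),
        ((aeval r q t : T) : Y →ₗ[F₂] C) = (t : Y →ₗ[F₂] C) ∘ₗ aeval g q := by
      intro q
      induction q using Polynomial.induction_on' with
      | add q₁ q₂ h₁ h₂ => intro t; simp [map_add, h₁, h₂, LinearMap.comp_add]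
      | monomial k c =>
        intro t
        have hk : ∀ (k : ℕ) (t : T),
            (((r ^ k) t : T) : Y →ₗ[F₂] C) = (t : Y →ₗ[F₂] C) ∘ₗ (g ^ k) := by
          intro k
          induction k with
          | zero => intro t; simp [Module.End.one_eq_id]
          | succ k ih =>
            intro t
            rw [pow_succ, Module.End.mul_apply, ih, hgT, pow_succ', Module.End.mul_eq_comp,
              ← LinearMap.comp_assoc]
        rw [aeval_monomial, aeval_monomial, ← Algebra.smul_def, ← Algebra.smul_def, LinearMap.smul_apply,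
          Submodule.coe_smul, hk, LinearMap.comp_smul]
    rw [hD₀, SetLike.mem_coe, LinearMap.mem_ker]
    apply Subtype.ext
    rw [hGpow]
    have h1 := hTpow p ⟨t, ht⟩
    rw [hrp] at h1
    exact h1.symm
  have hD0 : D ≠ ⊥ := fun h => hT0 (le_bot_iff.mp (h ▸ hTD))
  set Y₁ := LinearMap.ker q with hY₁
  have hYsplit : finrank F₂ (LinearMap.range q) + finrank F₂ Y₁ = finrank F₂ Y :=
    LinearMap.finrank_range_add_finrank_ker q
  have hDlt : finrank F₂ D + finrank F₂ (LinearMap.range q) < finrank F₂ Y := by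
    refine hH D (Submodule.map_subtype_le S D₀) hD0 _ ?_
    rintro _ ⟨σ, hσ, rfl⟩ _ ⟨y, rfl⟩
    have h1 := hGpow p σ
    rw [LinearMap.mem_ker.mp hσ] at h1
    exact (LinearMap.congr_fun h1 y).symm
  have hIle : finrank F₂ I + finrank F₂ Y₁ ≤ finrank F₂ Y := by
    rcases eq_or_ne I ⊥ with hI0 | hI0
    · rw [hI0, finrank_bot, zero_add]; exact Submodule.finrank_le _
    refine (hH I (Submodule.map_subtype_le S I₀) hI0 _ ?_).le
    rintro _ ⟨_, ⟨σ, rfl⟩, rfl⟩ y hy
    have h1 := LinearMap.congr_fun (hGpow p σ) y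
    rw [LinearMap.comp_apply, ← hq, LinearMap.mem_ker.mp hy, map_zero] at h1
    exact h1
  -- divisibility
  have hdivD : n ∣ finrank F₂ D₀ := by
    rw [← hdeg]
    refine natDegree_dvd_finrank (f := G.restrict (p := D₀) (q := D₀) ?_) hp ?_
    · intro σ hσ
      rw [hD₀, LinearMap.mem_ker] at hσ ⊢
      have hc : aeval G p * G = G * aeval G p := by
        have h1 := congrArg (aeval G) (mul_comm p X)
        rw [map_mul, map_mul, aeval_X] at h1
        exact h1
      show (aeval G p * G) σ = 0
      rw [hc, Module.End.mul_apply, hσ, map_zero]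
    · exact aeval_restrict_eq_zero G _ p (fun σ hσ => LinearMap.mem_ker.mp hσ)
  have hdivY : n ∣ finrank F₂ Y₁ := by
    rw [← hdeg]
    refine natDegree_dvd_finrank (f := g.restrict (p := Y₁) (q := Y₁) ?_) hp ?_
    · intro y hy
      rw [hY₁, LinearMap.mem_ker] at hy ⊢
      have hc : q * g = g * q := by
        rw [hq]
        have h1 := congrArg (aeval g) (mul_comm p X)
        rw [map_mul, map_mul, aeval_X] at h1
        exact h1
      show (q * g) y = 0
      rw [hc, Module.End.mul_apply, hy, map_zero]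
    · exact aeval_restrict_eq_zero g _ p (fun y hy => LinearMap.mem_ker.mp hy)
  -- `L` is smaller than `T`
  have hL : finrank F₂ L < n := by
    obtain ⟨t, ht, ht0⟩ := (Submodule.ne_bot_iff _).mp hT0
    let ev : L →ₗ[F₂] T :=
      { toFun := fun l => ⟨t ∘ₗ (l : Module.End F₂ Y), hTstab t ht l l.2⟩
        map_add' := fun a b => Subtype.ext (LinearMap.comp_add _ _ _)
        map_smul' := fun c a => Subtype.ext (LinearMap.comp_smul _ _ _) }
    have hev : Function.Injective ev := by
      rw [← LinearMap.ker_eq_bot, Submodule.eq_bot_iff]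
      intro l hl
      by_contra h0
      have h1 : (l : Module.End F₂ Y) ≠ 0 := fun h => h0 (Subtype.ext h)
      have hs := (Finite.injective_iff_surjective.mp (hinj _ l.2 h1))
      refine ht0 (LinearMap.ext fun y => ?_)
      obtain ⟨x, rfl⟩ := hs y
      exact LinearMap.congr_fun (congrArg Subtype.val hl) x
    have hout : (⟨t, ht⟩ : T) ∉ LinearMap.range ev := by
      rintro ⟨l, hl⟩
      have hi : Function.Injective (⇑((1 : Module.End F₂ Y) - (l : Module.End F₂ Y))) := by
        rw [← LinearMap.ker_eq_bot, Submodule.eq_bot_iff]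
        intro y hy
        rw [LinearMap.mem_ker, LinearMap.sub_apply, Module.End.one_apply, sub_eq_zero] at hy
        exact hfix _ l.2 y hy.symm
      refine ht0 (LinearMap.ext fun y => ?_)
      obtain ⟨x, rfl⟩ := (Finite.injective_iff_surjective.mp hi) y
      have h1 := LinearMap.congr_fun (congrArg Subtype.val hl) x
      simp only [ev, LinearMap.coe_mk, AddHom.coe_mk, LinearMap.comp_apply] at h1
      rw [LinearMap.sub_apply, Module.End.one_apply, map_sub, h1, sub_self, LinearMap.zero_apply]
    have h1 : finrank F₂ (LinearMap.range ev) < finrank F₂ T :=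
      Submodule.finrank_lt fun h => hout (h ▸ Submodule.mem_top)
    rwa [LinearMap.finrank_range_of_inj hev] at h1
  -- count
  have hlt : finrank F₂ D < finrank F₂ Y₁ := by omega
  have hgap : finrank F₂ D + n ≤ finrank F₂ Y₁ := by
    rw [← hfD] at hdivD
    obtain ⟨a, ha⟩ := hdivD
    obtain ⟨b, hb⟩ := hdivY
    rw [ha, hb] at hlt ⊢
    have hab : a + 1 ≤ b := Nat.lt_of_mul_lt_mul_left hlt
    calc n * a + n = n * (a + 1) := by ring
      _ ≤ n * b := Nat.mul_le_mul_left n hab
  omega

end Cfsg.Agent.Offender.Gap
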