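import Cfsg.Agent.Lib.Offender.Gap

/-!
# The gap lemma on a quotient

`P` is a space of maps into `Z` vanishing on `Z` (the offender), `β` a map vanishing on `C ≤ Z`,
`S` a space of maps into `C` vanishing on `Z`.
-/

set_option autoImplicit false
set_option linter.style.haveILetI false

namespace Cfsg.Agent.Offender.Gap

open Module

universe u

variable {V : Type u} [AddCommGroup V] [Module (ZMod 2) V] [Finite V]

local notation "F₂" => ZMod 2

theorem finrank_add_lt (Z C : Submodule (ZMod 2) V) (hCZ : C ≤ Z) (hZ : Z ≠ ⊤)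
    (β : Module.End (ZMod 2) V) (P S : Submodule (ZMod 2) (Module.End (ZMod 2) V))
    (hP : ∀ p ∈ P, ∀ v, p v ∈ Z) (hP0 : ∀ p ∈ P, ∀ z ∈ Z, p z = 0)
    (hβC : ∀ c ∈ C, β c = 0)
    (hS : ∀ σ ∈ S, ∀ v, σ v ∈ C) (hS0 : ∀ σ ∈ S, ∀ z ∈ Z, σ z = 0)
    (hinj : ∀ p ∈ P, ∀ v, β (p v) ∈ Z → v ∈ Z ∨ p ∈ S)
    (hfix : ∀ p ∈ P, ∀ v, β (p v) - v ∈ Z → v ∈ Z)
    (hstab : ∀ σ ∈ S, ∀ p ∈ P, σ ∘ₗ β ∘ₗ p ∈ S)
    (hH : ∀ D : Submodule (ZMod 2) (Module.End (ZMod 2) V), D ≤ S → D ≠ ⊥ →
      ∀ N : Submodule (ZMod 2) V, Z ≤ N → (∀ σ ∈ D, ∀ v ∈ N, σ v = 0) →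
        finrank (ZMod 2) D + finrank (ZMod 2) N < finrank (ZMod 2) V) :
    finrank (ZMod 2) P + finrank (ZMod 2) Z < finrank (ZMod 2) V := by
  classical
  haveI : Finite (V →ₗ[F₂] V) := Finite.of_injective (fun f => (f : V → V)) DFunLike.coe_injective
  let Y := V ⧸ Z
  haveI : Finite Y := Finite.of_surjective _ (Submodule.mkQ_surjective Z)
  haveI : Nontrivial Y := Submodule.Quotient.nontrivial_iff.mpr hZ
  haveI : Finite (Y →ₗ[F₂] C) := Finite.of_injective (fun f => (f : Y → C)) DFunLike.coe_injective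
  haveI : Finite (Y →ₗ[F₂] Y) := Finite.of_injective (fun f => (f : Y → Y)) DFunLike.coe_injective
  -- `λ`
  let lam : P →ₗ[F₂] Module.End F₂ Y :=
    { toFun := fun p => Z.mapQ Z (β ∘ₗ (p : Module.End F₂ V)) fun v hv => by
        rw [Submodule.mem_comap, LinearMap.comp_apply, hP0 _ p.2 v hv, map_zero]
        exact Z.zero_mem
      map_add' := fun p q => Submodule.linearMap_qext _ (LinearMap.ext fun v => by
        show (Submodule.Quotient.mk (β ((p : Module.End F₂ V) v + (q : Module.End F₂ V) v)) : Y) = _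
        rw [map_add, Submodule.Quotient.mk_add]
        rfl)
      map_smul' := fun c p => Submodule.linearMap_qext _ (LinearMap.ext fun v => by
        show (Submodule.Quotient.mk (β (c • (p : Module.End F₂ V) v)) : Y) = _
        rw [map_smul, Submodule.Quotient.mk_smul]
        rfl) }
  have hlam : ∀ (p : P) (v : V),
      lam p (Submodule.Quotient.mk v) = Submodule.Quotient.mk (β ((p : Module.End F₂ V) v)) :=
    fun _ _ => rfl
  -- `S` on the quotient
  let μ : S →ₗ[F₂] (Y →ₗ[F₂] C) :=
    { toFun := fun σ => Z.liftQ ((σ : Module.End F₂ V).codRestrict C (hS _ σ.2)) fun v hv =>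
        LinearMap.mem_ker.mpr (Subtype.ext (hS0 _ σ.2 v hv))
      map_add' := fun σ τ => Submodule.linearMap_qext _ (LinearMap.ext fun v => rfl)
      map_smul' := fun c σ => Submodule.linearMap_qext _ (LinearMap.ext fun v => rfl) }
  have hμ : ∀ (σ : S) (v : V), ((μ σ (Submodule.Quotient.mk v) : C) : V) = (σ : Module.End F₂ V) v :=
    fun _ _ => rfl
  have hμi : Function.Injective μ := by
    intro σ τ hst
    refine Subtype.ext (LinearMap.ext fun v => ?_)
    rw [← hμ, ← hμ, hst]
  have hfS : finrank F₂ (LinearMap.range μ) = finrank F₂ S := LinearMap.finrank_range_of_inj hμi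
  have hgap := finrank_add_finrank_lt (LinearMap.range μ) (LinearMap.range lam)
    (by
      rintro _ ⟨p, rfl⟩ hne
      rw [← LinearMap.ker_eq_bot, Submodule.eq_bot_iff]
      intro y hy
      obtain ⟨v, rfl⟩ := Submodule.mkQ_surjective Z y
      rw [LinearMap.mem_ker, Submodule.mkQ_apply, hlam, Submodule.Quotient.mk_eq_zero] at hy
      rw [Submodule.mkQ_apply, Submodule.Quotient.mk_eq_zero]
      refine (hinj _ p.2 v hy).resolve_right fun hpS => hne ?_
      refine Submodule.linearMap_qext _ (LinearMap.ext fun u => ?_)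
      show lam p (Submodule.Quotient.mk u) = 0
      rw [hlam, hβC _ (hS _ hpS u)]
      exact Submodule.Quotient.mk_zero _)
    (by
      rintro _ ⟨p, rfl⟩ y hy
      obtain ⟨v, rfl⟩ := Submodule.mkQ_surjective Z y
      rw [Submodule.mkQ_apply, hlam, Submodule.Quotient.eq] at hy
      rw [Submodule.mkQ_apply, Submodule.Quotient.mk_eq_zero]
      exact hfix _ p.2 v hy)
    (by
      rintro _ ⟨σ, rfl⟩ _ ⟨p, rfl⟩
      exact ⟨⟨_, hstab _ σ.2 _ p.2⟩,
        Submodule.linearMap_qext _ (LinearMap.ext fun v => Subtype.ext rfl)⟩)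
    (by
      intro D hD hD0 N hN
      set D' : Submodule F₂ (Module.End F₂ V) := (D.comap μ).map S.subtype with hD'
      have hf : finrank F₂ D' = finrank F₂ D := by
        rw [hD', Submodule.finrank_map_subtype_eq,
          (Submodule.equivMapOfInjective μ hμi (D.comap μ)).finrank_eq,
          Submodule.map_comap_eq_self hD]
      have hD0' : D' ≠ ⊥ := fun h => hD0 (by
        rw [Submodule.eq_bot_iff]
        intro x hx
        obtain ⟨a, rfl⟩ := hD hx
        have ha : (a : Module.End F₂ V) ∈ D' := ⟨a, hx, rfl⟩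
        rw [h, Submodule.mem_bot] at ha
        rw [show a = 0 from Subtype.ext ha, map_zero])
      have hZN : Z ≤ N.comap Z.mkQ := fun z hz => by
        rw [Submodule.mem_comap, Submodule.mkQ_apply, (Submodule.Quotient.mk_eq_zero Z).mpr hz]
        exact N.zero_mem
      have h1 := hH D' (Submodule.map_subtype_le S _) hD0' (N.comap Z.mkQ) hZN (by
        rintro _ ⟨σ, hσ, rfl⟩ v hv
        show (σ : Module.End F₂ V) v = 0
        rw [← hμ, show μ σ (Submodule.Quotient.mk v) = 0 from hN _ hσ _ hv]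
        rfl)
      have hr : LinearMap.range (Z.mkQ.comp (N.comap Z.mkQ).subtype) = N := by
        rw [LinearMap.range_comp, Submodule.range_subtype,
          Submodule.map_comap_eq_of_surjective (Submodule.mkQ_surjective Z)]
      have hk : finrank F₂ (LinearMap.ker (Z.mkQ.comp (N.comap Z.mkQ).subtype)) = finrank F₂ Z := by
        rw [LinearMap.ker_comp, Submodule.ker_mkQ]
        exact (Submodule.comapSubtypeEquivOfLe hZN).finrank_eq
      have h2 := LinearMap.finrank_range_add_finrank_ker (Z.mkQ.comp (N.comap Z.mkQ).subtype)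
      rw [hr, hk] at h2
      have h3 : finrank F₂ Y + finrank F₂ Z = finrank F₂ V := Submodule.finrank_quotient_add_finrank Z
      have h5 : finrank F₂ (N.comap Z.mkQ) = finrank F₂ N + finrank F₂ Z := h2.symm
      show finrank F₂ D + finrank F₂ N < finrank F₂ Y
      omega)
  have hkerlam : finrank F₂ (LinearMap.ker lam) ≤ finrank F₂ S := by
    rw [← Submodule.finrank_map_subtype_eq]
    refine Submodule.finrank_mono ?_
    rintro _ ⟨p, hp, rfl⟩
    obtain ⟨y, hy⟩ := exists_ne (0 : Y)
    obtain ⟨v, rfl⟩ := Submodule.mkQ_surjective Z y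
    have hv : v ∉ Z := fun hv => hy ((Submodule.Quotient.mk_eq_zero Z).mpr hv)
    refine (hinj _ p.2 v ?_).resolve_left hv
    rw [← Submodule.Quotient.mk_eq_zero Z, ← hlam, LinearMap.mem_ker.mp hp]
    rfl
  have h4 : finrank F₂ (LinearMap.range lam) + finrank F₂ (LinearMap.ker lam) = finrank F₂ P :=
    LinearMap.finrank_range_add_finrank_ker lam
  have h3 : finrank F₂ Y + finrank F₂ Z = finrank F₂ V := Submodule.finrank_quotient_add_finrank Z
  rw [hfS] at hgap
  change finrank F₂ S + finrank F₂ (LinearMap.range lam) < finrank F₂ Y at hgap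
  omega

end Cfsg.Agent.Offender.Gap
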