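import Mathlib

/-!
# Limits of sets of square zero elements under a quadratic one-parameter conjugation

For `x` with `x * x = 0` put `sc x = 1 + x X` in `R[X]`, with inverse `sc (-x)`.

* `flow l r U`: the polynomials `l * Q * r`, `Q` with coefficients in `U`
* `limit l r U`: the additive group generated by their top coefficients; it is at least as large as `U`
  (`card_le_limit`), and products vanishing on `U` vanish on the limits (`limit_mul_eq_zero`)
* `sq_zero_sum_mem`: three quadratic, mutually normalising sets of unipotents generate every `1 + z`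
  with `z` square zero in their sum
-/

set_option autoImplicit false

namespace Cfsg.Agent.Offender.Limit

open Polynomial

variable {R : Type*} [Ring R]

/-- `1 + x X`. -/
noncomputable def sc (x : R) : R[X] := 1 + monomial 1 x

theorem sc_mul_neg {x : R} (hx : x * x = 0) : sc x * sc (-x) = 1 := by
  simp only [sc, map_neg, mul_add, add_mul, one_mul, mul_one, mul_neg, monomial_mul_monomial, hx,
    map_zero, neg_zero]
  abel

theorem sc_neg_mul {x : R} (hx : x * x = 0) : sc (-x) * sc x = 1 := by
  simpa using sc_mul_neg (x := -x) (by simpa using hx)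

theorem natDegree_sc_le (x : R) : (sc x).natDegree ≤ 1 :=
  (natDegree_add_le _ _).trans (max_le (by simp) (natDegree_monomial_le _))

/-- The three coefficients of a conjugate of a constant. -/
theorem sc_C_mul_sc (x y z : R) :
    sc x * C y * sc z = C y + monomial 1 (x * y + y * z) + monomial 2 (x * y * z) := by
  simp only [sc, mul_add, add_mul, one_mul, mul_one, ← monomial_zero_left, monomial_mul_monomial,
    zero_add, add_zero, map_add]
  abel

theorem coeff_sc_mul_sc (x z : R) (Q : R[X]) (k : ℕ) :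
    (sc x * Q * sc z).coeff k = Q.coeff k +
      (if 1 ≤ k then x * Q.coeff (k - 1) + Q.coeff (k - 1) * z else 0) +
      (if 2 ≤ k then x * Q.coeff (k - 2) * z else 0) := by
  induction Q using Polynomial.induction_on' with
  | add P Q hP hQ =>
    simp only [mul_add, add_mul, coeff_add, hP, hQ]
    split_ifs <;> abel
  | monomial n a =>
    have h : sc x * monomial n a * sc z =
        monomial n a + monomial (n + 1) (x * a + a * z) + monomial (n + 2) (x * a * z) := by
      simp only [sc, mul_add, add_mul, one_mul, mul_one, monomial_mul_monomial, map_add,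
        Nat.add_comm 1 n, show n + 1 + 1 = n + 2 from rfl]
      abel
    simp only [h, coeff_add, coeff_monomial]
    congr 1
    · congr 1
      rcases eq_or_ne (n + 1) k with rfl | hk
      · simp
      · rw [if_neg hk]
        split_ifs <;> first | (exfalso; omega) | simp
    · rcases eq_or_ne (n + 2) k with rfl | hk
      · simp
      · rw [if_neg hk]
        split_ifs <;> first | (exfalso; omega) | simp

/-- The polynomials `l * Q * r`, all coefficients of `Q` in `U`. -/
noncomputable def flow (l r : R[X]) (U : AddSubgroup R) : AddSubgroup R[X] where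
  carrier := {P | ∃ Q : R[X], (∀ k, Q.coeff k ∈ U) ∧ P = l * Q * r}
  zero_mem' := ⟨0, fun k => by simp, by simp⟩
  add_mem' := by
    rintro _ _ ⟨P, hP, rfl⟩ ⟨Q, hQ, rfl⟩
    exact ⟨P + Q, fun k => by rw [coeff_add]; exact add_mem (hP k) (hQ k), by rw [mul_add, add_mul]⟩
  neg_mem' := by
    rintro _ ⟨Q, hQ, rfl⟩
    exact ⟨-Q, fun k => by rw [coeff_neg]; exact neg_mem (hQ k), by rw [mul_neg, neg_mul]⟩

theorem mem_flow {l r : R[X]} {U : AddSubgroup R} {P : R[X]} :
    P ∈ flow l r U ↔ ∃ Q : R[X], (∀ k, Q.coeff k ∈ U) ∧ P = l * Q * r := Iff.rfl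

/-- The span of the top coefficients. -/
noncomputable def limit (l r : R[X]) (U : AddSubgroup R) : AddSubgroup R :=
  AddSubgroup.closure {z | ∃ P ∈ flow l r U, ∃ k, P.natDegree ≤ k ∧ z = P.coeff k}

theorem coeff_mem_limit {l r : R[X]} {U : AddSubgroup R} {P : R[X]} (hP : P ∈ flow l r U) {k : ℕ}
    (hk : P.natDegree ≤ k) : P.coeff k ∈ limit l r U :=
  AddSubgroup.subset_closure ⟨P, hP, k, hk, rfl⟩

theorem flow_mono {l r : R[X]} {U U' : AddSubgroup R} (h : U ≤ U') : flow l r U ≤ flow l r U' :=
  fun _ ⟨Q, hQ, e⟩ => ⟨Q, fun k => h (hQ k), e⟩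

theorem limit_mono {l r : R[X]} {U U' : AddSubgroup R} (h : U ≤ U') : limit l r U ≤ limit l r U' := by
  refine (AddSubgroup.closure_le _).2 ?_
  rintro _ ⟨P, hP, k, hk, rfl⟩
  exact coeff_mem_limit (flow_mono h hP) hk

/-- The flow in degree at most `m`. -/
noncomputable def flowLE (l r : R[X]) (U : AddSubgroup R) (m : ℕ) : AddSubgroup R[X] where
  carrier := {P | P ∈ flow l r U ∧ P.natDegree ≤ m}
  zero_mem' := ⟨zero_mem _, by simp⟩
  add_mem' h h' := ⟨add_mem h.1 h'.1, (natDegree_add_le _ _).trans (max_le h.2 h'.2)⟩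
  neg_mem' h := ⟨neg_mem h.1, by rw [natDegree_neg]; exact h.2⟩

instance [Finite R] (l r : R[X]) (U : AddSubgroup R) (m : ℕ) : Finite (flowLE l r U m) :=
  Finite.of_injective (fun P : flowLE l r U m => fun i : Fin (m + 1) => (P : R[X]).coeff i)
    fun P Q h => Subtype.ext (Polynomial.ext fun k => by
      rcases Nat.lt_or_ge m k with hk | hk
      · rw [coeff_eq_zero_of_natDegree_lt (P.2.2.trans_lt hk),
          coeff_eq_zero_of_natDegree_lt (Q.2.2.trans_lt hk)]
      · exact congrFun h ⟨k, Nat.lt_succ_of_le hk⟩)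

theorem card_flowLE_le [Finite R] (l r : R[X]) (U : AddSubgroup R) :
    ∀ m : ℕ, Nat.card (flowLE l r U m) ≤ Nat.card (limit l r U) ^ (m + 1) := by
  intro m
  induction m with
  | zero =>
    rw [zero_add, pow_one]
    refine Nat.card_le_card_of_injective
      (fun P => (⟨(P : R[X]).coeff 0, coeff_mem_limit P.2.1 P.2.2⟩ : limit l r U))
      fun P Q h => Subtype.ext ?_
    rw [eq_C_of_natDegree_le_zero P.2.2, eq_C_of_natDegree_le_zero Q.2.2]
    exact congrArg C (congrArg Subtype.val h)
  | succ m ih =>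
    let f : flowLE l r U (m + 1) →+ limit l r U :=
      { toFun := fun P => ⟨(P : R[X]).coeff (m + 1), coeff_mem_limit P.2.1 P.2.2⟩
        map_zero' := Subtype.ext (coeff_zero _)
        map_add' := fun P Q => Subtype.ext (coeff_add _ _ _) }
    have h1 : Nat.card f.ker ≤ Nat.card (flowLE l r U m) := by
      refine Nat.card_le_card_of_injective
        (fun P => (⟨(P.1 : R[X]), P.1.2.1, ?_⟩ : flowLE l r U m)) fun P Q h => ?_
      · have h0 : (P.1 : R[X]).coeff (m + 1) = 0 := congrArg Subtype.val P.2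
        refine natDegree_le_iff_coeff_eq_zero.2 fun N hN => ?_
        rcases eq_or_lt_of_le (Nat.succ_le_of_lt hN) with e | e
        · rw [← e]; exact h0
        · exact coeff_eq_zero_of_natDegree_lt (P.1.2.2.trans_lt e)
      · exact Subtype.ext (Subtype.ext (congrArg (fun Z : flowLE l r U m => (Z : R[X])) h))
    have h2 := AddSubgroup.card_eq_card_quotient_mul_card_addSubgroup f.ker
    rw [Nat.card_congr (QuotientAddGroup.quotientKerEquivRange f).toEquiv] at h2
    rw [h2, pow_succ']
    exact Nat.mul_le_mul (Nat.card_le_card_of_injective _ Subtype.val_injective) (h1.trans ih)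

/-- The limit is at least as large. -/
theorem card_le_limit [Finite R] {l r l' r' : R[X]} (hl : l' * l = 1) (hr : r * r' = 1)
    (hl1 : l.natDegree ≤ 1) (hr1 : r.natDegree ≤ 1) (U : AddSubgroup R) :
    Nat.card U ≤ Nat.card (limit l r U) := by
  by_contra hlt
  set w := Nat.card (limit l r U) with hw
  have hw1 : 0 < w := Nat.card_pos
  have key : ∀ n : ℕ, Nat.card U ^ (n + 1) ≤ w ^ (n + 3) := by
    intro n
    refine le_trans ?_ (card_flowLE_le l r U (n + 2))
    rw [← Nat.card_fin (n + 1), ← Nat.card_fun]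
    let Q : (Fin (n + 1) → U) → R[X] := fun f => ∑ i : Fin (n + 1), monomial (i : ℕ) (f i : R)
    have hQc : ∀ f k, (Q f).coeff k = if h : k < n + 1 then (f ⟨k, h⟩ : R) else 0 := by
      intro f k
      simp only [Q, finset_sum_coeff, coeff_monomial]
      split_ifs with h
      · rw [Finset.sum_eq_single ⟨k, h⟩ (fun i _ hi => if_neg fun e => hi (Fin.ext e))
          (fun hn => absurd (Finset.mem_univ _) hn), if_pos rfl]
      · exact Finset.sum_eq_zero fun i _ => if_neg (by omega)
    have hQd : ∀ f, (Q f).natDegree ≤ n := fun f =>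
      natDegree_le_iff_coeff_eq_zero.2 fun k hk => by rw [hQc, dif_neg (by omega)]
    refine Nat.card_le_card_of_injective (fun f => (⟨l * Q f * r,
      ⟨Q f, fun k => ?_, rfl⟩, ?_⟩ : flowLE l r U (n + 2))) fun f g h => ?_
    · rw [hQc]; split_ifs
      · exact SetLike.coe_mem _
      · exact zero_mem _
    · have h1 := natDegree_mul_le (p := l * Q f) (q := r)
      have h2 := natDegree_mul_le (p := l) (q := Q f)
      have := hQd f
      omega
    · have h' : l * Q f * r = l * Q g * r := congrArg Subtype.val h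
      have e : Q f = Q g := by
        calc Q f = l' * l * Q f * (r * r') := by rw [hl, hr, one_mul, mul_one]
          _ = l' * (l * Q f * r) * r' := by simp only [mul_assoc]
          _ = l' * (l * Q g * r) * r' := by rw [h']
          _ = l' * l * Q g * (r * r') := by simp only [mul_assoc]
          _ = Q g := by rw [hl, hr, one_mul, mul_one]
      funext i
      have := congrArg (fun P => P.coeff (i : ℕ)) e
      simp only [hQc, dif_pos i.2] at this
      exact Subtype.ext this
  have hU : w + 1 ≤ Nat.card U := by omega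
  have h2 := (Nat.pow_le_pow_left hU _).trans (key (w ^ 3))
  have h3 : w ^ (w ^ 3 + 1) + (w ^ 3 + 1) * w ^ (w ^ 3) ≤ (w + 1) ^ (w ^ 3 + 1) := by
    generalize w ^ 3 = N
    induction N with
    | zero => simp
    | succ N ih =>
      calc w ^ (N + 1 + 1) + (N + 1 + 1) * w ^ (N + 1)
          ≤ w ^ (N + 1 + 1) + (N + 1 + 1) * w ^ (N + 1) + (N + 1) * w ^ N := Nat.le_add_right _ _
        _ = (w ^ (N + 1) + (N + 1) * w ^ N) * (w + 1) := by ring
        _ ≤ (w + 1) ^ (N + 1) * (w + 1) := Nat.mul_le_mul_right _ ih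
        _ = (w + 1) ^ (N + 1 + 1) := (pow_succ _ _).symm
  have h4 : w ^ (w ^ 3 + 3) = w ^ 3 * w ^ (w ^ 3) := by rw [← pow_add, add_comm]
  have h5 : 0 < w ^ (w ^ 3) := pow_pos hw1 _
  have h6 : (w ^ 3 + 1) * w ^ (w ^ 3) ≤ w ^ 3 * w ^ (w ^ 3) := by
    rw [← h4]
    exact le_trans (Nat.le_add_left _ _) (h3.trans h2)
  have := Nat.le_of_mul_le_mul_right h6 h5
  omega

/-- Products vanishing before the limit vanish after it. -/
theorem limit_mul_eq_zero {l r l₂ r₂ : R[X]} {U U' : AddSubgroup R} (h : ∀ u ∈ U, ∀ v ∈ U', u * v = 0)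
    (hrl : r * l₂ = 1) {z z' : R} (hz : z ∈ limit l r U) (hz' : z' ∈ limit l₂ r₂ U') : z * z' = 0 := by
  induction hz using AddSubgroup.closure_induction with
  | zero => rw [zero_mul]
  | add a b _ _ ha hb => rw [add_mul, ha, hb, add_zero]
  | neg a _ ha => rw [neg_mul, ha, neg_zero]
  | mem a ha =>
    obtain ⟨P, ⟨Q, hQ, rfl⟩, k, hk, rfl⟩ := ha
    induction hz' using AddSubgroup.closure_induction with
    | zero => rw [mul_zero]
    | add c d _ _ hc hd => rw [mul_add, hc, hd, add_zero]
    | neg c _ hc => rw [mul_neg, hc, neg_zero]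
    | mem c hc =>
      obtain ⟨P', ⟨Q', hQ', rfl⟩, m, hm, rfl⟩ := hc
      rw [← coeff_mul_add_eq_of_natDegree_le hk hm]
      have hQQ : Q * Q' = 0 := Polynomial.ext fun j => by
        rw [coeff_mul, coeff_zero]
        exact Finset.sum_eq_zero fun ij _ => h _ (hQ _) _ (hQ' _)
      rw [show l * Q * r * (l₂ * Q' * r₂) = l * (Q * (r * l₂) * Q') * r₂ by simp only [mul_assoc],
        hrl, mul_one, hQQ, mul_zero, zero_mul, coeff_zero]

/-- The limit under conjugation stays in every group closed under the linear and quadratic parts. -/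
theorem limit_le {x : R} {U S : AddSubgroup R} (h0 : U ≤ S)
    (h1 : ∀ u ∈ U, x * u - u * x ∈ S) (h2 : ∀ u ∈ U, x * u * x ∈ S) :
    limit (sc x) (sc (-x)) U ≤ S := by
  refine (AddSubgroup.closure_le _).2 ?_
  rintro _ ⟨P, ⟨Q, hQ, rfl⟩, k, -, rfl⟩
  rw [coeff_sc_mul_sc]
  refine add_mem (add_mem (h0 (hQ k)) ?_) ?_
  · split_ifs
    · simpa [sub_eq_add_neg] using h1 _ (hQ (k - 1))
    · exact zero_mem _
  · split_ifs
    · simpa using neg_mem (h2 _ (hQ (k - 2)))
    · exact zero_mem _

/-- A stable part stays in the limit. -/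
theorem le_limit {x : R} (hx : x * x = 0) {U' U : AddSubgroup R} (hle : U' ≤ U)
    (h1 : ∀ u ∈ U', x * u - u * x ∈ U') (h2 : ∀ u ∈ U', x * u * x ∈ U') :
    U' ≤ limit (sc x) (sc (-x)) U := by
  intro u hu
  have hf : C u ∈ flow (sc x) (sc (-x)) U := by
    refine ⟨sc (-x) * C u * sc x, fun k => ?_, ?_⟩
    · rw [coeff_sc_mul_sc, coeff_C, coeff_C, coeff_C]
      refine hle (add_mem (add_mem ?_ ?_) ?_) <;> split_ifs <;>
        first
          | exact zero_mem _
          | exact hu
          | (simpa [sub_eq_add_neg, add_comm] using neg_mem (h1 u hu))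
          | (simpa using neg_mem (h2 u hu))
          | simp
    · simp only [← mul_assoc]
      rw [sc_mul_neg hx, one_mul, mul_assoc, sc_mul_neg hx, mul_one]
  simpa using coeff_mem_limit hf (k := 0) (natDegree_C u).le

/-- The new element: the quadratic part if it is outside `U'`, otherwise the linear part. -/
theorem top_mem_limit {x : R} (hx : x * x = 0) {U' U : AddSubgroup R} (hle : U' ≤ U)
    (h1 : ∀ u ∈ U', x * u - u * x ∈ U') (h2 : ∀ u ∈ U', x * u * x ∈ U') {y : R} (hy : y ∈ U) :
    x * y * x ∈ limit (sc x) (sc (-x)) U ∧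
      (x * y * x ∈ U' → x * y - y * x ∈ limit (sc x) (sc (-x)) U) := by
  have hP : sc x * C y * sc (-x) ∈ flow (sc x) (sc (-x)) U :=
    ⟨C y, fun k => by rw [coeff_C]; split_ifs; exacts [hy, zero_mem _], rfl⟩
  have hd : (sc x * C y * sc (-x)).natDegree ≤ 2 := by
    have a := natDegree_mul_le (p := sc x * C y) (q := sc (-x))
    have b := natDegree_mul_le (p := sc x) (q := C y)
    have := natDegree_sc_le x
    have := natDegree_sc_le (-x)
    simp only [natDegree_C, add_zero] at b
    omega
  refine ⟨?_, fun hy2 => ?_⟩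
  · have := neg_mem (coeff_mem_limit hP hd)
    simpa [coeff_sc_mul_sc] using this
  · set u := x * y * x with hu
    have hmem : monomial 2 u ∈ flow (sc x) (sc (-x)) U := by
      refine ⟨sc (-x) * monomial 2 u * sc x, fun k => ?_, ?_⟩
      · rw [coeff_sc_mul_sc, coeff_monomial, coeff_monomial, coeff_monomial]
        refine hle (add_mem (add_mem ?_ ?_) ?_) <;> split_ifs <;>
          first
            | exact zero_mem _
            | exact hy2
            | (simpa [sub_eq_add_neg, add_comm] using neg_mem (h1 u hy2))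
            | (simpa using neg_mem (h2 u hy2))
            | simp
      · simp only [← mul_assoc]
        rw [sc_mul_neg hx, one_mul, mul_assoc, sc_mul_neg hx, mul_one]
    have hS := add_mem hP hmem
    have hd1 : (sc x * C y * sc (-x) + monomial 2 u).natDegree ≤ 1 := by
      refine natDegree_le_iff_coeff_eq_zero.2 fun k hk => ?_
      rw [coeff_add, coeff_sc_mul_sc, coeff_monomial, coeff_C, coeff_C, coeff_C]
      rcases eq_or_lt_of_le (Nat.succ_le_of_lt hk) with rfl | hk'
      · simp [hu]
      · rw [if_neg (show k ≠ 0 by omega), if_neg (show k - 1 ≠ 0 by omega),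
          if_neg (show k - 2 ≠ 0 by omega), if_neg (show 2 ≠ k by omega)]
        simp
    have := coeff_mem_limit hS hd1
    simpa [coeff_sc_mul_sc, coeff_monomial, sub_eq_add_neg] using this

/-! ### Three mutually normalising sets -/

/-- If `2` is invertible and three sets of square zero elements normalise each other, a square zero
element of their sum gives an element of the monoid they generate. -/
theorem sq_zero_sum_mem {h : ℕ} (hh : ((2 * h : ℕ) : R) = 1) (L : Submonoid R) (A B C : AddSubgroup R)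
    (hA : ∀ u ∈ A, 1 + u ∈ L) (hB : ∀ v ∈ B, 1 + v ∈ L) (hC : ∀ s ∈ C, 1 + s ∈ L)
    (qA : ∀ u ∈ A, ∀ u' ∈ A, u * u' = 0) (qB : ∀ v ∈ B, ∀ v' ∈ B, v * v' = 0)
    (qC : ∀ s ∈ C, ∀ s' ∈ C, s * s' = 0)
    (cAB : ∀ u ∈ A, ∀ v ∈ B, u * v - v * u ∈ A ⊓ B ∧ u * v * u = 0 ∧ v * u * v = 0)
    (cAC : ∀ u ∈ A, ∀ s ∈ C, u * s - s * u ∈ A ⊓ C ∧ u * s * u = 0 ∧ s * u * s = 0)
    (cBC : ∀ v ∈ B, ∀ s ∈ C, v * s - s * v ∈ B ⊓ C ∧ v * s * v = 0 ∧ s * v * s = 0)
    {u v s : R} (hu : u ∈ A) (hv : v ∈ B) (hs : s ∈ C)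
    (hz : (u + v + s) * (u + v + s) = 0) : 1 + (u + v + s) ∈ L := by
  obtain ⟨r1, e1, e2⟩ := cAB u hu v hv
  obtain ⟨r2, e3, e4⟩ := cAC u hu s hs
  obtain ⟨r3, e5, e6⟩ := cBC v hv s hs
  have uu := qA u hu u hu
  have vv := qB v hv v hv
  have ss := qC s hs s hs
  have h2 : ∀ a : R, a + a = 0 → a = 0 := fun a ha => by
    have : (2 * h) • a = 0 := by rw [mul_comm, mul_smul, two_nsmul, ha, smul_zero]
    rwa [nsmul_eq_mul, hh, one_mul] at this
  have hh2 : ∀ a : R, h • a + h • a = a := fun a => by
    rw [← add_smul, ← two_mul, nsmul_eq_mul, hh, one_mul]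
  have hz2 : u * v + v * u + (u * s + s * u) + (v * s + s * v) = 0 := by
    rw [← hz]; simp only [mul_add, add_mul, uu, vv, ss]; abel
  -- the six length three words
  have k1 : u * v * s + u * s * v = 0 := by
    have := congrArg (u * ·) hz2
    simp only [mul_add, ← mul_assoc, uu, zero_mul, e1, e3, mul_zero] at this
    simpa using this
  have k2 : u * v * s + v * u * s = 0 := by
    have := congrArg (· * s) hz2
    simp only [add_mul, mul_assoc, ss, mul_zero] at this
    simp only [← mul_assoc, e4, e6, zero_mul] at this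
    simpa using this
  have k3 : v * s * u + v * u * s = 0 := by
    have := congrArg (v * ·) hz2
    simp only [mul_add, ← mul_assoc, vv, zero_mul, e2, e5, mul_zero] at this
    simpa [add_comm] using this
  have k4 : s * u * v + s * v * u = 0 := by
    have := congrArg (s * ·) hz2
    simp only [mul_add, ← mul_assoc, ss, zero_mul, e4, e6, mul_zero] at this
    simpa [add_comm] using this
  have k5 : s * u * v + u * s * v = 0 := by
    have := congrArg (· * v) hz2
    simp only [add_mul, mul_assoc, vv, mul_zero] at this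
    simp only [← mul_assoc, e2, e5, zero_mul] at this
    simpa [add_comm] using this
  -- half commutators
  set a1 := h • (u * v - v * u) with ha1
  set a2 := h • (u * s - s * u) with ha2
  set a3 := h • (v * s - s * v) with ha3
  have m1 : a1 ∈ A ⊓ B := nsmul_mem r1 h
  have m2 : a2 ∈ A ⊓ C := nsmul_mem r2 h
  have m3 : a3 ∈ B ⊓ C := nsmul_mem r3 h
  have hP : (1 + u) * (1 + v) * (1 + s) * ((1 + -a1) * (1 + -a2) * (1 + -a3)) ∈ L :=
    L.mul_mem (L.mul_mem (L.mul_mem (hA u hu) (hB v hv)) (hC s hs))
      (L.mul_mem (L.mul_mem (hA _ (neg_mem m1.1)) (hA _ (neg_mem m2.1))) (hB _ (neg_mem m3.1)))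
  convert hP using 1
  have p12 := qA a1 m1.1 a2 m2.1
  have p13 := qB a1 m1.2 a3 m3.1
  have p23 := qC a2 m2.2 a3 m3.2
  set a := a1 + a2 + a3 with ha
  have hR : (1 + -a1) * (1 + -a2) * (1 + -a3) = 1 - a := by
    simp only [mul_add, add_mul, one_mul, mul_one, neg_mul, mul_neg, neg_neg, p12, p13, p23,
      zero_mul, ha]
    abel
  have hsum : a = u * v + u * s + v * s := by
    have : (a - (u * v + u * s + v * s)) + (a - (u * v + u * s + v * s)) = 0 := by
      rw [ha, ha1, ha2, ha3,
        show ∀ b c d e : R, (b + c + d - e) + (b + c + d - e) =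
          (b + b) + (c + c) + (d + d) - (e + e) from fun b c d e => by abel,
        hh2, hh2, hh2]
      rw [← neg_eq_zero, ← hz2]
      abel
    exact sub_eq_zero.1 (h2 _ this)
  have q1 : ∀ t ∈ A, t * a1 = 0 ∧ t * a2 = 0 := fun t ht => ⟨qA t ht _ m1.1, qA t ht _ m2.1⟩
  have za : (u + v + s) * a = s * a1 + v * a2 + u * a3 := by
    simp only [ha, mul_add, add_mul, (q1 u hu).1, (q1 u hu).2, qB v hv _ m1.2, qB v hv _ m3.1,
      qC s hs _ m2.2, qC s hs _ m3.2]
    abel
  have hE : u * v * s - (s * a1 + v * a2 + u * a3) = 0 := by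
    apply h2
    rw [ha1, ha2, ha3, mul_smul_comm, mul_smul_comm, mul_smul_comm,
      show ∀ b c d e : R, (e - (b + c + d)) + (e - (b + c + d)) =
        (e + e) - ((b + b) + (c + c) + (d + d)) from fun b c d e => by abel,
      hh2, hh2, hh2]
    simp only [mul_sub, ← mul_assoc]
    have b1 : u * s * v = -(u * v * s) := eq_neg_of_add_eq_zero_right k1
    have b2 : v * u * s = -(u * v * s) := eq_neg_of_add_eq_zero_right k2
    have b3 : v * s * u = u * v * s := by
      rw [eq_neg_of_add_eq_zero_left k3, b2, neg_neg]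
    have b5 : s * u * v = u * v * s := by
      rw [eq_neg_of_add_eq_zero_left k5, b1, neg_neg]
    have b4 : s * v * u = -(u * v * s) := by
      rw [eq_neg_of_add_eq_zero_right k4, b5]
    rw [b1, b2, b3, b4, b5]
    abel
  have haa : a * a = 0 := by
    simp only [ha, mul_add, add_mul, p12, p13, p23, qA a2 m2.1 a1 m1.1, qB a3 m3.1 a1 m1.2,
      qC a3 m3.2 a2 m2.2, qA a1 m1.1 a1 m1.1, qA a2 m2.1 a2 m2.1, qB a3 m3.1 a3 m3.1]
    abel
  have uvsa : u * v * s * a = 0 := by
    have t1 : u * v * s * a2 = 0 := by rw [mul_assoc, qC s hs _ m2.2, mul_zero]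
    have t3 : u * v * s * a3 = 0 := by rw [mul_assoc, qC s hs _ m3.2, mul_zero]
    have t1' : u * v * (s * a1) = 0 := by
      have : s * a1 = u * v * s - v * a2 - u * a3 := by
        rw [sub_eq_zero.1 hE]; abel
      rw [this]
      simp only [mul_sub, ← mul_assoc]
      rw [e1, show u * v * v = 0 by rw [mul_assoc, vv, mul_zero]]
      simp
    rw [ha, mul_add, mul_add, t1, t3, mul_assoc, t1']
    simp
  rw [hR, show (1 + u) * (1 + v) * (1 + s) = 1 + (u + v + s) + (u * v + u * s + v * s) + u * v * s by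
      simp only [mul_add, add_mul, one_mul, mul_one]; abel,
    ← hsum, mul_sub, mul_one, add_mul, add_mul, add_mul, one_mul, za, haa, uvsa,
    show u * v * s = s * a1 + v * a2 + u * a3 from sub_eq_zero.1 hE]
  abel

end Cfsg.Agent.Offender.Limit
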