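import Cfsg.Agent.Lib.Offender.Limit
import Cfsg.Agent.Lib.PGV.Basic
import Cfsg.Agent.Lib.PGroup.ElementaryAbelian
import Mathlib.GroupTheory.Nilpotent

/-!
# A quadratic offender normal in its normal closure (odd `p`)

`V` is a finite abelian group of exponent `p` and `G` a `p`-group of operators on `V`.
`exists_quadratic_normal_closure`: if `G` contains an offender, then it contains a quadratic one
normalised by all its `G`-conjugates. The proof replaces a bad quadratic offender by its limit under a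
conjugate (`Limit.limit`), which goes deeper into the filtration given by a fixed flag.
-/

set_option autoImplicit false

namespace Cfsg.Agent.Offender.LimitNormal

open Polynomial Limit Cfsg.Agent.PGV
open scoped Pointwise

universe u

variable {V : Type u} [AddCommGroup V] {p : ℕ}

instance [Finite V] : Finite (Module.End ℤ V) :=
  Finite.of_injective (fun f => (f : V → V)) DFunLike.coe_injective

local notation "R" => Module.End ℤ V

/-! ### Root sets -/

/-- Quadratic action. -/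
def IsQuad (A : Subgroup Rˣ) : Prop :=
  ∀ a ∈ A, ∀ b ∈ A, ((a : R) - 1) * ((b : R) - 1) = 0

/-- The group generated by the `a - 1`. -/
def roots (A : Subgroup Rˣ) : AddSubgroup R :=
  AddSubgroup.closure {z | ∃ a ∈ A, z = (a : R) - 1}

theorem mem_roots_iff {A : Subgroup Rˣ} (hA : IsQuad A) {z : R} :
    z ∈ roots A ↔ ∃ a ∈ A, z = (a : R) - 1 := by
  refine ⟨fun hz => ?_, fun h => AddSubgroup.subset_closure h⟩
  induction hz using AddSubgroup.closure_induction with
  | zero => exact ⟨1, one_mem A, by simp⟩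
  | mem a ha => exact ha
  | add a b _ _ ha hb =>
    obtain ⟨g, hg, rfl⟩ := ha
    obtain ⟨h, hh, rfl⟩ := hb
    refine ⟨g * h, mul_mem hg hh, ?_⟩
    have := hA g hg h hh
    rw [sub_mul, mul_sub, one_mul, mul_one, sub_eq_zero] at this
    rw [Units.val_mul, show (g : R) * h = (g : R) - 1 + h from sub_eq_iff_eq_add'.mp this |>.trans
      (by abel)]
    abel
  | neg a _ ha =>
    obtain ⟨g, hg, rfl⟩ := ha
    refine ⟨g⁻¹, inv_mem hg, ?_⟩
    have h0 := hA g hg g⁻¹ (inv_mem hg)
    rw [sub_mul, mul_sub, one_mul, mul_one, Units.mul_inv, sub_eq_zero] at h0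
    rw [neg_sub]
    rw [← h0]

theorem roots_mul_eq_zero {A : Subgroup Rˣ} (hA : IsQuad A) {y z : R} (hy : y ∈ roots A)
    (hz : z ∈ roots A) : y * z = 0 := by
  obtain ⟨a, ha, rfl⟩ := (mem_roots_iff hA).mp hy
  obtain ⟨b, hb, rfl⟩ := (mem_roots_iff hA).mp hz
  exact hA a ha b hb

theorem one_add_mem_of_roots {A : Subgroup Rˣ} (hA : IsQuad A) {z : R} (hz : z ∈ roots A) :
    ∃ a ∈ A, (a : R) = 1 + z := by
  obtain ⟨a, ha, rfl⟩ := (mem_roots_iff hA).mp hz
  exact ⟨a, ha, by abel⟩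

theorem val_inv_of_sq {b : Rˣ} (hb : ((b : R) - 1) * ((b : R) - 1) = 0) :
    ((b⁻¹ : Rˣ) : R) = 1 - ((b : R) - 1) := by
  refine Units.inv_eq_of_mul_eq_one_right ?_
  calc (b : R) * (1 - ((b : R) - 1)) = 1 - ((b : R) - 1) * ((b : R) - 1) := by
        simp only [mul_sub, sub_mul, mul_one, one_mul]; abel
    _ = 1 := by rw [hb, sub_zero]

theorem val_conj {b : Rˣ} (hb : ((b : R) - 1) * ((b : R) - 1) = 0) (a : Rˣ) :
    ((b * a * b⁻¹ : Rˣ) : R) - 1 = ((a : R) - 1) + (((b : R) - 1) * ((a : R) - 1)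
      - ((a : R) - 1) * ((b : R) - 1)) - ((b : R) - 1) * ((a : R) - 1) * ((b : R) - 1) := by
  rw [Units.val_mul, Units.val_mul, val_inv_of_sq hb]
  have : ((b : R) - 1) * ((b : R) - 1) = 0 := hb
  simp only [mul_sub, sub_mul, mul_one, one_mul, ← mul_assoc] at this ⊢
  have e : (b : R) * b = (b : R) + b - 1 := by
    rw [← sub_eq_zero, ← this]; abel
  simp only [e, sub_mul, add_mul, one_mul]
  abel

theorem isQuad_map {A : Subgroup Rˣ} (hA : IsQuad A) (g : Rˣ) :
    IsQuad (A.map (MulAut.conj g).toMonoidHom) := by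
  rintro _ ⟨a, ha, rfl⟩ _ ⟨b, hb, rfl⟩
  have e : ∀ c : Rˣ, ((g * c * g⁻¹ : Rˣ) : R) - 1 = (g : R) * ((c : R) - 1) * ((g⁻¹ : Rˣ) : R) := by
    intro c
    rw [Units.val_mul, Units.val_mul, mul_sub, sub_mul, mul_one, Units.mul_inv]
  show (((g * a * g⁻¹ : Rˣ) : R) - 1) * (((g * b * g⁻¹ : Rˣ) : R) - 1) = 0
  rw [e, e, show (g : R) * ((a : R) - 1) * ((g⁻¹ : Rˣ) : R) * ((g : R) * ((b : R) - 1) * ((g⁻¹ : Rˣ) : R)) =
    (g : R) * (((a : R) - 1) * (((g⁻¹ : Rˣ) : R) * (g : R)) * ((b : R) - 1)) * ((g⁻¹ : Rˣ) : R) by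
      simp only [mul_assoc], Units.inv_mul, mul_one, hA a ha b hb, mul_zero, zero_mul]

/-- The subgroup `1 + W`. -/
def ofRoots (W : AddSubgroup R) (hW : ∀ y ∈ W, ∀ z ∈ W, y * z = 0) : Subgroup Rˣ where
  carrier := {g | (g : R) - 1 ∈ W}
  one_mem' := by simp
  mul_mem' := fun {g h} hg hh => by
    show ((g * h : Rˣ) : R) - 1 ∈ W
    have : ((g * h : Rˣ) : R) - 1 = ((g : R) - 1) + ((h : R) - 1) + ((g : R) - 1) * ((h : R) - 1) := by
      rw [Units.val_mul, sub_mul, mul_sub, mul_one, one_mul]; abel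
    rw [this, hW _ hg _ hh, add_zero]
    exact add_mem hg hh
  inv_mem' := fun {g} hg => by
    show ((g⁻¹ : Rˣ) : R) - 1 ∈ W
    rw [val_inv_of_sq (hW _ hg _ hg)]
    simpa using W.neg_mem hg

/-- The unit `1 + z`. -/
def oneAdd (z : R) (hz : z * z = 0) : Rˣ where
  val := 1 + z
  inv := 1 - z
  val_inv := by simp only [mul_sub, add_mul, one_mul, mul_one, hz]; abel
  inv_val := by simp only [mul_add, sub_mul, one_mul, mul_one, hz]; abel

variable [Finite V]

theorem card_ofRoots (W : AddSubgroup R) (hW : ∀ y ∈ W, ∀ z ∈ W, y * z = 0) :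
    Nat.card (ofRoots W hW) = Nat.card W :=
  Nat.card_congr
    { toFun := fun g => ⟨((g : Rˣ) : R) - 1, g.2⟩
      invFun := fun z => ⟨oneAdd z (hW z z.2 z z.2), show (1 + (z : R)) - 1 ∈ W by simp⟩
      left_inv := fun g => Subtype.ext (Units.ext (show 1 + (((g : Rˣ) : R) - 1) = ((g : Rˣ) : R) by abel))
      right_inv := fun z => Subtype.ext (show (1 + (z : R)) - 1 = z by abel) }

theorem isElementaryAbelian_ofRoots (hp : ∀ v : V, p • v = 0) (W : AddSubgroup R)
    (hW : ∀ y ∈ W, ∀ z ∈ W, y * z = 0) : Cfsg.IsElementaryAbelian p (ofRoots W hW) := by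
  refine Cfsg.Agent.PGroup.isElementaryAbelian_of_forall (fun a ha b hb => ?_) fun a ha => ?_
  · refine Units.ext ?_
    have h1 := hW _ ha _ hb
    have h2 := hW _ hb _ ha
    rw [Units.val_mul, Units.val_mul]
    simp only [mul_sub, sub_mul, mul_one, one_mul] at h1 h2
    rw [← sub_eq_zero, show (a : R) * b - b * a =
      ((a : R) * b - b - (a - 1)) - ((b : R) * a - a - (b - 1)) by abel, h1, h2, sub_zero]
  · have key : ∀ n : ℕ, ((a : R)) ^ n = 1 + n • ((a : R) - 1) := by
      intro n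
      induction n with
      | zero => simp
      | succ n ih =>
        conv_lhs => rw [pow_succ, ih, show (a : R) = 1 + ((a : R) - 1) by abel]
        simp only [mul_add, add_mul, mul_one, one_mul, smul_mul_assoc, hW _ ha _ ha, smul_zero,
          succ_nsmul]
        simp only [add_mul, one_mul, smul_mul_assoc, mul_one, hW _ ha _ ha, smul_zero, add_sub_cancel]
        abel
    refine Units.ext ?_
    rw [Units.val_pow_eq_pow_val, key, nsmul_eq_mul, natCast_end_eq_zero hp, zero_mul, add_zero,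
      Units.val_one]

/-! ### Two normalising quadratic groups -/

variable {h : ℕ}

theorem half_mem (hh : ((2 * h : ℕ) : R) = 1) {S : AddSubgroup R} {z : R} (hz : z + z ∈ S) : z ∈ S := by
  have := nsmul_mem hz h
  rwa [← two_nsmul, ← mul_smul, mul_comm, nsmul_eq_mul, hh, one_mul] at this

theorem pair_rel (hh : ((2 * h : ℕ) : R) = 1) {A B : Subgroup Rˣ} (hA : IsQuad A) (hB : IsQuad B)
    (hBA : B ≤ Subgroup.normalizer (A : Set Rˣ)) (hAB : A ≤ Subgroup.normalizer (B : Set Rˣ)) :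
    ∀ u ∈ roots A, ∀ v ∈ roots B,
      u * v - v * u ∈ roots A ⊓ roots B ∧ u * v * u = 0 ∧ v * u * v = 0 := by
  have key : ∀ {A B : Subgroup Rˣ}, IsQuad A → IsQuad B → B ≤ Subgroup.normalizer (A : Set Rˣ) →
      ∀ u ∈ roots A, ∀ v ∈ roots B, u * v - v * u ∈ roots A := by
    intro A B hA hB hBA u hu v hv
    obtain ⟨a, ha, rfl⟩ := (mem_roots_iff hA).mp hu
    obtain ⟨b, hb, rfl⟩ := (mem_roots_iff hB).mp hv
    have m1 : ((b * a * b⁻¹ : Rˣ) : R) - 1 ∈ roots A :=
      AddSubgroup.subset_closure ⟨_, (Subgroup.mem_normalizer_iff.mp (hBA hb) a).mp ha, rfl⟩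
    have m2 : ((b⁻¹ * a * b⁻¹⁻¹ : Rˣ) : R) - 1 ∈ roots A :=
      AddSubgroup.subset_closure ⟨_, (Subgroup.mem_normalizer_iff.mp (hBA (inv_mem hb)) a).mp ha, rfl⟩
    have hb2 := hB b hb b hb
    rw [val_conj hb2] at m1
    rw [val_conj (hB _ (inv_mem hb) _ (inv_mem hb)), val_inv_of_sq hb2] at m2
    refine half_mem hh ?_
    have := sub_mem m2 m1
    generalize (a : R) - 1 = u at this ⊢
    generalize (b : R) - 1 = v at this ⊢
    convert this using 1
    simp only [sub_sub_cancel_left, neg_mul, mul_neg, neg_neg]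
    abel
  intro u hu v hv
  have r1 := key hA hB hBA u hu v hv
  have r2 : u * v - v * u ∈ roots B := by simpa using neg_mem (key hB hA hAB v hv u hu)
  have e1 := roots_mul_eq_zero hA r1 hu
  have e2 := roots_mul_eq_zero hB r2 hv
  rw [sub_mul, mul_assoc v, roots_mul_eq_zero hA hu hu, mul_zero, sub_zero] at e1
  rw [sub_mul, mul_assoc u, roots_mul_eq_zero hB hv hv, mul_zero, zero_sub, neg_eq_zero] at e2
  exact ⟨⟨r1, r2⟩, e1, e2⟩

/-! ### The flag -/

/-- The ascending fixed flag of `G`. -/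
def flag (G : Subgroup Rˣ) : ℕ → AddSubgroup V
  | 0 => ⊥
  | j + 1 =>
    { carrier := {v | ∀ g ∈ G, (g : R) v - v ∈ flag G j}
      zero_mem' := fun g _ => by simp
      add_mem' := fun {v w} hv hw g hg => by
        rw [map_add, add_sub_add_comm]; exact add_mem (hv g hg) (hw g hg)
      neg_mem' := fun {v} hv g hg => by
        rw [map_neg, ← neg_sub_neg, neg_neg, neg_neg]
        simpa [sub_eq_add_neg, add_comm] using neg_mem (hv g hg) }

theorem flag_le_succ (G : Subgroup Rˣ) : ∀ j, flag G j ≤ flag G (j + 1)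
  | 0 => bot_le
  | j + 1 => fun v hv g hg => flag_le_succ G j (hv g hg)

theorem flag_eventually [Fact p.Prime] (hp : ∀ v : V, p • v = 0) {G : Subgroup Rˣ} (hG : IsPGroup p G) :
    ∃ n, flag G n = ⊤ := by
  by_contra hcon
  push Not at hcon
  have hlt : ∀ j, Nat.card (flag G j) < Nat.card (flag G (j + 1)) := by
    intro j
    have hinv : ∀ g ∈ G, ∀ w ∈ flag G j, (g : R) w ∈ flag G j := fun g hg w hw => by
      have := add_mem (flag_le_succ G j hw g hg) hw
      rwa [sub_add_cancel] at this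
    letI : MulAction G (V ⧸ flag G j) :=
      { smul := fun a q => QuotientAddGroup.map (flag G j) (flag G j)
          (((a : Rˣ) : R).toAddMonoidHom) (hinv a a.2) q
        one_smul := fun q => QuotientAddGroup.induction_on q fun v => rfl
        mul_smul := fun a b q => QuotientAddGroup.induction_on q fun v => rfl }
    obtain ⟨v₀, hv₀⟩ : ∃ v, v ∉ flag G j := by
      by_contra hc
      push Not at hc
      exact hcon j (eq_top_iff.mpr fun v _ => hc v)
    have hdvd : p ∣ Nat.card (V ⧸ flag G j) := by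
      have h1 : addOrderOf (v₀ : V ⧸ flag G j) = p :=
        addOrderOf_eq_prime (by rw [← QuotientAddGroup.mk_nsmul, hp]; rfl)
          (fun hc => hv₀ ((QuotientAddGroup.eq_zero_iff v₀).mp hc))
      exact h1 ▸ addOrderOf_dvd_natCard (v₀ : V ⧸ flag G j)
    obtain ⟨q, hq, hne0⟩ := hG.exists_fixed_point_of_prime_dvd_card_of_fixed_point (V ⧸ flag G j) hdvd
      (show (0 : V ⧸ flag G j) ∈ MulAction.fixedPoints G (V ⧸ flag G j) from fun a => map_zero _)
    obtain ⟨v, rfl⟩ := QuotientAddGroup.mk_surjective q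
    have hv : v ∈ flag G (j + 1) := fun g hg =>
      (QuotientAddGroup.eq_iff_sub_mem).mp (hq ⟨g, hg⟩)
    have hvn : v ∉ flag G j := fun h => hne0 ((QuotientAddGroup.eq_zero_iff v).mpr h).symm
    exact Set.ncard_lt_ncard (s := (flag G j : Set V))
      ⟨flag_le_succ G j, fun h => hvn (h hv)⟩ (Set.toFinite _)
  have grow : ∀ j, j ≤ Nat.card (flag G j) := by
    intro j
    induction j with
    | zero => exact Nat.zero_le _
    | succ j ih => exact Nat.succ_le_of_lt (lt_of_le_of_lt ih (hlt j))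
  have h1 := (grow (Nat.card V + 1)).trans (AddSubgroup.card_le_card_addGroup _)
  omega

/-- Maps lowering the flag by `i`. -/
def level (G : Subgroup Rˣ) (i : ℕ) : AddSubgroup R where
  carrier := {z | ∀ j, ∀ v ∈ flag G (j + i), z v ∈ flag G j}
  zero_mem' := fun j v _ => by simp
  add_mem' := fun hy hz j v hv => by rw [LinearMap.add_apply]; exact add_mem (hy j v hv) (hz j v hv)
  neg_mem' := fun hy j v hv => by rw [LinearMap.neg_apply]; exact neg_mem (hy j v hv)

theorem level_anti (G : Subgroup Rˣ) (i : ℕ) : level G (i + 1) ≤ level G i :=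
  fun z hz j v hv => hz j v (flag_le_succ G (j + i) hv)

theorem sub_one_mem_level {G : Subgroup Rˣ} {g : Rˣ} (hg : g ∈ G) : (g : R) - 1 ∈ level G 1 :=
  fun j v hv => by rw [LinearMap.sub_apply, Module.End.one_apply]; exact hv g hg

theorem mul_mem_level {G : Subgroup Rˣ} {x z : R} (hx : x ∈ level G 1) {i : ℕ} (hz : z ∈ level G i) :
    x * z ∈ level G (i + 1) ∧ z * x ∈ level G (i + 1) := by
  refine ⟨fun j v hv => ?_, fun j v hv => ?_⟩
  · rw [Module.End.mul_apply]
    refine hx j _ (hz (j + 1) v ?_)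
    rwa [show j + 1 + i = j + (i + 1) by omega]
  · rw [Module.End.mul_apply]
    exact hz j _ (hx (j + i) v (by rwa [add_assoc]))

theorem level_eq_bot {G : Subgroup Rˣ} {n : ℕ} (hn : flag G n = ⊤) : level G n = ⊥ := by
  refine (AddSubgroup.eq_bot_iff_forall _).mpr fun z hz => LinearMap.ext fun v => ?_
  have := hz 0 v (by rw [zero_add, hn]; trivial)
  simpa [flag] using this

/-! ### The replacement -/

/-- A quadratic offender inside `G`. -/
def Good (p : ℕ) (G A : Subgroup Rˣ) : Prop :=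
  A ≤ G ∧ A ≠ ⊥ ∧ Cfsg.IsElementaryAbelian p A ∧ IsQuad A ∧ Nat.card V ≤ Nat.card A * Nat.card (fixed A)

omit [Finite V] in
theorem exists_spike_aux [Fact p.Prime] [Module (ZMod p) V] [Nontrivial V] :
    ∃ e : V →+ R, Function.Injective e ∧ (∀ (z : R) (v : V), z * e v = e (z v)) := by
  obtain ⟨v₀, hv₀⟩ := exists_ne (0 : V)
  obtain ⟨f, hf⟩ : ∃ f : V →ₗ[ZMod p] ZMod p, f v₀ ≠ 0 := by
    by_contra hc
    push Not at hc
    exact hv₀ ((Module.forall_dual_apply_eq_zero_iff (ZMod p) v₀).mp hc)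
  let e : V →+ R :=
    { toFun := fun v => (LinearMap.smulRight f v).toAddMonoidHom.toIntLinearMap
      map_zero' := LinearMap.ext fun t => by simp
      map_add' := fun a b => LinearMap.ext fun t => by simp }
  refine ⟨e, fun a b hab => ?_, fun z v => ?_⟩
  · have := LinearMap.congr_fun hab v₀
    exact (smul_right_injective V hf) this
  · refine LinearMap.ext fun t => ?_
    exact ZMod.map_smul (z : V →ₗ[ℤ] V).toAddMonoidHom (f t) v

omit [Finite V] in
/-- The rank one map with kernel `ker f`. -/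
theorem exists_spike [Fact p.Prime] (hp : ∀ v : V, p • v = 0) [Nontrivial V] :
    ∃ e : V →+ R, Function.Injective e ∧ (∀ (z : R) (v : V), z * e v = e (z v)) :=
  letI : Module (ZMod p) V := AddCommGroup.zmodModule hp
  exists_spike_aux (p := p)

/-- The limit of a quadratic offender under `b` is a quadratic offender of `G`, deeper in the
filtration. -/
theorem replace [Fact p.Prime] (hp : ∀ v : V, p • v = 0) (hodd : p ≠ 2) {G : Subgroup Rˣ} {n : ℕ}
    (hn : flag G n = ⊤) {A : Subgroup Rˣ} (hA : Good p G A) {b : Rˣ} (hb : b ∈ G)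
    (hb2 : ((b : R) - 1) * ((b : R) - 1) = 0) (hbA : b ∉ Subgroup.normalizer (A : Set Rˣ))
    (hnorm : ∀ g ∈ ({1, b, b⁻¹} : Set Rˣ), ∀ k ∈ ({1, b, b⁻¹} : Set Rˣ),
      A.map (MulAut.conj g).toMonoidHom ≤
        Subgroup.normalizer ((A.map (MulAut.conj k).toMonoidHom : Subgroup Rˣ) : Set Rˣ)) :
    ∃ A', Good p G A' ∧
      (∀ i, Nat.card ↥(roots A ⊓ level G i) ≤ Nat.card ↥(roots A' ⊓ level G i)) ∧
      ∃ i ≤ n, Nat.card ↥(roots A ⊓ level G i) < Nat.card ↥(roots A' ⊓ level G i) := by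
  obtain ⟨hAG, hAne, hAel, hAq, hAoff⟩ := hA
  set x := (b : R) - 1 with hx
  obtain ⟨m, hm⟩ : Odd p := (Fact.out : p.Prime).odd_of_ne_two hodd
  have hh : ((2 * (m + 1) : ℕ) : R) = 1 := by
    rw [show 2 * (m + 1) = p + 1 by omega, Nat.cast_add, natCast_end_eq_zero hp, zero_add, Nat.cast_one]
  set U := roots A with hU
  set W := limit (sc x) (sc (-x)) U with hWdef
  have hWq : ∀ y ∈ W, ∀ z ∈ W, y * z = 0 := fun y hy z hz =>
    limit_mul_eq_zero (fun _ hu _ hv => roots_mul_eq_zero hAq hu hv) (sc_neg_mul hb2) hy hz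
  -- the three conjugates
  set Ap := A.map (MulAut.conj b).toMonoidHom with hAp
  set Am := A.map (MulAut.conj b⁻¹).toMonoidHom with hAm
  have hpl : ∀ u ∈ U, u + (x * u - u * x) - x * u * x ∈ roots Ap ∧
      u - (x * u - u * x) - x * u * x ∈ roots Am := by
    intro u hu
    obtain ⟨a, ha, rfl⟩ := (mem_roots_iff hAq).mp hu
    constructor
    · rw [hx, ← val_conj hb2 a]
      exact AddSubgroup.subset_closure ⟨_, ⟨a, ha, rfl⟩, rfl⟩
    · have hbi : ((b⁻¹ : Rˣ) : R) - 1 = -x := by rw [val_inv_of_sq hb2, hx]; abel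
      have h2 : (((b⁻¹ : Rˣ) : R) - 1) * (((b⁻¹ : Rˣ) : R) - 1) = 0 := by
        rw [hbi, neg_mul_neg]; exact hb2
      have e := val_conj h2 a
      rw [hbi] at e
      have : ((b⁻¹ * a * b⁻¹⁻¹ : Rˣ) : R) - 1 ∈ roots Am :=
        AddSubgroup.subset_closure ⟨_, ⟨a, ha, rfl⟩, rfl⟩
      rw [e] at this
      convert this using 1
      simp only [neg_mul, mul_neg, neg_neg]
      abel
  have hWS : W ≤ U ⊔ roots Ap ⊔ roots Am := by
    have iu : ∀ u ∈ U, u ∈ U ⊔ roots Ap ⊔ roots Am := fun u hu =>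
      AddSubgroup.mem_sup_left (AddSubgroup.mem_sup_left hu)
    refine limit_le (fun u hu => iu u hu) (fun u hu => half_mem hh ?_) fun u hu => half_mem hh ?_
    · have := sub_mem (AddSubgroup.mem_sup_left (T := roots Am) (AddSubgroup.mem_sup_right (S := U)
        (hpl u hu).1)) (AddSubgroup.mem_sup_right (S := U ⊔ roots Ap) (hpl u hu).2)
      convert this using 1
      abel
    · have := sub_mem (sub_mem (add_mem (iu u hu) (iu u hu))
        (AddSubgroup.mem_sup_left (T := roots Am) (AddSubgroup.mem_sup_right (S := U) (hpl u hu).1)))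
        (AddSubgroup.mem_sup_right (S := U ⊔ roots Ap) (hpl u hu).2)
      convert this using 1
      abel
  have hqp : IsQuad Ap := isQuad_map hAq b
  have hqm : IsQuad Am := isQuad_map hAq b⁻¹
  have hA1 : A.map (MulAut.conj (1 : Rˣ)).toMonoidHom = A := by
    ext a; simp
  have nAP : Ap ≤ Subgroup.normalizer (A : Set Rˣ) ∧ A ≤ Subgroup.normalizer (Ap : Set Rˣ) :=
    ⟨by have := hnorm b (by simp) 1 (by simp); rwa [hA1] at this,
      by have := hnorm 1 (by simp) b (by simp); rwa [hA1] at this⟩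
  have nAM : Am ≤ Subgroup.normalizer (A : Set Rˣ) ∧ A ≤ Subgroup.normalizer (Am : Set Rˣ) :=
    ⟨by have := hnorm b⁻¹ (by simp) 1 (by simp); rwa [hA1] at this,
      by have := hnorm 1 (by simp) b⁻¹ (by simp); rwa [hA1] at this⟩
  have nPM := pair_rel hh hqp hqm (hnorm b⁻¹ (by simp) b (by simp)) (hnorm b (by simp) b⁻¹ (by simp))
  have hmapG : ∀ g ∈ G, A.map (MulAut.conj g).toMonoidHom ≤ G := by
    rintro g hg _ ⟨a, ha, rfl⟩
    exact mul_mem (mul_mem hg (hAG ha)) (inv_mem hg)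
  set A' := ofRoots W hWq with hA'
  have hA'G : A' ≤ G := by
    intro g hg
    have hgW : (g : R) - 1 ∈ W := hg
    obtain ⟨uv, huv, s, hs, e1⟩ := AddSubgroup.mem_sup.mp (hWS hgW)
    obtain ⟨u, hu, v, hv, e2⟩ := AddSubgroup.mem_sup.mp huv
    let L : Submonoid R := G.toSubmonoid.map (Units.coeHom R)
    have inL : ∀ {B : Subgroup Rˣ}, B ≤ G → IsQuad B → ∀ z ∈ roots B, 1 + z ∈ L := fun hBG hBq z hz => by
      obtain ⟨a, ha, e⟩ := one_add_mem_of_roots hBq hz
      exact ⟨a, hBG ha, e⟩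
    have hz : u + v + s = (g : R) - 1 := by rw [e2, e1]
    have := sq_zero_sum_mem hh L (roots A) (roots Ap) (roots Am) (inL hAG hAq)
      (inL (hmapG b hb) hqp) (inL (hmapG _ (inv_mem hb)) hqm)
      (fun _ h1 _ h2 => roots_mul_eq_zero hAq h1 h2) (fun _ h1 _ h2 => roots_mul_eq_zero hqp h1 h2)
      (fun _ h1 _ h2 => roots_mul_eq_zero hqm h1 h2)
      (pair_rel hh hAq hqp nAP.1 nAP.2) (pair_rel hh hAq hqm nAM.1 nAM.2) nPM hu hv hs
      (by rw [hz]; exact hWq _ hgW _ hgW)
    obtain ⟨a, ha, ea⟩ := this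
    rw [hz, add_sub_cancel] at ea
    rwa [← (Units.ext ea : a = g)]
  have hA'q : IsQuad A' := fun a ha c hc => hWq _ ha _ hc
  have hrootA' : roots A' = W := by
    refine le_antisymm ((AddSubgroup.closure_le _).mpr ?_) fun z hz => ?_
    · rintro _ ⟨a, ha, rfl⟩; exact ha
    · exact AddSubgroup.subset_closure ⟨oneAdd z (hWq z hz z hz), show (1 + z) - 1 ∈ W by simpa,
        show z = (1 + z) - 1 by abel⟩
  have hcardA : Nat.card A ≤ Nat.card A' := by
    rw [card_ofRoots]
    refine le_trans ?_ (card_le_limit (sc_neg_mul hb2) (sc_neg_mul hb2) (natDegree_sc_le _)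
      (natDegree_sc_le _) U)
    exact Nat.card_le_card_of_injective
      (fun a => (⟨((a : Rˣ) : R) - 1, AddSubgroup.subset_closure ⟨a, a.2, rfl⟩⟩ : U))
      fun a c h => Subtype.ext (Units.ext (sub_left_injective (congrArg Subtype.val h)))
  haveI : Nontrivial V := by
    by_contra hnt
    rw [not_nontrivial_iff_subsingleton] at hnt
    exact hAne ((Subgroup.eq_bot_iff_forall _).mpr fun a _ =>
      Units.ext (LinearMap.ext fun v => Subsingleton.elim _ _))
  have hA'ne : A' ≠ ⊥ := fun h => by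
    rw [h, Subgroup.card_bot] at hcardA
    exact hAne (A.card_le_one_iff_eq_bot.mp hcardA)
  have hfix : Nat.card (fixed A) ≤ Nat.card (fixed A') := by
    obtain ⟨e, he, hez⟩ := exists_spike hp (V := V)
    set E0 := (fixed A).map e with hE0
    have hUE : ∀ u ∈ U, ∀ z ∈ E0, u * z = 0 := by
      rintro u hu _ ⟨v, hv, rfl⟩
      obtain ⟨a, ha, rfl⟩ := (mem_roots_iff hAq).mp hu
      rw [hez, LinearMap.sub_apply, Module.End.one_apply, (mem_fixed.mp hv) a ha, sub_self, map_zero]
    set W2 := limit (sc x) (sc (0 : R)) E0 with hW2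
    have hsc0 : sc (0 : R) = 1 := by simp [sc]
    have hrange : W2 ≤ e.range := by
      refine (AddSubgroup.closure_le _).mpr ?_
      rintro _ ⟨P, ⟨Q, hQ, rfl⟩, k, -, rfl⟩
      have hm : ∀ j, Q.coeff j ∈ e.range := fun j => by
        obtain ⟨v, -, e'⟩ := hQ j; exact ⟨v, e'⟩
      have hxm : ∀ j, x * Q.coeff j ∈ e.range := fun j => by
        obtain ⟨v, e'⟩ := hm j; exact ⟨x v, by rw [← e', hez]⟩
      rw [coeff_sc_mul_sc]
      simp only [mul_zero, add_zero, ite_self]
      refine add_mem (hm k) ?_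
      split_ifs
      exacts [hxm _, zero_mem _]
    have hzero : ∀ y ∈ W, ∀ z ∈ W2, y * z = 0 := fun y hy z hz =>
      limit_mul_eq_zero hUE (sc_neg_mul hb2) hy hz
    calc Nat.card (fixed A) = Nat.card E0 :=
          Nat.card_congr ((fixed A).equivMapOfInjective e he).toEquiv
      _ ≤ Nat.card W2 := card_le_limit (sc_neg_mul hb2) (by rw [hsc0, one_mul] : sc (0 : R) * 1 = 1)
          (natDegree_sc_le _) (natDegree_sc_le _) E0
      _ ≤ Nat.card (fixed A') := by
          refine Nat.card_le_card_of_injective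
            (fun z => (⟨(hrange z.2).choose, mem_fixed.mpr fun a ha => ?_⟩ : fixed A')) fun z z' h => ?_
          · have h0 := hzero _ ha z z.2
            rw [← (hrange z.2).choose_spec, hez, ← map_zero e] at h0
            have := he h0
            rwa [LinearMap.sub_apply, Module.End.one_apply, sub_eq_zero] at this
          · refine Subtype.ext ?_
            rw [← (hrange z.2).choose_spec, ← (hrange z'.2).choose_spec]
            exact congrArg (fun w : fixed A' => e (w : V)) h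
  have hxlev : x ∈ level G 1 := sub_one_mem_level hb
  refine ⟨A', ⟨hA'G, hA'ne, isElementaryAbelian_ofRoots hp W hWq, hA'q,
    hAoff.trans (Nat.mul_le_mul hcardA hfix)⟩, fun i => ?_, ?_⟩
  · rw [hrootA']
    refine (card_le_limit (sc_neg_mul hb2) (sc_neg_mul hb2) (natDegree_sc_le _) (natDegree_sc_le _)
      (U ⊓ level G i)).trans (AddSubgroup.card_le_of_le (le_inf (limit_mono inf_le_left) ?_))
    refine limit_le inf_le_right (fun u hu => ?_) fun u hu => ?_
    · exact sub_mem (level_anti G i (mul_mem_level hxlev hu.2).1)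
        (level_anti G i (mul_mem_level hxlev hu.2).2)
    · exact level_anti G i (level_anti G (i + 1) (mul_mem_level hxlev (mul_mem_level hxlev hu.2).1).2)
  · let Inv : ℕ → Prop := fun i => ∀ u ∈ U ⊓ level G i,
      x * u - u * x ∈ U ⊓ level G i ∧ x * u * x ∈ U ⊓ level G i
    have hlast : Inv n := by
      intro u hu
      have : u = 0 := by simpa [level_eq_bot hn] using hu.2
      subst this
      simp [zero_mem]
    have hn1 : 1 ≤ n := by
      rcases Nat.eq_zero_or_pos n with rfl | h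
      · exact absurd hn (fun h => by simp [flag] at h)
      · exact h
    have hfirst : ¬ Inv 1 := by
      intro hI
      have hU1 : ∀ u ∈ U, u ∈ level G 1 := fun u hu => by
        obtain ⟨a, ha, rfl⟩ := (mem_roots_iff hAq).mp hu
        exact sub_one_mem_level (hAG ha)
      refine hbA (Subgroup.mem_normalizer_fintype (S := (A : Set Rˣ)) fun a ha => ?_)
      have hu : (a : R) - 1 ∈ U := AddSubgroup.subset_closure ⟨a, ha, rfl⟩
      obtain ⟨i1, i2⟩ := hI _ ⟨hu, hU1 _ hu⟩
      have : ((b * a * b⁻¹ : Rˣ) : R) - 1 ∈ U := by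
        rw [val_conj hb2]
        exact sub_mem (add_mem hu i1.1) i2.1
      obtain ⟨c, hc, e⟩ := (mem_roots_iff hAq).mp this
      rwa [(Units.ext (sub_left_injective e) : b * a * b⁻¹ = c)]
    obtain ⟨i, hi, hin, hin1⟩ : ∃ i, ¬ Inv i ∧ i < n ∧ Inv (i + 1) := by
      by_contra hc
      push Not at hc
      have : ∀ k, k ≤ n - 1 → Inv (n - k) := by
        intro k
        induction k with
        | zero => exact fun _ => hlast
        | succ k ih =>
          intro hk
          by_contra hI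
          have := hc (n - (k + 1)) hI (by omega)
          rw [show n - (k + 1) + 1 = n - k by omega] at this
          exact this (ih (by omega))
      exact hfirst (by simpa [show n - (n - 1) = 1 by omega] using this (n - 1) le_rfl)
    refine ⟨i + 1, hin, ?_⟩
    set U' := U ⊓ level G (i + 1) with hU'
    have h1 : ∀ u ∈ U', x * u - u * x ∈ U' := fun u hu => (hin1 u hu).1
    have h2 : ∀ u ∈ U', x * u * x ∈ U' := fun u hu => (hin1 u hu).2
    have hle : U' ≤ roots A' ⊓ level G (i + 1) := by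
      rw [hrootA']
      exact le_inf (le_limit hb2 inf_le_left h1 h2) inf_le_right
    obtain ⟨y, hy, hbad⟩ : ∃ y ∈ U ⊓ level G i,
        ¬ (x * y - y * x ∈ U ⊓ level G i ∧ x * y * x ∈ U ⊓ level G i) := by
      by_contra hc
      push Not at hc
      exact hi hc
    have l1 : x * y - y * x ∈ level G (i + 1) :=
      sub_mem (mul_mem_level hxlev hy.2).1 (mul_mem_level hxlev hy.2).2
    have l2 : x * y * x ∈ level G (i + 1) :=
      level_anti G (i + 1) (mul_mem_level hxlev (mul_mem_level hxlev hy.2).1).2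
    obtain ⟨t2, t1⟩ := top_mem_limit hb2 (inf_le_left : U' ≤ U) h1 h2 hy.1
    obtain ⟨z, hzW, hzl, hzn⟩ : ∃ z, z ∈ W ∧ z ∈ level G (i + 1) ∧ z ∉ U' := by
      by_cases hy2 : x * y * x ∈ U'
      · refine ⟨_, t1 hy2, l1, fun hc => hbad ⟨⟨hc.1, level_anti G i hc.2⟩, ⟨hy2.1, level_anti G i hy2.2⟩⟩⟩
      · exact ⟨_, t2, l2, hy2⟩
    exact Set.ncard_lt_ncard (s := (U' : Set R))
      ⟨hle, fun h => hzn (h ⟨by rw [hrootA']; exact hzW, hzl⟩)⟩ (Set.toFinite _)

/-- A `p`-group with an offender has a quadratic offender normalised by all its conjugates. -/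
theorem exists_quadratic_normal_closure [Fact p.Prime] (hp : ∀ v : V, p • v = 0) (hodd : p ≠ 2)
    {G : Subgroup Rˣ} (hG : IsPGroup p G)
    (hF : ∃ E, E ≤ G ∧ E ≠ ⊥ ∧ Cfsg.IsElementaryAbelian p E ∧
      Nat.card V ≤ Nat.card E * Nat.card (fixed E)) :
    ∃ A, Good p G A ∧
      ∀ g ∈ G, A.map (MulAut.conj g).toMonoidHom ≤ Subgroup.normalizer (A : Set Rˣ) := by
  classical
  obtain ⟨n, hn⟩ := flag_eventually hp hG
  -- existence
  obtain ⟨A₁, hA₁⟩ : ∃ A, Good p G A := by
    obtain ⟨E, hEG, hEne, hEel, hEoff⟩ := hF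
    obtain ⟨C, ⟨hCE, hCne⟩, hCmax⟩ := Set.exists_max_image {C : Subgroup Rˣ | C ≤ E ∧ C ≠ ⊥}
      (fun C => Nat.card C * Nat.card (fixed C)) (Set.toFinite _) ⟨E, le_rfl, hEne⟩
    have hbig : Nat.card V ≤ Nat.card C * Nat.card (fixed C) := hEoff.trans (hCmax E ⟨le_rfl, hEne⟩)
    have hbest : Best C := by
      intro D hD
      rcases eq_or_ne D ⊥ with rfl | hD0
      · rwa [Subgroup.card_bot, one_mul, fixed_bot, AddSubgroup.card_top]
      · exact hCmax D ⟨hD.trans hCE, hD0⟩
    have hCel := Cfsg.Agent.PGroup.isElementaryAbelian_mono hEel hCE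
    obtain ⟨hb1, hb2⟩ := timmesfeld hp hCel hCne hbest
    refine ⟨_, ((stab_le _ _).trans hCE).trans hEG, hb2,
      Cfsg.Agent.PGroup.isElementaryAbelian_mono hCel (stab_le _ _), fun a ha c hc => ?_, hb1.card_le⟩
    refine LinearMap.ext fun v => ?_
    rw [Module.End.mul_apply, LinearMap.zero_apply]
    simp only [LinearMap.sub_apply, Module.End.one_apply]
    rw [sub_eq_zero]
    exact ha.2 _ (AddSubgroup.subset_closure ⟨c, hc.1, v, rfl⟩)
  obtain ⟨A, hA, hAmax⟩ := Set.exists_max_image {A | Good p G A}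
    (fun A => ∑ i ∈ Finset.range (n + 1), Nat.card ↥(roots A ⊓ level G i)) (Set.toFinite _) ⟨A₁, hA₁⟩
  refine ⟨A, hA, ?_⟩
  by_contra hbad
  push Not at hbad
  obtain ⟨g, ⟨hg, hgbad⟩, hgmin⟩ := Set.exists_min_image
    {g : Rˣ | g ∈ G ∧ ¬ A.map (MulAut.conj g).toMonoidHom ≤ Subgroup.normalizer (A : Set Rˣ)}
    (fun g => Nat.card ↥(A ⊔ A.map (MulAut.conj g).toMonoidHom)) (Set.toFinite _)
    (by obtain ⟨g, hg, h⟩ := hbad; exact ⟨g, hg, h⟩)
  set B := A.map (MulAut.conj g).toMonoidHom with hB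
  set K := A ⊔ B with hK
  have hBG : B ≤ G := by
    rintro _ ⟨a, ha, rfl⟩
    exact mul_mem (mul_mem hg (hA.1 ha)) (inv_mem hg)
  have hKG : K ≤ G := sup_le hA.1 hBG
  haveI : Group.IsNilpotent K := (hG.to_le hKG).isNilpotent
  have hAK : A.subgroupOf K ≠ ⊤ := fun h =>
    hgbad ((le_sup_right.trans (Subgroup.subgroupOf_eq_top.mp h)).trans Subgroup.le_normalizer)
  obtain ⟨M, hMmax, hAM⟩ := (eq_top_or_exists_le_coatom (A.subgroupOf K)).resolve_left hAK
  have hMn : M.Normal :=
    Subgroup.NormalizerCondition.normal_of_coatom M Group.normalizerCondition_of_isNilpotent hMmax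
  have hsmall : ∀ k ∈ K, A.map (MulAut.conj k).toMonoidHom ≤ Subgroup.normalizer (A : Set Rˣ) := by
    intro k hk
    by_contra hc
    have h1 := hgmin k ⟨hKG hk, hc⟩
    have h2 : A ⊔ A.map (MulAut.conj k).toMonoidHom ≤ M.map K.subtype := by
      refine sup_le (fun a ha => ⟨⟨a, le_sup_left (b := B) ha⟩, hAM ha, rfl⟩) ?_
      rintro _ ⟨a, ha, rfl⟩
      exact ⟨⟨k, hk⟩ * ⟨a, le_sup_left (b := B) ha⟩ * ⟨k, hk⟩⁻¹, hMn.conj_mem _ (hAM ha) _, rfl⟩
    have h3 : Nat.card ↥(M.map K.subtype) < Nat.card K := by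
      rw [Subgroup.card_map_of_injective K.subtype_injective]
      exact lt_of_le_of_ne (Subgroup.card_le_card_group M) fun h => hMmax.1 (Subgroup.eq_top_of_card_eq _ h)
    exact absurd ((h1.trans (Subgroup.card_le_of_le h2)).trans_lt h3) (lt_irrefl _)
  obtain ⟨c, hc, hcb⟩ : ∃ c ∈ B, c ∉ Subgroup.normalizer (A : Set Rˣ) := Set.not_subset.mp hgbad
  have hcK : c ∈ K := le_sup_right (a := A) hc
  have hc2 : ((c : R) - 1) * ((c : R) - 1) = 0 := isQuad_map hA.2.2.2.1 g c hc c hc
  obtain ⟨A', hA', hle, i, hin, hlt⟩ := replace hp hodd hn hA (hKG hcK) hc2 hcb (by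
    intro g' hg' k' hk'
    have hmem : ∀ t ∈ ({1, c, c⁻¹} : Set Rˣ), t ∈ K := by
      intro t ht
      rcases ht with rfl | rfl | rfl
      exacts [one_mem K, hcK, inv_mem hcK]
    rintro _ ⟨a, ha, rfl⟩
    have h0 : MulAut.conj (k'⁻¹ * g') a ∈ Subgroup.normalizer (A : Set Rˣ) :=
      hsmall _ (mul_mem (inv_mem (hmem k' hk')) (hmem g' hg')) ⟨a, ha, rfl⟩
    rw [← Subgroup.map_normalizer_eq_of_bijective _ (MulAut.conj k').bijective]
    refine ⟨_, h0, ?_⟩
    simp [mul_assoc])
  exact absurd (hAmax A' hA') (not_le.mpr (Finset.sum_lt_sum (fun j _ => hle j)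
    ⟨i, Finset.mem_range.mpr (Nat.lt_succ_of_le hin), hlt⟩))

end Cfsg.Agent.Offender.LimitNormal
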