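import Cfsg.Agent.Lib.Offender.Decomposition
import Cfsg.Agent.Lib.PCore.HallHigman

/-!
# The action of `G` on a normal subgroup `V` as a group of its own

`Model V = V ⋊ Aut V` carries the faithful setting to the statements on `p`-solvable groups.

* `centralizer_pPrimeCore_le`: `p`-solvable with `O_p = 1` has self-centralizing `O_{p'}`
* `Model`, `toModel`, `ofV`, `modelV`, `isBestOffenderOn_map_toModel`, `card_map_toModel`
* `model_gen`: the image of `J(G)` satisfies `Gen`
-/

set_option autoImplicit false

namespace Cfsg.Agent.Offender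

open Subgroup
open scoped commutatorElement

universe u

variable {G : Type u} [Group G] {p : ℕ}

/-- A `p`-solvable group with trivial `O_p` has self-centralizing `O_{p'}`. -/
theorem centralizer_pPrimeCore_le [Finite G] [Fact p.Prime] (hs : IsPSolvable p G)
    (h : pCore p G = ⊥) : centralizer (pPrimeCore p G : Set G) ≤ pPrimeCore p G := by
  set R := pPrimeCore p G with hR
  set C := centralizer (R : Set G) with hC
  set π := QuotientGroup.mk' R with hπ
  have hCn : C.Normal := normal_centralizer
  have : (C.map π).Normal := hCn.map π (QuotientGroup.mk'_surjective _)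
  by_contra hle
  have hne : C.map π ≠ ⊥ := by
    rw [Ne, Subgroup.map_eq_bot_iff, QuotientGroup.ker_mk']; exact hle
  have := (nontrivial_iff_ne_bot _).mpr hne
  have hs' : IsPSolvable p ↥(C.map π) :=
    PCore.isPSolvable_of_surjective _ (π.subgroupMap_surjective C) (PCore.isPSolvable_subgroup hs _)
  have h1 : pCore p ↥(C.map π) ≠ ⊥ :=
    (PCore.pCore_ne_bot_or_pPrimeCore_ne_bot hs').resolve_right
      (not_not.mpr (PCore.pPrimeCore_eq_bot_of_normal _ PCore.pPrimeCore_quotient_self_eq_bot))
  set K' := (pCore p ↥(C.map π)).map (C.map π).subtype with hK'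
  have hK'n : K'.Normal := PCore.map_pCore_subtype_normal _
  have := hK'n.comap π
  set K := K'.comap π ⊓ C with hK
  have hKK' : K.map π = K' := by
    refine le_antisymm ((map_mono inf_le_left).trans (map_comap_le _ _)) fun y hy => ?_
    obtain ⟨c, hc, rfl⟩ := (map_subtype_le _ : K' ≤ C.map π) hy
    exact ⟨c, ⟨hy, hc⟩, rfl⟩
  set Z := R.subgroupOf K with hZ
  have hidx : ∃ k, Z.index = p ^ k := by
    show ∃ k, R.relIndex K = p ^ k
    rw [PCore.relIndex_eq_card_map_mk', ← hπ, hKK', hK']
    exact IsPGroup.iff_card.mp (PCore.isPGroup_pCore.map _)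
  obtain ⟨k, hk⟩ := hidx
  have hZc : (Nat.card Z).Coprime p := by
    refine (PCore.coprime_card_pPrimeCore (G := G)).coprime_dvd_left ?_
    rw [hZ, ← card_map_of_injective K.subtype_injective, subgroupOf_map_subtype]
    exact card_dvd_of_le inf_le_left
  obtain ⟨L, hL⟩ := exists_right_complement'_of_coprime (N := Z) (hk ▸ hZc.pow_right k)
  have hcen : Z ≤ center K := fun z hz => mem_center_iff.mpr fun g =>
    Subtype.ext (mem_centralizer_iff.mp (mem_inf.mp g.2).2 (z : G) hz).symm
  have hLn : L.Normal := by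
    rw [← normalizer_eq_top_iff, eq_top_iff, ← hL.sup_eq_top]
    refine sup_le (fun z hz => mem_normalizer_iff.mpr fun y => ?_) le_normalizer
    rw [← mem_center_iff.mp (hcen hz) y, mul_inv_cancel_right]
  have hLp : IsPGroup p L := IsPGroup.of_card (n := k) (by rw [← hL.symm.index_eq_card, hk])
  have hL0 : L = ⊥ := by
    have hKn : K.Normal := inferInstance
    have := PCore.le_pCore (hN := hLn) hLp
    rwa [PCore.pCore_eq_bot_of_normal K h, le_bot_iff] at this
  refine h1 ((map_eq_bot_iff_of_injective _ (C.map π).subtype_injective).mp ?_)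
  rw [← hK', ← hKK', Subgroup.map_eq_bot_iff, hπ, QuotientGroup.ker_mk', ← subgroupOf_eq_top,
    ← hZ, ← hL.sup_eq_top, hL0, sup_bot_eq]

section Model

variable (V : Subgroup G) [V.Normal]

/-- `V ⋊ Aut V`, the home of `G / C_G(V)`. -/
abbrev Model : Type u := ↥V ⋊[MonoidHom.id (MulAut V)] MulAut V

instance Model.finite [Finite G] : Finite (Model V) :=
  have : Finite (MulAut V) := Finite.of_injective (fun s : MulAut V => (s : V → V)) DFunLike.coe_injective
  Finite.of_injective (fun x : Model V => (x.left, x.right)) fun _ _ h =>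
    SemidirectProduct.ext (congrArg Prod.fst h) (congrArg Prod.snd h)

/-- The action as a homomorphism into the model. -/
noncomputable def toModel : G →* Model V :=
  SemidirectProduct.inr.comp MulAut.conjNormal

/-- `V` inside the model. -/
noncomputable def ofV : ↥V →* Model V := SemidirectProduct.inl

theorem ofV_injective : Function.Injective (ofV V) := SemidirectProduct.inl_injective

theorem toModel_conj (g : G) (v : V) :
    toModel V g * ofV V v * (toModel V g)⁻¹ =
      ofV V ⟨g * v * g⁻¹, Subgroup.Normal.conj_mem inferInstance _ v.2 g⟩ := by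
  have h := SemidirectProduct.inl_aut (φ := MonoidHom.id (MulAut V))
    (MulAut.conjNormal g) v
  rw [toModel, ofV, MonoidHom.comp_apply]
  rw [map_inv] at h
  rw [← h]
  congr 1

/-- The image of `V`. -/
noncomputable def modelV : Subgroup (Model V) := (ofV V).range

theorem card_modelV : Nat.card (modelV V) = Nat.card V :=
  (Nat.card_congr (MonoidHom.ofInjective (ofV_injective V)).toEquiv).symm

theorem ker_toModel : (toModel V).ker = centralizer (V : Set G) := by
  ext g
  rw [MonoidHom.mem_ker, toModel, MonoidHom.comp_apply,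
    map_eq_one_iff _ SemidirectProduct.inr_injective, MulEquiv.ext_iff]
  constructor
  · intro h v hv
    have h1 := congrArg Subtype.val (h ⟨v, hv⟩)
    rw [MulAut.conjNormal_apply, MulAut.one_apply, mul_inv_eq_iff_eq_mul] at h1
    exact h1.symm
  · intro h v
    refine Subtype.ext ?_
    rw [MulAut.conjNormal_apply, MulAut.one_apply, mul_inv_eq_iff_eq_mul]
    exact (h (v : G) v.2).symm

theorem inf_centralizer_map_toModel (B : Subgroup G) :
    modelV V ⊓ centralizer (B.map (toModel V) : Set (Model V)) =
      ((V ⊓ centralizer (B : Set G)).subgroupOf V).map (ofV V) := by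
  ext y
  constructor
  · rintro ⟨⟨v, rfl⟩, hy⟩
    refine ⟨v, mem_subgroupOf.mpr (mem_inf.mpr ⟨v.2, fun b hb => ?_⟩), rfl⟩
    have h1 := toModel_conj V b v
    rw [show toModel V b * ofV V v = ofV V v * toModel V b from hy _ ⟨b, hb, rfl⟩,
      mul_inv_cancel_right] at h1
    have h2 := congrArg Subtype.val (ofV_injective V h1)
    rw [eq_mul_inv_iff_mul_eq] at h2
    exact h2.symm
  · rintro ⟨v, hv, rfl⟩
    refine ⟨⟨v, rfl⟩, ?_⟩
    rintro _ ⟨b, hb, rfl⟩
    have h1 := toModel_conj V b v
    have h2 : (b : G) * v * b⁻¹ = v :=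
      mul_inv_eq_iff_eq_mul.mpr ((mem_inf.mp (mem_subgroupOf.mp hv)).2 b hb)
    rw [show (⟨b * v * b⁻¹, Subgroup.Normal.conj_mem inferInstance _ v.2 b⟩ : V) = v from Subtype.ext h2,
      mul_inv_eq_iff_eq_mul] at h1
    exact h1

theorem card_inf_centralizer_map_toModel (B : Subgroup G) :
    Nat.card ↥(modelV V ⊓ centralizer (B.map (toModel V) : Set (Model V))) =
      Nat.card ↥(V ⊓ centralizer (B : Set G)) := by
  rw [inf_centralizer_map_toModel, card_map_of_injective (ofV_injective V)]
  exact Nat.card_congr (subgroupOfEquivOfLe inf_le_left).toEquiv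

theorem card_map_toModel (B : Subgroup G) :
    Nat.card (B.map (toModel V)) * Nat.card ↥(B ⊓ centralizer (V : Set G)) = Nat.card B := by
  rw [← relIndex_ker, ker_toModel, ← inf_relIndex_left, mul_comm, ← relIndex_bot_left,
    relIndex_mul_relIndex _ _ _ bot_le inf_le_left, relIndex_bot_left]

theorem range_toModel_le_normalizer [Finite G] :
    (toModel V).range ≤ normalizer (modelV V : Set (Model V)) := by
  rintro _ ⟨g, rfl⟩
  refine Subnormal.mem_normalizer_of_cj_le ?_
  rintro _ ⟨_, ⟨v, rfl⟩, rfl⟩
  exact ⟨_, (toModel_conj V g v).symm⟩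

theorem range_toModel_inf_centralizer :
    (toModel V).range ⊓ centralizer (modelV V : Set (Model V)) = ⊥ := by
  refine (eq_bot_iff_forall _).mpr fun y hy => ?_
  obtain ⟨⟨g, rfl⟩, hc⟩ := mem_inf.mp hy
  rw [← MonoidHom.mem_ker, ker_toModel]
  intro v hv
  have h1 := toModel_conj V g ⟨v, hv⟩
  rw [← show ofV V ⟨v, hv⟩ * toModel V g = toModel V g * ofV V ⟨v, hv⟩ from hc _ ⟨_, rfl⟩,
    mul_inv_cancel_right] at h1
  have h2 := congrArg Subtype.val (ofV_injective V h1)
  rw [eq_mul_inv_iff_mul_eq] at h2
  exact h2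

theorem isElementaryAbelian_modelV (hV : IsElementaryAbelian p V) :
    IsElementaryAbelian p (modelV V) := by
  refine ⟨PGroup.isMulCommutative_of_forall ?_, ?_⟩
  · rintro _ ⟨v, rfl⟩ _ ⟨w, rfl⟩
    rw [← map_mul, ← map_mul, show v * w = w * v from Subtype.ext (commute_mem hV.1 v.2 w.2)]
  · rintro _ ⟨v, rfl⟩
    rw [← map_pow, show v ^ p = 1 from Subtype.ext (hV.2 _ v.2), map_one]

theorem isBestOffenderOn_map_toModel {A : Subgroup G}
    (hA : IsBestOffenderOn p V A) [Finite G] :
    IsBestOffenderOn p (modelV V) (A.map (toModel V)) := by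
  refine ⟨fun B' hB' => ?_, ?_, ?_⟩
  · set B := A ⊓ B'.comap (toModel V) with hB
    have hBB' : B.map (toModel V) = B' := by
      refine le_antisymm ((map_mono inf_le_right).trans (map_comap_le _ _)) fun y hy => ?_
      obtain ⟨a, ha, rfl⟩ := hB' hy
      exact ⟨a, ⟨ha, hy⟩, rfl⟩
    have hk : B ⊓ centralizer (V : Set G) = A ⊓ centralizer (V : Set G) := by
      refine le_antisymm (inf_le_inf_right _ inf_le_left) (le_inf (le_inf inf_le_left ?_) inf_le_right)
      refine inf_le_right.trans ?_
      rw [← ker_toModel]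
      exact MonoidHom.ker_le_comap _ _
    have h1 := hA.1 B inf_le_left
    rw [← card_map_toModel V B, ← card_map_toModel V A, hBB', hk,
      ← card_inf_centralizer_map_toModel V B, hBB', ← card_inf_centralizer_map_toModel V A] at h1
    refine Nat.le_of_mul_le_mul_right ?_ (Nat.card_pos (α := ↥(A ⊓ centralizer (V : Set G))))
    linarith
  · rw [← map_commutator, map_le_iff_le_comap]
    refine hA.2.1.trans ?_
    rw [← ker_toModel]
    exact MonoidHom.ker_le_comap _ _
  · rintro _ ⟨a, ha, rfl⟩
    rw [← map_pow]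
    have : toModel V (a ^ p) = 1 := by
      rw [← MonoidHom.mem_ker, ker_toModel]; exact hA.2.2 a ha
    rw [this]
    exact one_mem _

variable [Finite G] [Fact p.Prime]

/-- The image of `J(G)` in the setting of the structure theorem. -/
theorem model_gen (hsep : IsPSolvable p G) (hV : IsElementaryAbelian p V)
    (hO : pCore p (G ⧸ centralizer (V : Set G)) = ⊥) :
    Gen p (modelV V) ((thompsonSubgroup p G).map (toModel V)) := by
  set θ := toModel V with hθ
  set H := (thompsonSubgroup p G).map θ with hH
  have hHr : H ≤ θ.range := map_le_range _ _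
  have hHs : IsPSolvable p H := PCore.isPSolvable_of_surjective _ (θ.subgroupMap_surjective _)
    (PCore.isPSolvable_subgroup hsep _)
  have hr : pCore p θ.range = ⊥ := by
    refine (PCore.pCore_eq_bot_congr ?_).mp hO
    exact (QuotientGroup.quotientMulEquivOfEq (ker_toModel V).symm).trans
      (QuotientGroup.quotientKerEquivRange θ)
  have hHn : (H.subgroupOf θ.range).Normal := by
    refine (normal_subgroupOf_iff_le_normalizer hHr).mpr ?_
    rintro _ ⟨g, rfl⟩
    exact le_normalizer_map θ
      ⟨g, (normalizer_eq_top_iff.mpr thompsonSubgroup_normal).ge (mem_top g), rfl⟩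
  have hHO : pCore p H = ⊥ :=
    (PCore.pCore_eq_bot_congr (subgroupOfEquivOfLe hHr)).mp (PCore.pCore_eq_bot_of_normal _ hr)
  refine ⟨⟨isElementaryAbelian_modelV V hV, hHr.trans (range_toModel_le_normalizer V),
    le_bot_iff.mp ((inf_le_inf_right _ hHr).trans (range_toModel_inf_centralizer V).le),
    centralizer_pPrimeCore_le hHs hHO⟩, ?_⟩
  rw [hH, map_le_iff_le_comap, thompsonSubgroup_le_iff]
  intro A hA
  rw [← map_le_iff_le_comap]
  exact le_iSup_of_le ⟨A.map θ, map_mono (le_thompsonSubgroup hA),
    isBestOffenderOn_map_toModel V (isBestOffenderOn_of_max hV hA)⟩ le_rfl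

end Model

end Cfsg.Agent.Offender
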