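import Cfsg.Agent.Lib.Offender.Model
import Cfsg.Agent.Lib.Offender.CoprimeFix

/-!
# An operator group inside the model

For a coprime group `X` normalizing `K`, its image in `Model W`, `W = ⟨Ω₁Z(S) : S⟩` in `K`, normalizes
the copy of `W` and the image of `J(K)`.

* `wSub`, `xi`, `xi_conj_toModel`, `xi_range_le_normalizer_modelV`, `xi_range_le_normalizer_image`
* `exists_lift_fixed`: fixed points of `X` in the image lift to fixed points in `K`
* `five_le_of_not_dvd`
-/

set_option autoImplicit false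

namespace Cfsg.Agent.Offender

open Subgroup
open scoped commutatorElement

universe u

variable {G : Type u} [Group G] {p : ℕ}

/-- `⟨Ω₁(Z(S)) : S Sylow⟩`. -/
abbrev wSub (p : ℕ) (L : Type u) [Group L] : Subgroup L := ⨆ S : Sylow p L, omegaZ p (S : Subgroup L)

instance wSub_normal : (wSub p G).Normal := iSup_omegaZ_normal

theorem map_wSub_le [Finite G] (s : MulAut G) : (wSub p G).map s.toMonoidHom ≤ wSub p G := by
  rw [wSub, Subgroup.map_iSup]
  refine iSup_le fun S => ?_
  rw [map_omegaZ]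
  exact le_iSup (fun T : Sylow p G => omegaZ p (T : Subgroup G)) (s • S)

theorem apply_mem_wSub [Finite G] (s : MulAut G) {w : G} (hw : w ∈ wSub p G) : s w ∈ wSub p G :=
  map_wSub_le s ⟨w, hw, rfl⟩

/-- Restriction of automorphisms to `wSub`. -/
noncomputable def resAut (p : ℕ) (L : Type u) [Group L] [Finite L] :
    MulAut L →* MulAut ↥(wSub p L) where
  toFun s :=
    { toFun := fun w => ⟨s w, apply_mem_wSub s w.2⟩
      invFun := fun w => ⟨s⁻¹ w, apply_mem_wSub s⁻¹ w.2⟩
      left_inv := fun w => Subtype.ext (MulAut.inv_apply_self L s w)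
      right_inv := fun w => Subtype.ext (MulAut.apply_inv_self L s w)
      map_mul' := fun v w => Subtype.ext (map_mul s (v : L) w) }
  map_one' := MulEquiv.ext fun _ => Subtype.ext rfl
  map_mul' _ _ := MulEquiv.ext fun _ => Subtype.ext rfl

variable [Finite G] {K X : Subgroup G} (hXK : X ≤ normalizer (K : Set G))

/-- `X` as automorphisms of `K`. -/
noncomputable def opAut : ↥X →* MulAut K := K.normalizerMonoidHom.comp (inclusion hXK)

theorem coe_opAut (t : X) (g : K) : ((opAut hXK t g : K) : G) = t * g * (t : G)⁻¹ := rfl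

/-- `X` inside the model. -/
noncomputable def xi (p : ℕ) : ↥X →* Model (wSub p K) :=
  SemidirectProduct.inr.comp ((resAut p K).comp (opAut hXK))

theorem xi_conj_toModel (t : X) (g : K) :
    xi hXK p t * toModel (wSub p K) g * (xi hXK p t)⁻¹ = toModel (wSub p K) (opAut hXK t g) := by
  simp only [xi, toModel, MonoidHom.comp_apply]
  rw [← map_inv, ← map_mul, ← map_mul]
  congr 1
  refine MulEquiv.ext fun w => Subtype.ext ?_
  simp only [MulAut.mul_apply, MulAut.conjNormal_apply]
  change opAut hXK t (g * ((opAut hXK t)⁻¹ (w : K)) * g⁻¹) = _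
  rw [map_mul, map_mul, map_inv, MulAut.apply_inv_self]

theorem xi_conj_ofV (t : X) (w : wSub p K) :
    xi hXK p t * ofV (wSub p K) w * (xi hXK p t)⁻¹ =
      ofV (wSub p K) (resAut p K (opAut hXK t) w) := by
  have h := SemidirectProduct.inl_aut (φ := MonoidHom.id (MulAut (wSub p K)))
    (resAut p K (opAut hXK t)) w
  simp only [map_inv] at h
  exact h.symm

theorem xi_range_le_normalizer_modelV :
    (xi hXK p).range ≤ normalizer (modelV (wSub p K) : Set (Model (wSub p K))) := by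
  rintro _ ⟨t, rfl⟩
  refine Subnormal.mem_normalizer_of_cj_le ?_
  rintro _ ⟨_, ⟨w, rfl⟩, rfl⟩
  exact ⟨_, (xi_conj_ofV hXK t w).symm⟩

theorem xi_range_le_normalizer_image :
    (xi hXK p).range ≤ normalizer
      ((thompsonSubgroup p K).map (toModel (wSub p K)) : Set (Model (wSub p K))) := by
  rintro _ ⟨t, rfl⟩
  refine Subnormal.mem_normalizer_of_cj_le ?_
  rintro _ ⟨_, ⟨g, hg, rfl⟩, rfl⟩
  refine ⟨opAut hXK t g, ?_, (xi_conj_toModel hXK t g).symm⟩
  rw [← map_thompsonSubgroup (p := p) (opAut hXK t)]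
  exact mem_map_of_mem _ hg

variable [Fact p.Prime] {q : ℕ} [Fact q.Prime]

theorem isPGroup_xi_range (hX : IsPGroup q X) : IsPGroup q (xi hXK p).range :=
  hX.of_surjective _ (xi hXK p).rangeRestrict_surjective

/-- A fixed point of `X` in the image comes from a fixed point in `K`. -/
theorem exists_lift_fixed (hX : IsMulCommutative X) (hcop : (Nat.card X).Coprime (Nat.card K)) (g : K)
    (hg : toModel (wSub p K) g ∈ centralizer ((xi hXK p).range : Set (Model (wSub p K)))) :
    ∃ g' : K, (g' : G) ∈ centralizer (X : Set G) ∧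
      toModel (wSub p K) g' = toModel (wSub p K) g := by
  set θ := toModel (wSub p K) with hθ
  set N := θ.ker.map K.subtype with hN
  have hNK : N ≤ K := map_subtype_le _
  have hXN : X ≤ normalizer (N : Set G) := by
    intro t ht
    refine Subnormal.mem_normalizer_of_cj_le ?_
    rintro _ ⟨_, ⟨k, hk, rfl⟩, rfl⟩
    refine ⟨opAut hXK ⟨t, ht⟩ k, ?_, rfl⟩
    rw [SetLike.mem_coe, MonoidHom.mem_ker, hθ, ← xi_conj_toModel, ← hθ, MonoidHom.mem_ker.mp hk,
      mul_one, mul_inv_cancel]
  have hfix : ∀ t ∈ X, (g : G)⁻¹ * t * g * t⁻¹ ∈ N := by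
    intro t ht
    refine ⟨g⁻¹ * opAut hXK ⟨t, ht⟩ g, ?_, ?_⟩
    · rw [SetLike.mem_coe, MonoidHom.mem_ker, map_mul, map_inv, hθ, ← xi_conj_toModel, ← hθ,
        show xi hXK p ⟨t, ht⟩ * θ g = θ g * xi hXK p ⟨t, ht⟩ from hg _ ⟨_, rfl⟩,
        mul_inv_cancel_right, inv_mul_cancel]
    · rw [Subgroup.coe_subtype, Subgroup.coe_mul, Subgroup.coe_inv, coe_opAut]
      group
  have hs : Group.IsSolvable X := Group.isSolvable_of_comm fun u v => hX.is_comm.comm u v
  obtain ⟨n, hn, hgn⟩ := Coprime.exists_mul_mem_centralizer (A := X) (N := N) hXN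
    (hcop.coprime_dvd_right (card_dvd_of_le hNK)) (Or.inl hs) hfix
  obtain ⟨n', hn', rfl⟩ := hn
  refine ⟨g * n', by simpa using hgn, ?_⟩
  rw [map_mul, MonoidHom.mem_ker.mp hn', mul_one]

/-- A factor of the structure theorem in the model forces `q ≥ 5` and `q ≠ p`. -/
theorem five_le_of_not_dvd {L : Type u} [Group L] [Finite L] {Γ : Type u} [Group Γ] [Finite Γ]
    {V H A : Subgroup Γ} {a e x : Γ} (P : Pair p V H A a e x) (f : L →* Γ) (hH : H ≤ f.range)
    (hq : ¬ q ∣ Nat.card L) : 5 ≤ q ∧ q ≠ p ∧ ¬ q ∣ Nat.card ↥(eSub p H A) := by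
  have hdvd : Nat.card ↥(eSub p H A) ∣ Nat.card L :=
    (card_dvd_of_le ((eSub_le P.le).trans hH)).trans (card_range_dvd f)
  obtain ⟨θ⟩ := P.exists_iso
  have hcard : Nat.card ↥(eSub p H A) = p * (p ^ 2 - 1) := by
    rw [P.eSub_eq, Nat.card_congr θ.toEquiv, GL.card_SL2, ZMod.card]
  have hq' : ¬ q ∣ Nat.card ↥(eSub p H A) := fun h => hq (h.trans hdvd)
  rw [hcard] at hq'
  have h6 : 6 ∣ p * (p ^ 2 - 1) := by rcases P.p_eq_two_or_three with rfl | rfl <;> norm_num
  have h2 : q ≠ 2 := fun h => hq' ((h ▸ by norm_num : q ∣ 6).trans h6)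
  have h3 : q ≠ 3 := fun h => hq' ((h ▸ by norm_num : q ∣ 6).trans h6)
  have h4 : q ≠ 4 := fun h => absurd (h ▸ (Fact.out : q.Prime)) (by decide)
  have h5 := (Fact.out : q.Prime).two_le
  refine ⟨by omega, ?_, hcard ▸ hq'⟩
  rcases P.p_eq_two_or_three with rfl | rfl <;> assumption

end Cfsg.Agent.Offender
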