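import Cfsg.Agent.Lib.Offender.Replacement
import Cfsg.Agent.Lib.Offender.Factorization
import Cfsg.Agent.Lib.Subnormal.Join
import Cfsg.Agent.Lib.PGroup.Basic
import Cfsg.Agent.Lib.LocalStructure.Basic

/-!
# A quadratic offender yields two transvection-like elements on a four-group (p = 2)

`TwoFF.exists_plane`: let a Sylow 2-subgroup `T` of `X` lie in a unique maximal subgroup `M` of `X`, let
`f ∈ V` be fixed by `T` with `V = ⟨f^X⟩`, and let `A ≤ T` be a nontrivial quadratic best offender on `V`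
whose conjugates in `M` fix an `M`-invariant `F ∋ f` pointwise.  Then some `a, b ∈ X` act as
`w ↦ w v`, `v ↦ v w` on a four-group `{1, v, w, v w}`.  No solvability or classification is used.
-/

set_option autoImplicit false

namespace Cfsg.Agent.Offender

open Subgroup Subnormal
open scoped commutatorElement

universe u

variable {G : Type u} [Group G]

/-- Two elements of `X` inducing `S₃` on a four-subgroup of `V`. -/
def HasPlane (V X : Subgroup G) : Prop :=
  ∃ a ∈ X, ∃ b ∈ X, ∃ v ∈ V, ∃ w ∈ V, v ≠ 1 ∧ Commute a v ∧ Commute b w ∧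
    a * w * a⁻¹ = v * w ∧ b * v * b⁻¹ = w * v

theorem HasPlane.mono {U V H X : Subgroup G} (hUV : U ≤ V) (hHX : H ≤ X) (h : HasPlane U H) :
    HasPlane V X := by
  obtain ⟨a, ha, b, hb, v, hv, w, hw, h⟩ := h
  exact ⟨a, hHX ha, b, hHX hb, v, hUV hv, w, hUV hw, h⟩

/-- The setting. -/
structure TwoFF (V X T A M F : Subgroup G) (f : G) : Prop where
  hV : IsElementaryAbelian 2 V
  hXV : X ≤ normalizer (V : Set G)
  hTX : T ≤ X
  hT : IsPGroup 2 T
  hTi : ¬ 2 ∣ T.relIndex X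
  hAT : A ≤ T
  hbest : ∀ B ≤ A, Nat.card B * Nat.card ↥(V ⊓ centralizer (B : Set G)) ≤
    Nat.card A * Nat.card ↥(V ⊓ centralizer (A : Set G))
  hquad : ⁅⁅V, A⁆, A⁆ = ⊥
  hne : ¬ A ≤ centralizer (V : Set G)
  hfV : f ∈ V
  hfT : T ≤ centralizer ({f} : Set G)
  hfX : ¬ X ≤ centralizer ({f} : Set G)
  hgen : V ≤ closure {y | ∃ x ∈ X, y = x * f * x⁻¹}
  hMX : M < X
  hTM : T ≤ M
  huniq : ∀ H : Subgroup G, H < X → T ≤ H → H ≤ M
  hMF : M ≤ normalizer (F : Set G)
  hfF : f ∈ F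
  hFV : F ≤ V
  hFA : ∀ z ∈ X, cj z A ≤ M → cj z A ≤ centralizer (F : Set G)

/-! ### Sylow subgroups inside a subgroup -/

section Sylow

variable [Finite G]

theorem exists_sylow_above {H T₁ : Subgroup G} (h1 : T₁ ≤ H) (h2 : IsPGroup 2 T₁) :
    ∃ R, T₁ ≤ R ∧ R ≤ H ∧ IsPGroup 2 R ∧ ¬ 2 ∣ R.relIndex H := by
  haveI : Fact (Nat.Prime 2) := ⟨Nat.prime_two⟩
  obtain ⟨P, hP⟩ := (h2.comap_of_injective H.subtype H.subtype_injective :
    IsPGroup 2 (T₁.subgroupOf H)).exists_le_sylow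
  refine ⟨(P : Subgroup H).map H.subtype, ?_, map_subtype_le _, P.2.map _, ?_⟩
  · intro x hx
    exact ⟨⟨x, h1 hx⟩, hP hx, rfl⟩
  · rw [relIndex, ← comap_subtype, comap_map_eq_self_of_injective H.subtype_injective]
    exact P.not_dvd_index

theorem exists_cj_le {H T₁ Q : Subgroup G} (h1 : T₁ ≤ H) (h2 : IsPGroup 2 T₁)
    (h3 : ¬ 2 ∣ T₁.relIndex H) (hQH : Q ≤ H) (hQ : IsPGroup 2 Q) : ∃ h ∈ H, cj h Q ≤ T₁ := by
  haveI : Fact (Nat.Prime 2) := ⟨Nat.prime_two⟩
  set S : Sylow 2 H := (h2.comap_of_injective H.subtype H.subtype_injective :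
    IsPGroup 2 (T₁.subgroupOf H)).toSylow h3 with hS
  obtain ⟨P, hP⟩ := (hQ.comap_of_injective H.subtype H.subtype_injective :
    IsPGroup 2 (Q.subgroupOf H)).exists_le_sylow
  obtain ⟨h, hh⟩ := MulAction.exists_smul_eq H P S
  refine ⟨h, h.2, ?_⟩
  rintro _ ⟨q, hq, rfl⟩
  have hm : MulAut.conj h (⟨q, hQH hq⟩ : H) ∈ ((h • P : Sylow 2 H) : Subgroup H) := by
    rw [Sylow.coe_subgroup_smul]
    exact Subgroup.smul_mem_pointwise_smul _ (MulAut.conj h) _ (hP hq)
  rw [hh] at hm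
  exact hm

theorem lt_inf_normalizer {T₁ R : Subgroup G} (hR : IsPGroup 2 R) (hlt : T₁ < R) :
    T₁ < R ⊓ normalizer (T₁ : Set G) := by
  haveI : Fact (Nat.Prime 2) := ⟨Nat.prime_two⟩
  refine lt_of_le_of_ne (le_inf hlt.le le_normalizer) fun heq => ?_
  have hlt' : T₁.subgroupOf R < ⊤ := lt_top_iff_ne_top.mpr fun h =>
    hlt.ne (le_antisymm hlt.le (subgroupOf_eq_top.mp h))
  obtain ⟨⟨y, hyR⟩, hy, hyn⟩ := SetLike.exists_of_lt (PGroup.lt_normalizer hR hlt'.ne)
  rw [← subgroupOf_normalizer_eq hlt.le, mem_subgroupOf] at hy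
  exact hyn (mem_subgroupOf.mpr (heq.ge ⟨hyR, hy⟩))

end Sylow

theorem relIndex_dvd_of_le_left' {T M X : Subgroup G} (h1 : T ≤ M) (h2 : M ≤ X) :
    T.relIndex M ∣ T.relIndex X :=
  ⟨M.relIndex X, (relIndex_mul_relIndex T M X h1 h2).symm⟩

section Main

variable {V X T A M F : Subgroup G} {f : G} (h : TwoFF V X T A M F f)
include h

/-- An element of `X` fixing every conjugate of `f` centralizes `V`. -/
theorem TwoFF.mem_centralizer_of_forall {y : G}
    (hy : ∀ x ∈ X, Commute y (x * f * x⁻¹)) : y ∈ centralizer (V : Set G) := by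
  have hle : V ≤ centralizer ({y} : Set G) := h.hgen.trans ((closure_le _).mpr (by
    rintro _ ⟨x, hx, rfl⟩
    exact mem_centralizer_singleton_iff.mpr (hy x hx).eq.symm))
  exact fun v hv => mem_centralizer_singleton_iff.mp (hle hv)

/-- A subgroup normalized by `X` fixing `f` centralizes `V`. -/
theorem TwoFF.le_centralizer_of_normalized {R : Subgroup G} (hR : X ≤ normalizer (R : Set G))
    (hf : R ≤ centralizer ({f} : Set G)) : R ≤ centralizer (V : Set G) := fun r hr =>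
  h.mem_centralizer_of_forall fun x hx => by
    have hr' : x⁻¹ * r * x ∈ R := by
      simpa using (mem_normalizer_iff.mp (hR (inv_mem hx)) r).mp hr
    have := (mem_centralizer_singleton_iff.mp (hf hr') : x⁻¹ * r * x * f = f * (x⁻¹ * r * x))
    calc r * (x * f * x⁻¹) = x * (x⁻¹ * r * x * f) * x⁻¹ := by group
      _ = x * (f * (x⁻¹ * r * x)) * x⁻¹ := by rw [this]
      _ = x * f * x⁻¹ * r := by group

theorem TwoFF.fix_le : X ⊓ centralizer ({f} : Set G) ≤ M :=
  h.huniq _ (lt_of_le_of_ne inf_le_left fun he => h.hfX (inf_eq_left.mp he)) (le_inf h.hTX h.hfT)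

theorem TwoFF.cj_ne {z : G} (hz : z ∈ X) : ¬ cj z A ≤ centralizer (V : Set G) := fun hle => h.hne fun a ha v hv => by
  have h1 : z * a * z⁻¹ ∈ centralizer (V : Set G) := hle (conj_mem_cj ha)
  have h2 := h1 (z * v * z⁻¹) ((mem_normalizer_iff.mp (h.hXV hz) v).mp hv)
  exact mul_left_cancel (a := z) (mul_right_cancel (b := z⁻¹) (by simpa [mul_assoc] using h2))

theorem TwoFF.normalizer_T_le : X ⊓ normalizer (T : Set G) ≤ M := by
  refine h.huniq _ (lt_of_le_of_ne inf_le_left fun he => h.hne (h.hAT.trans ?_)) (le_inf h.hTX le_normalizer)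
  exact h.le_centralizer_of_normalized (inf_eq_left.mp he) h.hfT

theorem TwoFF.cj_le_X {z : G} (hz : z ∈ X) {B : Subgroup G} (hB : B ≤ X) : cj z B ≤ X :=
  (cj_mono hB).trans (cj_eq_of_mem hz).le

variable [Finite G]

theorem TwoFF.mem_of_normalizes {g : G} (hg : g ∈ X) (hM : cj g M = M) : g ∈ M := by
  obtain ⟨m, hm, hmg⟩ := exists_cj_le h.hTM h.hT (fun hd => h.hTi (hd.trans
    (relIndex_dvd_of_le_left' h.hTM h.hMX.le))) (show cj g T ≤ M from hM ▸ cj_mono h.hTM) (h.hT.map _)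
  rw [← cj_mul] at hmg
  have h1 : m * g ∈ M :=
    h.normalizer_T_le (mem_inf.mpr ⟨mul_mem (h.hMX.le hm) hg, mem_normalizer_of_cj_le hmg⟩)
  simpa [← mul_assoc] using mul_mem (inv_mem hm) h1

/-- Either there is a plane, or every proper subgroup containing a conjugate of `A` in `T` lies in `M`. -/
theorem TwoFF.le_of_contains
    (ih : ∀ (V' X' T' A' M' F' : Subgroup G) (f' : G), Nat.card X' < Nat.card X →
      TwoFF V' X' T' A' M' F' f' → HasPlane V' X')
    (hno : ¬ HasPlane V X) {H : Subgroup G} (hH : H < X) {z : G} (hz : z ∈ X)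
    (hzT : cj z A ≤ T) (hzH : cj z A ≤ H) : H ≤ M := by
  haveI : Fact (Nat.Prime 2) := ⟨Nat.prime_two⟩
  by_contra hbad
  -- choose a bad subgroup with large intersection with `T`
  obtain ⟨H, ⟨hH, z, hz, hzT, hzH, hbad⟩, hmax⟩ := Set.exists_max_image
    {K : Subgroup G | K < X ∧ ∃ z ∈ X, cj z A ≤ T ∧ cj z A ≤ K ∧ ¬ K ≤ M}
    (fun K => Nat.card ↥(T ⊓ K)) (Set.toFinite _) ⟨H, hH, z, hz, hzT, hzH, hbad⟩
  set T₁ := T ⊓ H with hT₁
  have hT₁2 : IsPGroup 2 T₁ := h.hT.to_le inf_le_left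
  have hzT₁ : cj z A ≤ T₁ := le_inf hzT hzH
  have hbig : ∀ K, K < X → cj z A ≤ K → T₁ < T ⊓ K → K ≤ M := fun K hK hzK hlt => by
    by_contra hKM
    have h1 := hmax K ⟨hK, z, hz, hzT, hzK, hKM⟩
    exact hlt.ne (eq_of_le_of_card_ge hlt.le h1)
  have hTH : T₁ ≠ T := fun he => hbad (h.huniq H hH (he ▸ inf_le_right))
  have hgrow : ∀ (K : Subgroup G), T ⊓ normalizer (T₁ : Set G) ≤ K → K < X → cj z A ≤ K → K ≤ M :=
    fun K hK hKX hzK => hbig K hKX hzK
      ((lt_inf_normalizer h.hT (lt_of_le_of_ne inf_le_left hTH)).trans_le (le_inf inf_le_left hK))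
  have hproper : ∀ J : Subgroup G, J ≤ T → (∃ z ∈ X, cj z A ≤ J) → X ⊓ normalizer (J : Set G) < X := by
    intro J hJT ⟨y, hy, hyJ⟩
    refine lt_of_le_of_ne inf_le_left fun he => h.cj_ne hy (hyJ.trans ?_)
    exact h.le_centralizer_of_normalized (inf_eq_left.mp he) (hJT.trans h.hfT)
  have hNT₁ : X ⊓ normalizer (T₁ : Set G) ≤ M :=
    hgrow _ (inf_le_inf_right _ h.hTX) (hproper T₁ inf_le_left ⟨z, hz, hzT₁⟩)
      (le_inf (h.cj_le_X hz (h.hAT.trans h.hTX)) (hzT₁.trans le_normalizer))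
  -- `T₁` is a Sylow subgroup of `H ⊓ M`
  have hSylM : ¬ 2 ∣ T₁.relIndex (H ⊓ M) := by
    obtain ⟨R, hTR, hRH, hR, hRi⟩ := exists_sylow_above (le_inf inf_le_right (inf_le_left.trans h.hTM) :
      T₁ ≤ H ⊓ M) hT₁2
    rcases hTR.eq_or_lt with he | hlt
    · exact (congrArg (fun K : Subgroup G => ¬ 2 ∣ K.relIndex _) he).mpr hRi
    exfalso
    obtain ⟨m, hm, hmR⟩ := exists_cj_le h.hTM h.hT (fun hd => h.hTi (hd.trans
      (relIndex_dvd_of_le_left' h.hTM h.hMX.le))) (hRH.trans inf_le_right) hR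
    have hmX := h.hMX.le hm
    have h1 := hmax (cj m H) ⟨lt_of_le_of_ne (h.cj_le_X hmX hH.le) fun he => hH.ne (cj_injective m
        (he.trans (cj_eq_of_mem hmX).symm)), m * z, mul_mem hmX hz,
      by rw [cj_mul]; exact (cj_mono (hzT₁.trans hTR)).trans hmR,
      by rw [cj_mul]; exact cj_mono hzH,
      fun hle => hbad (fun y hy => by
        have := mul_mem (mul_mem (inv_mem hm) (hle (conj_mem_cj hy))) hm
        simpa [mul_assoc] using this)⟩
    have h2 : cj m R ≤ T ⊓ cj m H := le_inf hmR (cj_mono (hRH.trans inf_le_left))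
    have h3 : Nat.card (cj m R) = Nat.card R := card_map_of_injective (MulAut.conj m).injective
    have h4 : Nat.card T₁ < Nat.card R := lt_of_le_of_ne (card_le_of_le hlt.le) fun he =>
      hlt.ne (eq_of_le_of_card_ge hlt.le he.ge)
    have h5 := card_le_of_le h2
    omega
  -- hence of `H`
  have hSyl : ¬ 2 ∣ T₁.relIndex H := by
    obtain ⟨R, hTR, hRH, hR, hRi⟩ := exists_sylow_above (inf_le_right : T₁ ≤ H) hT₁2
    rcases hTR.eq_or_lt with he | hlt
    · exact (congrArg (fun K : Subgroup G => ¬ 2 ∣ K.relIndex _) he).mpr hRi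
    exfalso
    set R' := R ⊓ normalizer (T₁ : Set G) with hR'
    have hlt' := lt_inf_normalizer hR hlt
    have hR'M : R' ≤ H ⊓ M := le_inf (inf_le_left.trans hRH)
      ((le_inf (inf_le_left.trans (hRH.trans hH.le)) inf_le_right).trans hNT₁)
    obtain ⟨y, hy, hyR⟩ := exists_cj_le (le_inf inf_le_right (inf_le_left.trans h.hTM) : T₁ ≤ H ⊓ M)
      hT₁2 hSylM hR'M (hR.to_le inf_le_left)
    have h1 := card_le_of_le hyR
    rw [card_map_of_injective (MulAut.conj y).injective] at h1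
    exact hlt'.ne (eq_of_le_of_card_ge hlt'.le h1)
  -- a minimal subgroup above `T₁` outside `M`
  obtain ⟨P, ⟨hT₁P, hPH, hPM⟩, hPmin⟩ := (Set.toFinite
    {P : Subgroup G | T₁ ≤ P ∧ P ≤ H ∧ ¬ P ≤ M}).exists_minimal ⟨H, inf_le_right, le_rfl, hbad⟩
  have hPX : P ≤ X := hPH.trans hH.le
  have hPi : ¬ 2 ∣ T₁.relIndex P := fun hd => hSyl (hd.trans (relIndex_dvd_of_le_left' hT₁P hPH))
  set U := closure {y | ∃ x ∈ P, y = x * f * x⁻¹} with hU
  have hUV : U ≤ V := (closure_le _).mpr (by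
    rintro _ ⟨x, hx, rfl⟩
    exact (mem_normalizer_iff.mp (h.hXV (hPX hx)) f).mp h.hfV)
  have hPU : P ≤ normalizer (U : Set G) := by
    intro y hy
    refine mem_normalizer_of_cj_le ?_
    rw [cj, hU, MonoidHom.map_closure, closure_le]
    rintro _ ⟨_, ⟨x, hx, rfl⟩, rfl⟩
    exact subset_closure ⟨y * x, mul_mem hy hx, by simp [mul_assoc]⟩
  have hfU : f ∈ U := subset_closure ⟨1, one_mem _, by simp⟩
  -- some conjugate of `A` in `T₁` moves `U`
  obtain ⟨y, hy, hyT₁, hyU⟩ : ∃ y ∈ X, cj y A ≤ T₁ ∧ ¬ cj y A ≤ centralizer (U : Set G) := by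
    by_contra hcon
    push Not at hcon
    set J := ⨆ y : {y : G // y ∈ X ∧ cj y A ≤ T₁}, cj y.1 A with hJ
    have hJT₁ : J ≤ T₁ := iSup_le fun y => y.2.2
    have hzJ : cj z A ≤ J := le_iSup (fun y : {y : G // y ∈ X ∧ cj y A ≤ T₁} => cj y.1 A) ⟨z, hz, hzT₁⟩
    have hJn : ∀ n ∈ X, (∀ y ∈ X, cj y A ≤ T₁ → cj (n * y) A ≤ T₁) → n ∈ normalizer (J : Set G) := by
      intro n hn hpres
      refine mem_normalizer_of_cj_le ?_
      rw [cj, hJ, Subgroup.map_iSup]
      refine iSup_le fun y => ?_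
      have h1 := hpres y.1 y.2.1 y.2.2
      change cj n (cj y.1 A) ≤ J
      rw [← cj_mul]
      exact le_iSup (fun y : {y : G // y ∈ X ∧ cj y A ≤ T₁} => cj y.1 A) ⟨n * y.1, mul_mem hn y.2.1, h1⟩
    have hNJ : X ⊓ normalizer (J : Set G) ≤ M := by
      refine hgrow _ (le_inf (inf_le_left.trans h.hTX) fun n hn => ?_)
        (hproper J (hJT₁.trans inf_le_left) ⟨z, hz, hzJ⟩)
        (le_inf (h.cj_le_X hz (h.hAT.trans h.hTX)) (hzJ.trans le_normalizer))
      refine hJn n (h.hTX hn.1) fun y _ hyT => ?_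
      rw [cj_mul, ← cj_eq_of_mem_normalizer hn.2]
      exact cj_mono hyT
    set K := P ⊓ centralizer (U : Set G) with hK
    have hKn : (K.subgroupOf P).Normal := by
      refine (normal_subgroupOf_iff_le_normalizer inf_le_left).mpr ?_
      exact LocalStructure.le_normalizer_inf le_normalizer
        (LocalStructure.le_normalizer_centralizer hPU)
    let S : Sylow 2 P := (hT₁2.comap_of_injective P.subtype P.subtype_injective :
      IsPGroup 2 (T₁.subgroupOf P)).toSylow hPi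
    obtain ⟨Q, hQ⟩ := exists_sylow_eq_inf S (K.subgroupOf P)
    have htop := Q.normalizer_sup_eq_top (N := K.subgroupOf P)
    rw [hQ] at htop
    refine hPM fun g hg => ?_
    have hmem := htop.ge (mem_top (⟨g, hg⟩ : P))
    obtain ⟨n, hn, k, hk, hnk⟩ := mem_sup_of_normal_right.mp hmem
    have hg' : g = (n : G) * k := (congrArg Subtype.val hnk).symm
    rw [hg']
    refine mul_mem (hNJ ⟨hPX n.2, hJn _ (hPX n.2) fun y hy hyT => ?_⟩) ?_
    · rw [cj_mul]
      rintro _ ⟨u, hu, rfl⟩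
      have huK : u ∈ K := ⟨hT₁P (hyT hu), hcon y hy hyT hu⟩
      have hu' : (⟨u, hT₁P (hyT hu)⟩ : P) ∈ (S : Subgroup P) ⊓ K.subgroupOf P := ⟨hyT hu, huK⟩
      exact ((mem_normalizer_iff.mp hn _).mp hu').1
    · have hk' : (k : G) ∈ centralizer (U : Set G) := (mem_inf.mp (mem_subgroupOf.mp hk)).2
      exact h.fix_le ⟨hPX k.2, mem_centralizer_singleton_iff.mpr (hk' f hfU).symm⟩
  -- the smaller configuration
  have hcard : Nat.card P < Nat.card X :=
    lt_of_le_of_lt (card_le_of_le hPH) (lt_of_le_of_ne (card_le_of_le hH.le) fun he =>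
      hH.ne (eq_of_le_of_card_ge hH.le he.ge))
  refine hno ((ih U P T₁ (cj y A) (M ⊓ P) (F ⊓ U) f hcard
    { hV := PGroup.isElementaryAbelian_mono h.hV hUV
      hXV := hPU
      hTX := hT₁P
      hT := hT₁2
      hTi := hPi
      hAT := hyT₁
      hbest := ?_
      hquad := ?_
      hne := hyU
      hfV := hfU
      hfT := inf_le_left.trans h.hfT
      hfX := fun hle => hPM fun g hg => h.fix_le ⟨hPX hg, hle hg⟩
      hgen := le_rfl
      hMX := lt_of_le_of_ne inf_le_right fun he => hPM (inf_eq_right.mp he)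
      hTM := le_inf (inf_le_left.trans h.hTM) hT₁P
      huniq := fun K hK hTK => le_inf (by
        by_contra hKM
        exact hK.not_ge (hPmin ⟨hTK, hK.le.trans hPH, hKM⟩ hK.le)) hK.le
      hMF := LocalStructure.le_normalizer_inf (inf_le_left.trans h.hMF) (inf_le_right.trans hPU)
      hfF := ⟨h.hfF, hfU⟩
      hFV := inf_le_right
      hFA := fun x hx hle => ?_ }).mono hUV hPX)
  · intro B hB
    set A' := cj y A with hA'
    -- the inequality on `V`, moved to `A'`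
    have hVA' : Nat.card B * Nat.card ↥(V ⊓ centralizer (B : Set G)) ≤
        Nat.card A' * Nat.card ↥(V ⊓ centralizer (A' : Set G)) := by
      have hcent : ∀ C : Subgroup G, cj y (V ⊓ centralizer (C : Set G)) =
          V ⊓ centralizer ((cj y C : Subgroup G) : Set G) := fun C => by
        rw [cj, Subgroup.map_inf _ _ _ (MulEquiv.injective _), map_centralizer_equiv]
        congr 1
        exact cj_eq_of_mem_normalizer (h.hXV hy)
      have h1 := h.hbest (cj y⁻¹ B) (by rw [← cj_inv_cj y A]; exact cj_mono hB)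
      have h2 : ∀ C : Subgroup G, Nat.card (cj y C) = Nat.card C := fun C =>
        card_map_of_injective (MulAut.conj y).injective
      rw [← h2 (cj y⁻¹ B), ← h2 A, ← h2 (V ⊓ _), ← h2 (V ⊓ centralizer (A : Set G)), hcent, hcent,
        cj_cj_inv] at h1
      exact h1
    set Z := V ⊓ centralizer (A' : Set G)
    set Y := U ⊓ centralizer (B : Set G)
    have hZn : Y ≤ normalizer (Z : Set G) := fun u hu => centralizer_le_normalizer _ fun z hz =>
      commute_mem h.hV.1 hz.1 (hUV hu.1)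
    have hYZ : Y ⊔ Z ≤ V ⊓ centralizer (B : Set G) :=
      sup_le (inf_le_inf_right _ hUV) (inf_le_inf_left _ (centralizer_le (SetLike.coe_subset_coe.mpr hB)))
    have hint : Y ⊓ Z = U ⊓ centralizer (A' : Set G) := by
      refine le_antisymm (fun u hu => ⟨hu.1.1, hu.2.2⟩) fun u hu => ?_
      exact ⟨⟨hu.1, centralizer_le (SetLike.coe_subset_coe.mpr hB) hu.2⟩, hUV hu.1, hu.2⟩
    have hc := card_sup_mul_card_inf hZn
    rw [hint] at hc
    refine Nat.le_of_mul_le_mul_right ?_ (Nat.card_pos (α := Z))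
    calc Nat.card B * Nat.card Y * Nat.card Z
        = Nat.card B * (Nat.card ↥(Y ⊔ Z) * Nat.card ↥(U ⊓ centralizer (A' : Set G))) := by rw [hc]; ring
      _ ≤ Nat.card B * (Nat.card ↥(V ⊓ centralizer (B : Set G)) * Nat.card ↥(U ⊓ centralizer (A' : Set G))) := by
          gcongr; exact card_le_of_le hYZ
      _ = Nat.card B * Nat.card ↥(V ⊓ centralizer (B : Set G)) * Nat.card ↥(U ⊓ centralizer (A' : Set G)) := by ring
      _ ≤ Nat.card A' * Nat.card Z * Nat.card ↥(U ⊓ centralizer (A' : Set G)) := Nat.mul_le_mul_right _ hVA'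
      _ = _ := by ring
  · refine le_bot_iff.mp ?_
    calc ⁅⁅U, cj y A⁆, cj y A⁆ ≤ ⁅⁅cj y V, cj y A⁆, cj y A⁆ :=
          commutator_mono (commutator_mono (hUV.trans (cj_eq_of_mem_normalizer (h.hXV hy)).ge) le_rfl) le_rfl
      _ = cj y ⁅⁅V, A⁆, A⁆ := by rw [cj, cj, cj, map_commutator, map_commutator]
      _ = ⊥ := by rw [h.hquad, cj, Subgroup.map_bot]
  · rw [← cj_mul] at hle ⊢
    exact (h.hFA _ (mul_mem (hPX hx) hy) (hle.trans inf_le_left)).trans
      (centralizer_le (SetLike.coe_subset_coe.mpr inf_le_left))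

/-- The main theorem, given it for smaller groups. -/
theorem TwoFF.exists_plane_step
    (ih : ∀ (V' X' T' A' M' F' : Subgroup G) (f' : G), Nat.card X' < Nat.card X →
      TwoFF V' X' T' A' M' F' f' → HasPlane V' X') : HasPlane V X := by
  haveI : Fact (Nat.Prime 2) := ⟨Nat.prime_two⟩
  by_contra hno
  have hAX : A ≤ X := h.hAT.trans h.hTX
  have hAV : A ≤ normalizer (V : Set G) := hAX.trans h.hXV
  have hcjX : ∀ {y : G}, y ∈ X → ∀ {B : Subgroup G}, B < X → cj y B < X := fun {y} hy {B} hB =>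
    lt_of_le_of_ne (h.cj_le_X hy hB.le) fun he => hB.ne (cj_injective y (he.trans (cj_eq_of_mem hy).symm))
  -- `M` is the only maximal subgroup over each conjugate of `A` it contains
  have hcl : ∀ y ∈ X, cj y A ≤ M → y ∈ M := by
    intro y hy hyM
    obtain ⟨m, hm, hmT⟩ := exists_cj_le h.hTM h.hT (fun hd => h.hTi (hd.trans
      (relIndex_dvd_of_le_left' h.hTM h.hMX.le))) hyM ((h.hT.to_le h.hAT).map _)
    rw [← cj_mul] at hmT
    have hmy := mul_mem (h.hMX.le hm) hy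
    have h1 := h.le_of_contains ih hno (hcjX hmy h.hMX) hmy hmT (cj_mono (h.hAT.trans h.hTM))
    have h2 := h.mem_of_normalizes hmy (eq_of_cj_le h1)
    simpa [← mul_assoc] using mul_mem (inv_mem hm) h2
  have hloc : ∀ g ∈ X, ∀ H < X, cj g A ≤ H → H ≤ cj g M := by
    intro g hg H hH hgH
    have h1 := h.le_of_contains ih hno (hcjX (inv_mem hg) hH) (one_mem X) (by simpa using h.hAT)
      (by simpa [cj_inv_cj] using cj_mono (g := g⁻¹) hgH)
    rw [← cj_cj_inv g H]
    exact cj_mono h1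
  -- `C_X` fixes
  set Z := V ⊓ centralizer (A : Set G) with hZ
  have hFZ : F ≤ Z := le_inf h.hFV (le_centralizer_iff.mp
    (by simpa using h.hFA 1 (one_mem _) (by simpa using h.hAT.trans h.hTM)))
  -- commutators inside `V`
  have hcomV : ∀ {x v : G}, x ∈ X → v ∈ V → ⁅x, v⁆ ∈ V := fun {x v} hx hv => by
    rw [commutatorElement_def]
    exact mul_mem ((mem_normalizer_iff.mp (h.hXV hx) v).mp hv) (inv_mem hv)
  have hWA : ∀ g ∈ X, ∀ a ∈ cj g A, ∀ v ∈ V, ⁅a, v⁆ ∈ cj g Z := by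
    rintro g hg _ ⟨a, ha, rfl⟩ v hv
    have hv' : g⁻¹ * v * g ∈ V := by simpa using (mem_normalizer_iff.mp (h.hXV (inv_mem hg)) v).mp hv
    have h1 : ⁅a, g⁻¹ * v * g⁆ ∈ Z := by
      refine ⟨hcomV (hAX ha) hv', fun b hb => ?_⟩
      exact ((le_centralizer_commutator_of_quadratic h.hquad hb) _
        (commutator_comm A V ▸ commutator_mem_commutator ha hv')).symm
    have h2 := conj_mem_cj (g := g) h1
    convert h2 using 1
    simp only [MulEquiv.coe_toMonoidHom, MulAut.conj_apply, commutatorElement_def]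
    group
  -- choose the partner
  let K : G → Set G := fun g => {a | a ∈ A ∧ ⁅a, g * f * g⁻¹⁆ ∈ V ⊓ centralizer (X : Set G)}
  have hnonempty : {g | g ∈ X ∧ g ∉ M}.Nonempty := by
    obtain ⟨g, hg, hgM⟩ := SetLike.exists_of_lt h.hMX
    exact ⟨g, hg, hgM⟩
  obtain ⟨g, ⟨hg, hgM⟩, hgmin⟩ := Set.exists_min_image {g | g ∈ X ∧ g ∉ M}
    (fun g => (K g).ncard) (Set.toFinite _) hnonempty
  set A' := cj g A with hA'
  set Z' := cj g Z with hZ'
  have hA'X : A' ≤ X := h.cj_le_X hg hAX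
  have hgen : X ≤ A ⊔ A' := by
    by_contra hlt
    have hlt' : A ⊔ A' < X := lt_of_le_of_ne (sup_le hAX hA'X) fun he => hlt he.ge
    have := h.le_of_contains ih hno hlt' (one_mem X) (by simpa using h.hAT) (by simp)
    exact hgM (hcl g hg (le_sup_right.trans this))
  have hZ'eq : Z' = V ⊓ centralizer (A' : Set G) := by
    rw [hZ', hZ, hA', cj, Subgroup.map_inf _ _ _ (MulEquiv.injective _), map_centralizer_equiv]
    congr 1
    exact cj_eq_of_mem_normalizer (h.hXV hg)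
  set C := V ⊓ centralizer (X : Set G) with hC
  have hCZ : C ≤ Z := inf_le_inf_left _ (centralizer_le (SetLike.coe_subset_coe.mpr hAX))
  have hCZ' : C ≤ Z' := hZ'eq ▸ inf_le_inf_left _ (centralizer_le (SetLike.coe_subset_coe.mpr hA'X))
  have hZC : Z ⊓ Z' ≤ C := by
    rw [hZ'eq]
    intro v hv
    refine ⟨hv.1.1, ?_⟩
    have : X ≤ centralizer ({v} : Set G) := hgen.trans (sup_le
      (fun a ha => mem_centralizer_singleton_iff.mpr (hv.1.2 a ha))
      (fun a ha => mem_centralizer_singleton_iff.mpr (hv.2.2 a ha)))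
    exact fun x hx => mem_centralizer_singleton_iff.mp (this hx)
  -- `V = Z Z'`
  have hZn : Z ≤ normalizer (Z' : Set G) := fun z hz => centralizer_le_normalizer _ fun z' hz' =>
    commute_mem h.hV.1 (hZ'eq ▸ hz' : z' ∈ V ⊓ _).1 hz.1
  have hVsup : V ≤ Z ⊔ Z' := by
    refine h.hgen.trans ((closure_le _).mpr ?_)
    rintro _ ⟨x, hx, rfl⟩
    have hXn : X ≤ normalizer ((Z ⊔ Z' : Subgroup G) : Set G) := by
      refine hgen.trans ?_
      have hsupV : Z ⊔ Z' ≤ V := sup_le inf_le_left (hZ'eq ▸ inf_le_left)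
      refine sup_le (fun a ha => mem_normalizer_of_cj_le ?_) (fun a ha => mem_normalizer_of_cj_le ?_)
      · rintro _ ⟨v, hv, rfl⟩
        have h1 : ⁅a, v⁆ ∈ Z := by simpa using hWA 1 (one_mem X) a (by simpa using ha) v (hsupV hv)
        show a * v * a⁻¹ ∈ Z ⊔ Z'
        rw [show a * v * a⁻¹ = ⁅a, v⁆ * v by simp only [commutatorElement_def]; group]
        exact mul_mem (mem_sup_left h1) hv
      · rintro _ ⟨v, hv, rfl⟩
        show a * v * a⁻¹ ∈ Z ⊔ Z'
        rw [show a * v * a⁻¹ = ⁅a, v⁆ * v by simp only [commutatorElement_def]; group]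
        exact mul_mem (mem_sup_right (hWA g hg a ha v (hsupV hv))) hv
    exact (mem_normalizer_iff.mp (hXn hx) f).mp (mem_sup_left (hFZ h.hfF))
  -- a point of `Z'` fixed modulo `C` by `A` is in `C`
  have hadd : ∀ {v : G}, v ∈ V → ∀ {x y : G}, x ∈ X → y ∈ X → ⁅y, v⁆ ∈ C → ⁅x * y, v⁆ = ⁅x, v⁆ * ⁅y, v⁆ := by
    intro v hv x y hx hy hc
    rw [show ⁅x * y, v⁆ = x * ⁅y, v⁆ * x⁻¹ * ⁅x, v⁆ by simp only [commutatorElement_def]; group,
      hc.2 x hx, mul_inv_cancel_right]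
    exact commute_mem h.hV.1 hc.1 (hcomV hx hv)
  have hstab : ∀ {v : G}, v ∈ V → ∃ S : Subgroup G, ∀ x, x ∈ S ↔ x ∈ X ∧ ⁅x, v⁆ ∈ C := by
    intro v hv
    exact ⟨{ carrier := {x | x ∈ X ∧ ⁅x, v⁆ ∈ C}
             one_mem' := ⟨one_mem _, by simp⟩
             mul_mem' := fun {x y} hx hy => ⟨mul_mem hx.1 hy.1, by
               rw [hadd hv hx.1 hy.1 hy.2]; exact mul_mem hx.2 hy.2⟩
             inv_mem' := fun {x} hx => ⟨inv_mem hx.1, by
               rw [show ⁅x⁻¹, v⁆ = x⁻¹ * ⁅x, v⁆⁻¹ * x by simp only [commutatorElement_def]; group]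
               have := (inv_mem hx.2 : ⁅x, v⁆⁻¹ ∈ C).2 x⁻¹ (inv_mem hx.1)
               rw [this, inv_mul_cancel_right]
               exact inv_mem hx.2⟩ }, fun x => Iff.rfl⟩
  have hhom : ∀ {v : G}, v ∈ V → (∀ x ∈ X, ⁅x, v⁆ ∈ C) → ∀ x ∈ A, Commute x v ↔ Commute (g * x * g⁻¹) v := by
    intro v hv hall x hx
    rw [← commutatorElement_eq_one_iff_commute, ← commutatorElement_eq_one_iff_commute]
    have hxX := hAX hx
    have hgi := inv_mem hg
    have h1 : ⁅g * x * g⁻¹, v⁆ = ⁅g, v⁆ * ⁅x, v⁆ * ⁅g⁻¹, v⁆ := by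
      rw [hadd hv (mul_mem hg hxX) hgi (hall _ hgi), hadd hv hg hxX (hall _ hxX)]
    have h2 : ⁅g, v⁆ * ⁅g⁻¹, v⁆ = 1 := by
      rw [← hadd hv hg hgi (hall _ hgi), mul_inv_cancel, commutatorElement_one_left]
    have h3 : ⁅g, v⁆ * ⁅x, v⁆ = ⁅x, v⁆ * ⁅g, v⁆ := commute_mem h.hV.1 (hall _ hg).1 (hall _ hxX).1
    rw [h1, h3, mul_assoc, h2, mul_one]
  have hwC : ∀ {w : G}, w ∈ Z' → (∀ a ∈ A, ⁅a, w⁆ ∈ C) → w ∈ C := by
    intro w hw hall
    have hw' : w ∈ V ⊓ centralizer (A' : Set G) := hZ'eq ▸ hw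
    obtain ⟨S, hS⟩ := hstab hw'.1
    have hX' : X ≤ S := hgen.trans (sup_le (fun a ha => (hS a).mpr ⟨hAX ha, hall a ha⟩) fun a ha =>
      (hS a).mpr ⟨hA'X ha, by
        rw [commutatorElement_eq_one_iff_commute.mpr (hw'.2 a ha)]; exact one_mem _⟩)
    refine hZC ⟨⟨hw'.1, fun a ha => ?_⟩, hw⟩
    exact ((hhom hw'.1 (fun x hx => ((hS x).mp (hX' hx)).2) a ha).mpr (hw'.2 _ (conj_mem_cj ha))).eq
  -- a conjugate vector moved by `A` modulo `C`
  have hkey : ∀ {w : G}, w ∈ Z' → w ∉ C → ∀ a ∈ A, ⁅a, w⁆ ∈ C → a ∈ K g := by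
    intro w hw hwC' a ha hc
    have hw' : w ∈ V ⊓ centralizer (A' : Set G) := hZ'eq ▸ hw
    obtain ⟨S, hS⟩ := hstab hw'.1
    have hSX : S < X := lt_of_le_of_ne (fun x hx => ((hS x).mp hx).1) fun he =>
      hwC' (hwC hw fun b hb => ((hS b).mp (he.ge (hAX hb))).2)
    have hA'S : A' ≤ S := fun b hb => (hS b).mpr ⟨hA'X hb, by
      rw [commutatorElement_eq_one_iff_commute.mpr (hw'.2 b hb)]; exact one_mem _⟩
    have haM : a ∈ cj g M := hloc g hg S hSX hA'S ((hS a).mpr ⟨hAX ha, hc⟩)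
    have hfg : g * f * g⁻¹ ∈ V := (mem_normalizer_iff.mp (h.hXV hg) f).mp h.hfV
    refine ⟨ha, hZC ⟨by simpa using hWA 1 (one_mem X) a (by simpa using ha) _ hfg, ?_⟩⟩
    obtain ⟨m, hm, rfl⟩ := haM
    have hmf : ⁅m, f⁆ ∈ Z := by
      rw [commutatorElement_def]
      exact hFZ (mul_mem ((mem_normalizer_iff.mp (h.hMF hm) f).mp h.hfF) (inv_mem h.hfF))
    have h2 := conj_mem_cj (g := g) hmf
    rw [show ⁅(MulAut.conj g).toMonoidHom m, g * f * g⁻¹⁆ = g * ⁅m, f⁆ * g⁻¹ by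
      simp only [MulEquiv.coe_toMonoidHom, MulAut.conj_apply, commutatorElement_def]; group]
    exact h2
  have hmove : ∀ y ∈ X, ∀ a ∈ A, y ∈ M → a ∈ K y := by
    intro y hy a ha hyM
    refine ⟨ha, ?_⟩
    have h1 : y * f * y⁻¹ ∈ Z := hFZ ((mem_normalizer_iff.mp (h.hMF hyM) f).mp h.hfF)
    rw [commutatorElement_eq_one_iff_commute.mpr (h1.2 a ha)]
    exact one_mem _
  -- the elements of `K g` centralize `V` modulo `C`
  have hK0 : ∀ a ∈ K g, ∀ v ∈ V, ⁅a, v⁆ ∈ C := by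
    intro a ha v hv
    have hax : ∀ x ∈ X, ⁅a, x * f * x⁻¹⁆ ∈ C := by
      intro x hx
      by_cases hxM : x ∈ M
      · exact (hmove x hx a ha.1 hxM).2
      have hxf : x * f * x⁻¹ ∈ V := (mem_normalizer_iff.mp (h.hXV hx) f).mp h.hfV
      obtain ⟨z, hz, w, hw, hzw⟩ := (Coprime.mem_sup_iff_of_le_normalizer hZn).mp (hVsup hxf)
      have hzfix : ∀ b ∈ A, ⁅b, z * w⁆ = ⁅b, w⁆ := by
        intro b hb
        have hb' : b * z = z * b := hz.2 b hb
        have hwV : w ∈ V := (hZ'eq ▸ hw : w ∈ V ⊓ _).1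
        have hcw := hcomV (hAX hb) hwV
        calc ⁅b, z * w⁆ = (b * z) * w * b⁻¹ * w⁻¹ * z⁻¹ := by simp only [commutatorElement_def]; group
          _ = z * ⁅b, w⁆ * z⁻¹ := by rw [hb']; simp only [commutatorElement_def]; group
          _ = ⁅b, w⁆ := by rw [commute_mem h.hV.1 hz.1 hcw, mul_inv_cancel_right]
      by_cases hwc : w ∈ C
      · rw [← hzw, hzfix a ha.1, commutatorElement_eq_one_iff_commute.mpr (hwc.2 a (hAX ha.1))]
        exact one_mem _
      have hsub : K x ⊆ K g := fun b hb => hkey hw hwc b hb.1 (by rw [← hzfix b hb.1, hzw]; exact hb.2)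
      have heq := Set.eq_of_subset_of_ncard_le hsub (hgmin x ⟨hx, hxM⟩) (Set.toFinite _)
      exact (heq.ge ha).2
    have : V ≤ { carrier := {v | v ∈ V ∧ ⁅a, v⁆ ∈ C}
                 one_mem' := ⟨one_mem _, by simp⟩
                 mul_mem' := fun {v w} hv hw => ⟨mul_mem hv.1 hw.1, by
                   rw [show ⁅a, v * w⁆ = ⁅a, v⁆ * (v * ⁅a, w⁆ * v⁻¹) by
                     simp only [commutatorElement_def]; group,
                     commute_mem h.hV.1 hv.1 hw.2.1, mul_inv_cancel_right]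
                   exact mul_mem hv.2 hw.2⟩
                 inv_mem' := fun {v} hv => ⟨inv_mem hv.1, by
                   rw [show ⁅a, v⁻¹⁆ = v⁻¹ * ⁅a, v⁆⁻¹ * v by simp only [commutatorElement_def]; group,
                     commute_mem h.hV.1 (inv_mem hv.1) (inv_mem hv.2.1), inv_mul_cancel_right]
                   exact inv_mem hv.2⟩ : Subgroup G } := h.hgen.trans ((closure_le _).mpr (by
      rintro _ ⟨x, hx, rfl⟩
      exact ⟨(mem_normalizer_iff.mp (h.hXV hx) f).mp h.hfV, hax x hx⟩))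
    exact (this hv).2
  -- such elements fix `f` and all its conjugates
  have hker : ∀ a ∈ K g, a ∈ centralizer (V : Set G) := by
    set C₀ := X ⊓ centralizer (V : Set G) with hC₀
    let N : Subgroup G :=
      { carrier := {x | x ∈ X ∧ ∀ v ∈ V, ⁅x, v⁆ ∈ C}
        one_mem' := ⟨one_mem _, fun v _ => by simp⟩
        mul_mem' := fun {x y} hx hy => ⟨mul_mem hx.1 hy.1, fun v hv => by
          rw [hadd hv hx.1 hy.1 (hy.2 v hv)]; exact mul_mem (hx.2 v hv) (hy.2 v hv)⟩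
        inv_mem' := fun {x} hx => ⟨inv_mem hx.1, fun v hv => by
          rw [show ⁅x⁻¹, v⁆ = x⁻¹ * ⁅x, v⁆⁻¹ * x by simp only [commutatorElement_def]; group,
            (inv_mem (hx.2 v hv) : ⁅x, v⁆⁻¹ ∈ C).2 x⁻¹ (inv_mem hx.1), inv_mul_cancel_right]
          exact inv_mem (hx.2 v hv)⟩ }
    have hNX : X ≤ normalizer (N : Set G) := fun y hy => mem_normalizer_of_cj_le (by
      rintro _ ⟨x, hx, rfl⟩
      refine ⟨mul_mem (mul_mem hy hx.1) (inv_mem hy), fun v hv => ?_⟩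
      have hv' : y⁻¹ * v * y ∈ V := by simpa using (mem_normalizer_iff.mp (h.hXV (inv_mem hy)) v).mp hv
      have hc := hx.2 _ hv'
      have h1 : y * ⁅x, y⁻¹ * v * y⁆ * y⁻¹ = ⁅x, y⁻¹ * v * y⁆ := by
        rw [hc.2 y hy, mul_inv_cancel_right]
      rw [← h1] at hc
      convert hc using 1
      simp only [MulEquiv.coe_toMonoidHom, MulAut.conj_apply, commutatorElement_def]
      group)
    have hsq : ∀ x ∈ N, x ^ 2 ∈ C₀ := fun x hx => ⟨pow_mem hx.1 2, fun v hv => by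
      have h1 : ⁅x ^ 2, v⁆ = 1 := by
        rw [pow_two, hadd hv hx.1 hx.1 (hx.2 v hv), ← pow_two]
        exact h.hV.2 _ (hx.2 v hv).1
      exact (commutatorElement_eq_one_iff_mul_comm.mp h1).symm⟩
    -- a Sylow subgroup of `N` fixing `f`
    obtain ⟨R, -, hRN, hR, hRi⟩ := exists_sylow_above (bot_le : ⊥ ≤ N) IsPGroup.of_bot
    obtain ⟨x, hx, hxR⟩ := exists_cj_le h.hTX h.hT h.hTi (hRN.trans fun y hy => hy.1) hR
    set R' := cj x R with hR'
    have hR'N : R' ≤ N := (cj_mono hRN).trans (cj_eq_of_mem_normalizer (hNX hx)).le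
    have hR'i : ¬ 2 ∣ R'.relIndex N := by
      have h1 : R'.relIndex (cj x N) = R.relIndex N :=
        Subgroup.relIndex_map_map_of_injective _ _ (MulEquiv.injective _)
      rw [cj_eq_of_mem_normalizer (hNX hx)] at h1
      rwa [h1]
    set Q := N ⊓ centralizer ({f} : Set G) with hQ
    have hC₀Q : C₀ ≤ Q := fun y hy =>
      ⟨⟨hy.1, fun v hv => by
        rw [commutatorElement_eq_one_iff_mul_comm.mpr (hy.2 v hv).symm]; exact one_mem _⟩,
        mem_centralizer_singleton_iff.mpr (hy.2 f h.hfV).symm⟩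
    have hR'Q : R' ≤ Q := le_inf hR'N (hxR.trans h.hfT)
    have hNQ : N ≤ Q := by
      have hQn : (Q.subgroupOf N).Normal := ⟨fun n hn y => by
        have h1 := hsq ((y * n : ↥N) : G) (y * n).2
        have h2 := hsq (y : G) y.2
        have h3 := hsq (n : G) n.2
        rw [mem_subgroupOf]
        have e : ((y * n * y⁻¹ : ↥N) : G) = ((y : G) * n) ^ 2 * ((n : G)⁻¹ * ((y : G) ^ 2)⁻¹) := by
          simp only [Subgroup.coe_mul, Subgroup.coe_inv, pow_two]; group
        rw [e]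
        exact mul_mem (hC₀Q h1) (mul_mem (inv_mem (mem_subgroupOf.mp hn)) (inv_mem (hC₀Q h2)))⟩
      intro n hn
      have hodd : ¬ 2 ∣ (Q.subgroupOf N).index := fun hd =>
        hR'i (hd.trans (relIndex_dvd_of_le_left _ hR'Q))
      have h1 : n ^ (Q.subgroupOf N).index ∈ Q :=
        mem_subgroupOf.mp ((Q.subgroupOf N).pow_index_mem (⟨n, hn⟩ : ↥N))
      have h2 : n ^ 2 ∈ Q := hC₀Q (hsq n hn)
      set k := (Q.subgroupOf N).index
      have hk : k % 2 = 1 := by omega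
      have h3 : n = n ^ k * ((n ^ 2) ^ (k / 2))⁻¹ := by
        rw [eq_mul_inv_iff_mul_eq, ← pow_mul, ← pow_succ', show 2 * (k / 2) + 1 = k by omega]
      rw [h3]
      exact mul_mem h1 (inv_mem (pow_mem h2 _))
    intro a ha
    exact h.le_centralizer_of_normalized hNX (hNQ.trans inf_le_right) ⟨hAX ha.1, fun v hv => hK0 a ha v hv⟩
  -- `f` and a partner outside `C`
  have hfV := h.hfV
  have hfC : f ∉ C := fun hc => h.hfX fun x hx => mem_centralizer_singleton_iff.mpr (hc.2 x hx)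
  obtain ⟨b, hb, hbf⟩ : ∃ b ∈ A', ⁅b, f⁆ ∉ C := by
    by_contra hcon
    push Not at hcon
    obtain ⟨S, hS⟩ := hstab hfV
    have hX' : X ≤ S := hgen.trans (sup_le (fun a ha => (hS a).mpr ⟨hAX ha, by
      rw [commutatorElement_eq_one_iff_commute.mpr ((hFZ h.hfF).2 a ha)]; exact one_mem _⟩)
      fun a ha => (hS a).mpr ⟨hA'X ha, hcon a ha⟩)
    have hall := fun x hx => ((hS x).mp (hX' hx)).2
    refine hfC (hZC ⟨hFZ h.hfF, hZ'eq ▸ ⟨hfV, ?_⟩⟩)
    rintro _ ⟨a, ha, rfl⟩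
    exact ((hhom hfV hall a ha).mp ((hFZ h.hfF).2 a ha)).eq
  set w := ⁅b, f⁆ with hw
  have hwZ' : w ∈ Z' := hWA g hg b hb f hfV
  -- `a ↦ ⁅a, w⁆` maps `A` onto `Z` modulo `C`
  have hwV : w ∈ V := hcomV (hA'X hb) hfV
  have hwC' : w ∉ C := hbf
  have hAd : ∀ a ∈ A, ⁅a, w⁆ ∈ Z := fun a ha => by
    simpa using hWA 1 (one_mem X) a (by simpa using ha) w hwV
  set B := A ⊓ centralizer (V : Set G) with hB
  let ψ : ↥A ⧸ B.subgroupOf A → ↥Z ⧸ C.subgroupOf Z :=
    fun q => QuotientGroup.mk ⟨⁅(q.out : G), w⁆, hAd _ q.out.2⟩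
  have hψ : Function.Injective ψ := by
    intro q q' hqq
    have h1 : ⁅(q'.out : G), w⁆ * ⁅(q.out : G), w⁆⁻¹ ∈ C := by
      rw [commute_mem h.hV.1 (hcomV (hAX q'.out.2) hwV) (inv_mem (hcomV (hAX q.out.2) hwV))]
      exact mem_subgroupOf.mp (QuotientGroup.eq.mp hqq)
    set a := (q.out : G)
    set a' := (q'.out : G)
    have hc : a⁻¹ * (⁅a', w⁆ * ⁅a, w⁆⁻¹) * a = ⁅a⁻¹ * a', w⁆ := by
      simp only [commutatorElement_def]; group
    have h2 : ⁅a⁻¹ * a', w⁆ ∈ C := by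
      rw [← hc, h1.2 a⁻¹ (inv_mem (hAX q.out.2)), inv_mul_cancel_right]
      exact h1
    have hm : a⁻¹ * a' ∈ A := mul_mem (inv_mem q.out.2) q'.out.2
    have h3 : q.out⁻¹ * q'.out ∈ B.subgroupOf A :=
      mem_subgroupOf.mpr ⟨hm, hker _ (hkey hwZ' hwC' _ hm h2)⟩
    rw [← QuotientGroup.eq, QuotientGroup.out_eq', QuotientGroup.out_eq'] at h3
    exact h3
  have hcount : Nat.card (↥Z ⧸ C.subgroupOf Z) ≤ Nat.card (↥A ⧸ B.subgroupOf A) := by
    rw [← index_eq_card, ← index_eq_card]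
    show C.relIndex Z ≤ B.relIndex A
    have hVB : V ⊓ centralizer (B : Set G) = V :=
      inf_eq_left.mpr (le_centralizer_iff.mp inf_le_right)
    have hoff := h.hbest B inf_le_left
    rw [hVB, ← hZ] at hoff
    have h1 := card_sup_mul_card_inf hZn
    rw [le_antisymm (sup_le inf_le_left (hZ'eq ▸ inf_le_left)) hVsup,
      le_antisymm hZC (le_inf hCZ hCZ'),
      show Nat.card Z' = Nat.card Z from card_map_of_injective (MulAut.conj g).injective] at h1
    have hCi : Nat.card C * C.relIndex Z = Nat.card Z := by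
      rw [← relIndex_bot_left C, relIndex_mul_relIndex _ _ _ bot_le hCZ, relIndex_bot_left]
    have hBi : Nat.card B * B.relIndex A = Nat.card A := by
      rw [← relIndex_bot_left B, relIndex_mul_relIndex _ _ _ bot_le (show B ≤ A from inf_le_left),
        relIndex_bot_left]
    refine Nat.le_of_mul_le_mul_left ?_
      (Nat.mul_pos (Nat.mul_pos (Nat.card_pos (α := B)) (Nat.card_pos (α := C)))
        (Nat.card_pos (α := Z)))
    calc Nat.card B * Nat.card C * Nat.card Z * C.relIndex Z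
        = Nat.card B * Nat.card Z * (Nat.card C * C.relIndex Z) := by ring
      _ = Nat.card B * (Nat.card V * Nat.card C) := by rw [hCi, h1]; ring
      _ = Nat.card B * Nat.card V * Nat.card C := by ring
      _ ≤ Nat.card A * Nat.card Z * Nat.card C := Nat.mul_le_mul_right _ hoff
      _ = _ := by rw [← hBi]; ring
  obtain ⟨q, hq⟩ := (hψ.bijective_of_nat_card_le hcount).2 (QuotientGroup.mk ⟨f, hFZ h.hfF⟩)
  set a := (q.out : G) with ha
  have haA : a ∈ A := q.out.2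
  have hc : ⁅a, w⁆⁻¹ * f ∈ C := mem_subgroupOf.mp (QuotientGroup.eq.mp hq)
  set v := ⁅a, w⁆ with hv
  have hvZ : v ∈ Z := hAd a haA
  have hbX : b ∈ X := hA'X hb
  have hbv : ⁅b, v⁆ = w := by
    have h1 : ∀ c ∈ C, ⁅b, f * c⁆ = ⁅b, f⁆ := fun c hc' => by
      calc ⁅b, f * c⁆ = b * f * (c * b⁻¹) * c⁻¹ * f⁻¹ := by simp only [commutatorElement_def]; group
        _ = b * f * (b⁻¹ * c) * c⁻¹ * f⁻¹ := by rw [hc'.2 b⁻¹ (inv_mem hbX)]
        _ = _ := by simp only [commutatorElement_def]; group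
    rw [show v = f * (v⁻¹ * f)⁻¹ by group]
    exact h1 _ (inv_mem hc)
  refine hno ⟨a, hAX haA, b, hbX, v, hvZ.1, w, hwV, ?_, hvZ.2 a haA,
    (show w ∈ V ⊓ centralizer (A' : Set G) from hZ'eq ▸ hwZ').2 b hb, ?_, ?_⟩
  · intro h1
    rw [h1, inv_one, one_mul] at hc
    exact hfC hc
  · rw [hv]; simp only [commutatorElement_def]; group
  · rw [← hbv]; simp only [commutatorElement_def]; group

theorem TwoFF.exists_plane : HasPlane V X := by
  suffices ∀ n, ∀ (V X T A M F : Subgroup G) (f : G), Nat.card X = n → TwoFF V X T A M F f → HasPlane V X from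
    this _ V X T A M F f rfl h
  intro n
  induction n using Nat.strong_induction_on with
  | _ n ihn =>
    intro V X T A M F f hn h
    exact h.exists_plane_step fun V' X' T' A' M' F' f' hlt h' => ihn _ (hn ▸ hlt) V' X' T' A' M' F' f' rfl h'

end Main

end Cfsg.Agent.Offender
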