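import Cfsg.Agent.Lib.Offender.FullFF
import Cfsg.Agent.Lib.SFourFree.Generation

/-!
# Constrained `S₄`-free groups factorize

For a finite group with `C(O₂(G)) ≤ O₂(G)` and without a section `S₄`:
* `thompson_le_centralizer_iSup_omegaZ`: `J(S)` centralizes `⟨Ω₁Z(S)^G⟩`;
* `exists_factor_center_thompson`: `G = C(Z(S)) N(J(S))`.
-/

set_option autoImplicit false
set_option linter.style.haveILetI false

namespace Cfsg.Agent.Offender

open Subgroup

universe u

variable {G : Type u} [Group G] [Finite G]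

theorem not_hasPlane_of_sFourFree (hfree : ¬ Cfsg.Involves (Equiv.Perm (Fin 4)) G)
    {V : Subgroup G} (hV : IsElementaryAbelian 2 V) (X : Subgroup G) : ¬ HasPlane V X :=
  fun h => hfree (h.involves_sfour hV)

theorem thompson_le_centralizer_iSup_omegaZ (hfree : ¬ Cfsg.Involves (Equiv.Perm (Fin 4)) G)
    (hC : centralizer (Cfsg.pCore 2 G : Set G) ≤ Cfsg.pCore 2 G) (S : Sylow 2 G) :
    thompsonSubgroupOf 2 (S : Subgroup G) ≤
      centralizer ((⨆ S' : Sylow 2 G, omegaZ 2 (S' : Subgroup G) : Subgroup G) : Set G) := by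
  haveI : Fact (Nat.Prime 2) := ⟨Nat.prime_two⟩
  set V := ⨆ S' : Sylow 2 G, omegaZ 2 (S' : Subgroup G) with hV
  haveI : V.Normal := iSup_omegaZ_normal
  have hVe : IsElementaryAbelian 2 V := isElementaryAbelian_iSup_omegaZ hC
  have hgen : FixGen V ⊤ (S : Subgroup G) (omegaZ 2 (S : Subgroup G)) :=
    { hV := hVe
      hXV := by rw [normalizer_eq_top]
      hTX := le_top
      hT := S.2
      hTi := by rw [relIndex_top_right]; exact S.not_dvd_index
      hFV := le_iSup (fun S' : Sylow 2 G => omegaZ 2 (S' : Subgroup G)) S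
      hTF := le_centralizer_iff.mp ((PGroup.omegaOne_le _).trans inf_le_right)
      hgen := iSup_le fun S' => by
        obtain ⟨g, rfl⟩ := MulAction.exists_smul_eq G S S'
        rw [← omegaZ_smul]
        rintro _ ⟨w, hw, rfl⟩
        exact subset_closure ⟨g, mem_top g, w, hw, rfl⟩ }
  have hVS : V ≤ (S : Subgroup G) :=
    (PGroup.isPGroup_of_elementaryAbelian hVe).le_sylow_of_normal S
  obtain ⟨A₁, hA₁, hA₁S⟩ := exists_max_le_sylow S
  rw [thompsonSubgroupOf_eq hA₁ hA₁S]
  exact sSup_le fun A hA =>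
    hgen.le_centralizer_of_max (not_hasPlane_of_sFourFree hfree hVe ⊤) hVS hA.1 hA.2

/-- **Glauberman factorization without a solvability hypothesis.** -/
theorem exists_factor_center_thompson (hfree : ¬ Cfsg.Involves (Equiv.Perm (Fin 4)) G)
    (hC : centralizer (Cfsg.pCore 2 G : Set G) ≤ Cfsg.pCore 2 G) (S : Sylow 2 G) (g : G) :
    ∃ c ∈ centralizer (((S : Subgroup G) ⊓ centralizer ((S : Subgroup G) : Set G) : Subgroup G) : Set G),
      ∃ n ∈ normalizer ((thompsonSubgroupOf 2 (S : Subgroup G) : Subgroup G) : Set G), g = c * n := by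
  haveI : Fact (Nat.Prime 2) := ⟨Nat.prime_two⟩
  set V := ⨆ S' : Sylow 2 G, omegaZ 2 (S' : Subgroup G) with hV
  haveI : V.Normal := iSup_omegaZ_normal
  haveI : (centralizer (V : Set G)).Normal := inferInstance
  have htop := sup_normalizer_thompson_eq_top S (centralizer (V : Set G))
    (thompson_le_centralizer_iSup_omegaZ hfree hC S)
  obtain ⟨c, hc, n, hn, hg⟩ := mem_sup_of_normal_left.mp (htop.ge (mem_top g))
  refine ⟨c, ?_, n, hn, hg.symm⟩
  set Q := Cfsg.pCore 2 G with hQ
  haveI : Q.Normal := PCore.pCore_normal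
  have hQS : Q ≤ (S : Subgroup G) := PCore.pCore_le_sylow S
  refine SFourFree.le_centralizer_center_of_omega S (A₀ := Q ⊓ centralizer (Q : Set G))
    (PGroup.isMulCommutative_of_forall fun a ha b hb => (mem_centralizer_iff.1 ha.2 b hb.1).symm)
    (H := centralizer ((omegaZ 2 (S : Subgroup G) : Subgroup G) : Set G)) ?_ ?_
    (inf_le_left.trans hQS) le_rfl (centralizer_le ?_ hc)
  · exact le_centralizer_iff.mp ((PGroup.omegaOne_le _).trans inf_le_right)
  · intro z hz
    have hzC : z ∈ centralizer (Q : Set G) := centralizer_le hQS hz.2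
    exact ⟨hC hzC, hzC⟩
  · exact SetLike.coe_subset_coe.mpr (le_iSup (fun S' : Sylow 2 G => omegaZ 2 (S' : Subgroup G)) S)

end Cfsg.Agent.Offender
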