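import Cfsg.Agent.Lib.Offender.SFourFactor
import Cfsg.Agent.Lib.Transfer.SectionFusion
import Cfsg.Agent.Lib.ConjFun.ThompsonClassTwo

/-!
# `Z` and `J` control strong fusion in `S₄`-free groups

* `centerFunctor`, `thompsonFunctor` and the family `zjFamily` of the two;
* `fus_zjFamily`.
-/

set_option autoImplicit false
set_option linter.style.haveILetI false

namespace Cfsg.Agent.Offender

open Subgroup

universe u

/-- `Q ↦ Z(Q)`. -/
abbrev centerFunctor : ∀ (Q : Type u) [Group Q], Subgroup Q := fun Q _ => Subgroup.center Q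

/-- `Q ↦ J(Q)`. -/
abbrev thompsonFunctor : ∀ (Q : Type u) [Group Q], Subgroup Q :=
  fun Q _ => Cfsg.thompsonSubgroup 2 Q

theorem isCharPFunctor_center {p : ℕ} [Fact p.Prime] :
    Cfsg.IsCharPFunctor.{u} p centerFunctor := by
  refine ⟨fun Q _ _ hQ _ => ?_, fun Q R _ _ _ _ e => le_antisymm ?_ fun y hy => ?_⟩
  · haveI := hQ.center_nontrivial
    exact (Subgroup.nontrivial_iff_ne_bot _).1 inferInstance
  · rintro _ ⟨z, hz, rfl⟩
    refine mem_center_iff.2 fun r => ?_
    obtain ⟨q, rfl⟩ := e.surjective r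
    simp only [MulEquiv.coe_toMonoidHom, ← map_mul, mem_center_iff.1 hz q]
  · refine ⟨e.symm y, mem_center_iff.2 fun q => e.injective ?_, e.apply_symm_apply y⟩
    simp only [map_mul, MulEquiv.apply_symm_apply, mem_center_iff.1 hy (e q)]

theorem inducedFunctor_center {G : Type u} [Group G] (P : Subgroup G) :
    Cfsg.inducedFunctor (G := G) centerFunctor P = P ⊓ centralizer (P : Set G) := by
  ext x
  constructor
  · rintro ⟨z, hz, rfl⟩
    exact ⟨z.2, fun y hy => congrArg Subtype.val (mem_center_iff.1 hz ⟨y, hy⟩)⟩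
  · rintro ⟨hx, hxc⟩
    exact ⟨⟨x, hx⟩, mem_center_iff.2 fun y => Subtype.ext (hxc y y.2), rfl⟩

theorem inducedFunctor_thompson {G : Type u} [Group G] :
    Cfsg.inducedFunctor (G := G) thompsonFunctor = Cfsg.thompsonSubgroupOf 2 := rfl

/-- `{Z, J}`. -/
abbrev zjFamily : Set (∀ (Q : Type u) [Group Q], Subgroup Q) := {centerFunctor, thompsonFunctor}

theorem isCharPFunctor_zjFamily : ∀ W ∈ zjFamily.{u}, Cfsg.IsCharPFunctor.{u} 2 W := by
  haveI : Fact (Nat.Prime 2) := ⟨Nat.prime_two⟩
  rintro W (rfl | rfl)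
  exacts [isCharPFunctor_center, ConjFun.isCharPFunctor_thompson]

variable {G : Type u} [Group G] [Finite G]

theorem fus_zjFamily (hfree : ¬ Cfsg.Involves (Equiv.Perm (Fin 4)) G) (X : Type u) [Group X]
    (hX : Cfsg.Involves X G) : Transfer.Fus 2 zjFamily X := by
  haveI : Fact (Nat.Prime 2) := ⟨Nat.prime_two⟩
  refine Transfer.fus_of_constrained_sections isCharPFunctor_zjFamily (fun K R _ hC => ?_) X hX
  obtain ⟨T⟩ : Nonempty (Sylow 2 (↥K ⧸ R.subgroupOf K)) := inferInstance
  refine Transfer.fus_of_factor isCharPFunctor_zjFamily (Or.inl rfl) (Or.inr rfl) T fun x => ?_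
  obtain ⟨c, hc, n, hn, rfl⟩ := exists_factor_center_thompson
    (fun h => hfree (ConjFun.involves_trans h (ConjFun.involves_of_section K R))) hC T x
  exact ⟨c, by rw [inducedFunctor_center]; exact centralizer_le_normalizer _ hc, n, hn, rfl⟩

end Cfsg.Agent.Offender
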