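import Cfsg.Prelude.Def_PLocal
import Cfsg.Agent.Lib.Offender.Replacement
import Cfsg.Agent.Lib.Offender.Factorization
import Cfsg.Agent.Lib.Coprime.Commutator

/-!
# The stable normal closure `W(S)` of `Ω₁(Z(S))`

* `le_centralizer_of_pStableOn`: the Frattini argument under `p`-stability
* `stableNormalClosure` API: `omegaOne_center_le_stable`, `stable_le_omegaCenterThompson`, `map_stable_normal`,
  `map_stableNormalClosure`, `stableNormalClosure_characteristic`, `stableNormalClosure_ne_bot`
* `commutator_stable_eq_bot_of_quadratic`: no nontrivial quadratic action on `W(S)`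
* `normal_stableNormalClosure`: `W(S) ⊴ G` for `G` action-`p`-stable with `C(O_p(G)) ≤ O_p(G)`
-/

set_option autoImplicit false

namespace Cfsg.Agent.Offender

open Subgroup
open scoped commutatorElement

universe u

variable {p : ℕ}

theorem quadratic_mono {G : Type*} [Group G] {V W A B : Subgroup G} (hVW : V ≤ W) (hAB : A ≤ B)
    (h : ⁅⁅W, B⁆, B⁆ = ⊥) : ⁅⁅V, A⁆, A⁆ = ⊥ :=
  le_bot_iff.mp ((commutator_mono (commutator_mono hVW hAB) hAB).trans h.le)

theorem map_centralizer_inf {G H : Type*} [Group G] [Group H] {f : G →* H}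
    (hf : Function.Injective f) (U : Subgroup G) :
    (U ⊓ centralizer (U : Set G)).map f = U.map f ⊓ centralizer ((U.map f : Subgroup H) : Set H) := by
  refine le_antisymm ?_ ?_
  · rintro _ ⟨x, hx, rfl⟩
    refine ⟨mem_map_of_mem f hx.1, ?_⟩
    rintro _ ⟨v, hv, rfl⟩
    rw [← map_mul, ← map_mul, hx.2 v hv]
  · rintro _ ⟨⟨x, hx, rfl⟩, hc⟩
    refine ⟨x, ⟨hx, fun v hv => hf ?_⟩, rfl⟩
    rw [map_mul, map_mul]
    exact hc (f v) (mem_map_of_mem f hv)

theorem quadratic_of_map {G H : Type*} [Group G] [Group H] {f : G →* H}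
    (hf : Function.Injective f) {W : Subgroup G} {x : G}
    (h : ⁅⁅W.map f, zpowers (f x)⁆, zpowers (f x)⁆ = ⊥) :
    ⁅⁅W, zpowers x⁆, zpowers x⁆ = ⊥ := by
  refine (map_eq_bot_iff_of_injective _ hf).mp ?_
  rwa [map_commutator, map_commutator, MonoidHom.map_zpowers]

theorem quadratic_conj {H : Type*} [Group H] {W : Subgroup H} [W.Normal] (n : H) {a : H}
    (h : ⁅⁅W, zpowers a⁆, zpowers a⁆ = ⊥) :
    ⁅⁅W, zpowers (n * a * n⁻¹)⁆, zpowers (n * a * n⁻¹)⁆ = ⊥ := by
  have hW : W.map (MulAut.conj n).toMonoidHom = W := by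
    refine le_antisymm ?_ ?_
    · rintro _ ⟨w, hw, rfl⟩
      exact Normal.conj_mem ‹_› w hw n
    · intro w hw
      exact ⟨n⁻¹ * w * n, by simpa using Normal.conj_mem ‹_› w hw n⁻¹, by
        show n * (n⁻¹ * w * n) * n⁻¹ = w
        group⟩
  have := congrArg (Subgroup.map (MulAut.conj n).toMonoidHom) h
  rw [Subgroup.map_bot, map_commutator, map_commutator, MonoidHom.map_zpowers, hW] at this
  exact this

/-- If `H` is `p`-stable on `V` and every element of `P` quadratic on `W ⊇ V` centralizes the seed `Y`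
generating `V` under conjugation, then every such element centralizes `V`. -/
theorem le_centralizer_of_pStableOn {H : Type*} [Group H] [Finite H] [Fact p.Prime] (P : Sylow p H)
    {V W Y : Subgroup H} [V.Normal] [W.Normal] (hVW : V ≤ W) (hYV : Y ≤ V)
    (hV : V ≤ normalClosure (Y : Set H)) (hst : IsPStableOn p V)
    (hseed : ∀ a ∈ (P : Subgroup H), ⁅⁅W, zpowers a⁆, zpowers a⁆ = ⊥ → ∀ y ∈ Y, a * y = y * a)
    {a : H} (haP : a ∈ (P : Subgroup H)) (ha : ⁅⁅W, zpowers a⁆, zpowers a⁆ = ⊥) :
    a ∈ centralizer (V : Set H) := by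
  set C := centralizer (V : Set H) with hC
  set D := (pCore p (H ⧸ C)).comap (QuotientGroup.mk' C) with hD
  have : D.Normal := Normal.comap PCore.pCore_normal _
  have haD : a ∈ D := hst a (quadratic_mono hVW le_rfl ha)
  have hDP : D ≤ (P : Subgroup H) ⊔ C := by
    have h1 : pCore p (H ⧸ C) ≤ (P : Subgroup H).map (QuotientGroup.mk' C) :=
      PCore.pCore_le_sylow (P.mapSurjective (QuotientGroup.mk'_surjective C))
    refine (comap_mono (f := QuotientGroup.mk' C) h1).trans ?_
    rw [comap_map_eq, QuotientGroup.ker_mk']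
  have hCD : C ≤ D := by
    intro c hc
    rw [hD, mem_comap, QuotientGroup.mk'_apply, (QuotientGroup.eq_one_iff c).mpr hc]
    exact one_mem _
  obtain ⟨Q, hQ⟩ := exists_sylow_eq_inf P D
  have htop := Q.normalizer_sup_eq_top (N := D)
  rw [hQ] at htop
  suffices V ≤ centralizer {a} from fun v hv => ((this hv) a (Set.mem_singleton a)).symm
  refine hV.trans ((closure_le _).mpr ?_)
  intro z hz
  obtain ⟨y, hy, hyz⟩ := Group.mem_conjugatesOfSet_iff.mp hz
  obtain ⟨g, rfl⟩ := isConj_iff.mp hyz
  have hg : g ∈ normalizer (((P : Subgroup H) ⊓ D : Subgroup H) : Set H) ⊔ D := htop ▸ mem_top g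
  obtain ⟨n, hn, d, hd, rfl⟩ := mem_sup_of_normal_right.mp hg
  obtain ⟨p0, hp0, c, hc, rfl⟩ := mem_sup_of_normal_right.mp (hDP hd)
  have hp0D : p0 ∈ D := by
    rw [show p0 = p0 * c * c⁻¹ by group]
    exact mul_mem hd (inv_mem (hCD hc))
  have hn' : n * p0 ∈ normalizer (((P : Subgroup H) ⊓ D : Subgroup H) : Set H) :=
    mul_mem hn (le_normalizer ⟨hp0, hp0D⟩)
  set m := n * p0 with hm
  have hb : m⁻¹ * a * m ∈ (P : Subgroup H) ⊓ D := (mem_normalizer_iff''.mp hn' a).mp ⟨haP, haD⟩
  have hcomm := hseed _ hb.1 (by simpa using quadratic_conj m⁻¹ ha) y hy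
  have hcy : c * y * c⁻¹ = y := by rw [← hc y (hYV hy)]; group
  intro a' ha'
  obtain rfl : a' = a := ha'
  calc a' * (n * (p0 * c) * y * (n * (p0 * c))⁻¹) = a' * (m * (c * y * c⁻¹) * m⁻¹) := by
        rw [hm]; group
    _ = m * (m⁻¹ * a' * m * y) * m⁻¹ := by rw [hcy]; group
    _ = m * (y * (m⁻¹ * a' * m)) * m⁻¹ := by rw [hcomm]
    _ = m * (c * y * c⁻¹) * m⁻¹ * a' := by rw [hcy]; group
    _ = n * (p0 * c) * y * (n * (p0 * c))⁻¹ * a' := by rw [hm]; group

/-! ### The stable normal closure -/

section Stable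

variable {S : Type u} [Group S]

theorem omegaCenterThompson_def :
    omegaCenterThompson p S =
      omegaOne p (thompsonSubgroup p S ⊓ centralizer (thompsonSubgroup p S : Set S)) := rfl

theorem omegaOne_center_le_omegaCenterThompson [Finite S] :
    omegaOne p (center S) ≤ omegaCenterThompson p S := by
  rw [PGroup.omegaOne_le_iff]
  intro x hx hp
  rw [mem_center_iff] at hx
  obtain ⟨A, hA⟩ := PGroup.exists_maxElementaryAbelian (G := S) (p := p)
  exact PGroup.mem_omegaOne_of_pow_eq_one
    ⟨le_thompsonSubgroup hA (mem_of_commute_max hA hp fun a _ => hx a), fun j _ => hx j⟩ hp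

theorem map_omegaCenterThompson_normal {H : Type u} [Group H] {τ : S →* H}
    (hτ : IsStableEmbedding p τ) : ((omegaCenterThompson p S).map τ).Normal := by
  have := hτ.2.2.2.2.1
  rw [omegaCenterThompson_def, PGroup.map_omegaOne_of_injective hτ.1, map_centralizer_inf hτ.1]
  exact PGroup.omegaOne_normal _

theorem omegaOne_center_le_stable : omegaOne p (center S) ≤ stableNormalClosure p S :=
  le_sInf fun _ h => h.1

theorem stable_le_omegaCenterThompson [Finite S] :
    stableNormalClosure p S ≤ omegaCenterThompson p S :=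
  sInf_le ⟨omegaOne_center_le_omegaCenterThompson,
    fun _ _ _ hτ => map_omegaCenterThompson_normal hτ⟩

theorem map_stable_normal [Finite S] {H : Type u} [Group H] {τ : S →* H}
    (hτ : IsStableEmbedding p τ) : ((stableNormalClosure p S).map τ).Normal := by
  refine ⟨?_⟩
  rintro _ ⟨w, hw, rfl⟩ g
  obtain ⟨y, hy, hy'⟩ := (map_omegaCenterThompson_normal hτ).conj_mem _
    ⟨w, stable_le_omegaCenterThompson hw, rfl⟩ g
  refine ⟨y, mem_sInf.mpr fun U hU => ?_, hy'⟩
  obtain ⟨z, hz, hz'⟩ := (hU.2 H τ hτ).conj_mem _ ⟨w, mem_sInf.mp hw U hU, rfl⟩ g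
  rwa [hτ.1 (hy'.trans hz'.symm)]

theorem isElementaryAbelian_stable [Finite S] : IsElementaryAbelian p (stableNormalClosure p S) :=
  PGroup.isElementaryAbelian_mono (PGroup.isElementaryAbelian_omegaOne
    (PGroup.isMulCommutative_of_forall fun _ ha _ hb => (ha.2 _ hb.1).symm))
    stable_le_omegaCenterThompson

theorem map_omegaCenterThompson {S' : Type u} [Group S'] (η : S ≃* S') :
    (omegaCenterThompson p S).map η.toMonoidHom = omegaCenterThompson p S' := by
  rw [omegaCenterThompson_def, omegaCenterThompson_def,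
    PGroup.map_omegaOne_of_injective η.injective, map_centralizer_inf η.injective,
    map_thompsonSubgroup]

theorem map_center' {S' : Type*} [Group S'] (η : S ≃* S') :
    (center S).map η.toMonoidHom = center S' := by
  have := map_centralizer_equiv η (⊤ : Subgroup S)
  rwa [Subgroup.map_top_of_surjective _ η.surjective, coe_top, coe_top, centralizer_univ,
    centralizer_univ] at this

theorem stable_map_le {S' : Type u} [Group S'] (η : S ≃* S') :
    stableNormalClosure p S' ≤ (stableNormalClosure p S).map η.toMonoidHom := by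
  intro x hx
  refine ⟨η.symm x, mem_sInf.mpr fun U hU => ?_, by simp⟩
  have hmem : U.map η.toMonoidHom ∈ {W : Subgroup S' | omegaOne p (center S') ≤ W ∧
      ∀ (H : Type u) [Group H] (τ : S' →* H), IsStableEmbedding p τ → (W.map τ).Normal} := by
    refine ⟨?_, fun H _ τ hτ => ?_⟩
    · rw [← map_center' η, ← PGroup.map_omegaOne_of_injective η.injective]
      exact map_mono hU.1
    · rw [map_map]
      refine hU.2 H _ ⟨hτ.1.comp η.injective, hτ.2.1, ?_, hτ.2.2.2.1, ?_, fun V _ hV => ?_⟩
      · obtain ⟨P, hP⟩ := hτ.2.2.1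
        refine ⟨P, ?_⟩
        rw [hP, MonoidHom.range_comp, (MonoidHom.range_eq_top (f := η.toMonoidHom)).mpr η.surjective,
          ← MonoidHom.range_eq_map]
      · rw [← map_map, map_thompsonSubgroup η]
        exact hτ.2.2.2.2.1
      · rw [← map_map, map_omegaCenterThompson η] at hV
        exact hτ.2.2.2.2.2 V hV
  obtain ⟨y, hy, rfl⟩ := mem_sInf.mp hx _ hmem
  simpa using hy

theorem map_stableNormalClosure {S' : Type u} [Group S'] (η : S ≃* S') :
    (stableNormalClosure p S).map η.toMonoidHom = stableNormalClosure p S' := by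
  refine le_antisymm ?_ (stable_map_le η)
  rw [map_le_iff_le_comap]
  intro x hx
  obtain ⟨y, hy, rfl⟩ := stable_map_le η.symm hx
  simpa using hy

theorem stableNormalClosure_characteristic : (stableNormalClosure p S).Characteristic :=
  characteristic_iff_map_eq.mpr fun e => map_stableNormalClosure e

theorem stableNormalClosure_ne_bot [Finite S] [Fact p.Prime] [Nontrivial S] (hS : IsPGroup p S) :
    stableNormalClosure p S ≠ ⊥ := by
  refine ne_bot_of_le_ne_bot (PGroup.omegaOne_ne_bot ?_) omegaOne_center_le_stable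
  have := hS.center_nontrivial
  obtain ⟨k, hk⟩ := IsPGroup.iff_card.mp (hS.to_subgroup (center S))
  rcases Nat.eq_zero_or_pos k with rfl | hk'
  · exact absurd hk (ne_of_gt (by simpa using Finite.one_lt_card (α := center S)))
  · exact hk ▸ dvd_pow_self p hk'.ne'

/-- No element acts quadratically and nontrivially on `W(S)`. -/
theorem commutator_stable_eq_bot_of_quadratic [Finite S] [Fact p.Prime] {x : S}
    (hq : ⁅⁅stableNormalClosure p S, zpowers x⁆, zpowers x⁆ = ⊥) :
    ⁅stableNormalClosure p S, zpowers x⁆ = ⊥ := by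
  set W := stableNormalClosure p S with hW
  set X : Set S := {a | ⁅⁅W, zpowers a⁆, zpowers a⁆ = ⊥}
  suffices hY : W ≤ W ⊓ centralizer X by
    rw [commutator_eq_bot_iff_le_centralizer]
    intro w hw
    rintro _ ⟨k, rfl⟩
    exact (Commute.zpow_left (show Commute x w from (hY hw).2 x hq) k).eq
  refine sInf_le ⟨le_inf omegaOne_center_le_stable ?_, fun H _ τ hτ => ?_⟩
  · refine (PGroup.omegaOne_le _).trans fun c hc a _ => ?_
    exact mem_center_iff.mp hc a
  have := hτ.2.1
  have : (W.map τ).Normal := map_stable_normal hτ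
  set Y := (W ⊓ centralizer X).map τ with hYdef
  set V := normalClosure (Y : Set H) with hV
  have hVW : V ≤ W.map τ := normalClosure_le_normal (map_mono inf_le_left)
  have hstV : IsPStableOn p V :=
    hτ.2.2.2.2.2 V (hVW.trans (map_mono stable_le_omegaCenterThompson))
  obtain ⟨P, hP⟩ := hτ.2.2.1
  have key : V ≤ Y := by
    intro v hv
    obtain ⟨w, hw, rfl⟩ := hVW hv
    refine ⟨w, ⟨hw, fun a ha => hτ.1 ?_⟩, rfl⟩
    rw [map_mul, map_mul]
    have hq' : ⁅⁅W.map τ, zpowers (τ a)⁆, zpowers (τ a)⁆ = ⊥ := by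
      rw [← MonoidHom.map_zpowers, ← map_commutator, ← map_commutator,
        show ⁅⁅W, zpowers a⁆, zpowers a⁆ = ⊥ from ha, Subgroup.map_bot]
    refine ((le_centralizer_of_pStableOn P hVW subset_normalClosure le_rfl hstV ?_
      (hP ▸ ⟨a, rfl⟩) hq') _ hv).symm
    intro b hb hqb y hy
    rw [hP] at hb
    obtain ⟨b', rfl⟩ := hb
    obtain ⟨y', hy', rfl⟩ := hy
    rw [← map_mul, ← map_mul]
    exact congrArg τ (hy'.2 b' (quadratic_of_map hτ.1 hqb))
  rw [← le_antisymm key subset_normalClosure]
  infer_instance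

end Stable

/-! ### The analogue of the ZJ theorem -/

section ZJ

variable {G : Type u} [Group G] [Finite G] [hp : Fact p.Prime]

theorem isPGroup_sectionKernel (hc : centralizer (pCore p G : Set G) ≤ pCore p G)
    [((frattini ↥(pCore p G)).map (pCore p G).subtype).Normal] :
    IsPGroup p (sectionKernel (pCore p G) ((frattini ↥(pCore p G)).map (pCore p G).subtype)) := by
  set R := pCore p G
  set Φ := (frattini ↥R).map R.subtype
  set K := sectionKernel R Φ
  refine IsPGroup.of_card
    (Nat.eq_prime_pow_of_unique_prime_dvd Nat.card_pos.ne' fun {q} hq hdvd => ?_)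
  by_contra hqp
  have : Fact q.Prime := ⟨hq⟩
  obtain ⟨g, hg⟩ := exists_prime_orderOf_dvd_card' q hdvd
  rw [← orderOf_coe] at hg
  have hR : IsPGroup p R := PCore.isPGroup_pCore
  obtain ⟨k, hk⟩ := IsPGroup.iff_card.mp (hR.to_subgroup (frattini ↥R))
  have h1 : zpowers (g : G) ≤ centralizer (R : Set G) := by
    refine Coprime.le_centralizer_of_frattini (by rw [normalizer_eq_top]; exact le_top) ?_ ?_
    · rw [Nat.card_zpowers, hg, hk]
      exact Nat.Coprime.pow_right _ ((Nat.coprime_primes hq hp.out).mpr hqp)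
    · intro a ha r hr
      have haK : a ∈ K := zpowers_le.mpr g.2 ha
      have := mem_comap.mp haK (QuotientGroup.mk' Φ r) (mem_map_of_mem _ hr)
      refine (QuotientGroup.eq_one_iff _).mp ?_
      show QuotientGroup.mk' Φ (a * r * a⁻¹ * r⁻¹) = 1
      simp only [map_mul, map_inv]
      rw [← this]
      group
  have hmem : (g : G) ∈ R := hc (h1 (mem_zpowers _))
  obtain ⟨j, hj⟩ := hR ⟨g, hmem⟩
  have hdj : q ∣ p ^ j := hg ▸ orderOf_dvd_of_pow_eq_one (congrArg Subtype.val hj)
  exact hqp ((Nat.prime_dvd_prime_iff_eq hq hp.out).mp (hq.dvd_of_dvd_pow hdj))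

theorem normal_stableNormalClosure (hst : IsActionPStable p G)
    (hc : centralizer (pCore p G : Set G) ≤ pCore p G) (S : Sylow p G) :
    ((stableNormalClosure p ↥(S : Subgroup G)).map (S : Subgroup G).subtype).Normal := by
  set W := (stableNormalClosure p ↥(S : Subgroup G)).map (S : Subgroup G).subtype with hW
  set J := thompsonSubgroupOf p (S : Subgroup G) with hJ
  set N := normalizer (J : Set G) with hN
  have hWS : W ≤ (S : Subgroup G) := map_subtype_le _
  have hWE : IsElementaryAbelian p W :=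
    PGroup.isElementaryAbelian_map isElementaryAbelian_stable _
  have hSN : (S : Subgroup G) ≤ N :=
    le_normalizer.trans (normalizer_le_normalizer_thompsonSubgroupOf _)
  -- `S → N` is a stable embedding
  set τ : ↥(S : Subgroup G) →* N := inclusion hSN with hτdef
  have hτN : ∀ U : Subgroup ↥(S : Subgroup G), (U.map τ).map N.subtype = U.map (S : Subgroup G).subtype :=
    fun U => by rw [map_map, hτdef, subtype_comp_inclusion]
  have hOS : pCore p G ≤ (S : Subgroup G) := PCore.pCore_le_sylow S
  have hτ : IsStableEmbedding p τ := by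
    refine ⟨inclusion_injective _, inferInstance, ⟨S.subtype hSN, ?_⟩, ?_, ?_, fun V _ hV => ?_⟩
    · rw [hτdef, inclusion_range]; rfl
    · intro x hx
      refine PCore.pCore_subgroupOf_le N (hc fun r hr => ?_)
      exact congrArg Subtype.val (hx ⟨r, hSN (hOS hr)⟩ (PCore.pCore_subgroupOf_le N hr))
    · have h : (J.subgroupOf N).Normal := normal_subgroupOf_of_le_normalizer le_rfl
      convert h using 1
      apply map_injective N.subtype_injective
      rw [hτN, subgroupOf_map_subtype, inf_eq_left.mpr (le_normalizer.trans hN.ge)]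
      rfl
    · refine hst.2.2 S V ?_
      exact (map_mono hV).trans (hτN _).le
  have hNW : N ≤ normalizer (W : Set G) := by
    have h := map_stable_normal hτ
    have h2 := le_normalizer_map (H := (stableNormalClosure p ↥(S : Subgroup G)).map τ) N.subtype
    rw [normalizer_eq_top, ← MonoidHom.range_eq_map, range_subtype, hτN] at h2
    exact h2
  have hSW : (S : Subgroup G) ≤ normalizer (W : Set G) := hSN.trans hNW
  -- `W ≤ O_p(G)`
  have : ((frattini ↥(pCore p G)).map (pCore p G).subtype).Normal := by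
    have : (frattini ↥(pCore p G)).Characteristic := frattini_characteristic
    exact ConjAct.normal_of_characteristic_of_normal
  have hWO : W ≤ pCore p G := by
    intro w hw
    have hq : ⁅⁅pCore p G, zpowers w⁆, zpowers w⁆ ≤
        (frattini ↥(pCore p G)).map (pCore p G).subtype := by
      refine le_trans ?_ bot_le
      have h1 : ⁅pCore p G, zpowers w⁆ ≤ W := by
        rw [commutator_comm]
        exact (commutator_mono (zpowers_le.mpr hw) le_rfl).trans
          (commutator_le_left (hOS.trans hSW))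
      refine (commutator_mono h1 (zpowers_le.mpr hw)).trans (le_of_eq ?_)
      exact commutator_eq_bot_iff_le_centralizer.mpr fun x hx y hy =>
        commute_mem hWE.1 hy hx
    obtain ⟨D, hDn, hKD, ⟨k, hk⟩, hwD⟩ := hst.2.1 w hq
    have := hDn
    refine PCore.le_pCore ?_ hwD
    obtain ⟨j, hj⟩ := IsPGroup.iff_card.mp (isPGroup_sectionKernel (p := p) hc)
    have h2 := relIndex_mul_relIndex ⊥ _ D bot_le hKD
    rw [relIndex_bot_left, relIndex_bot_left, hj, hk, ← pow_add] at h2
    exact IsPGroup.of_card h2.symm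
  -- `V = ⟨W^G⟩` is elementary abelian
  set V := normalClosure (W : Set G) with hV
  have hWconj : ∀ g : G, ∀ w ∈ W, ∀ v ∈ W, g * w * g⁻¹ * v = v * (g * w * g⁻¹) := by
    intro g w hw v hv
    set y := g * w * g⁻¹ with hy
    have hyO : y ∈ pCore p G := PCore.pCore_normal.conj_mem w (hWO hw) g
    set W' := W.map (MulAut.conj g).toMonoidHom with hW'
    have hWn : W ≤ normalizer (W' : Set G) := by
      intro x hx
      have hx' : g⁻¹ * x * g ∈ normalizer (W : Set G) :=
        hSW (hOS (by simpa using PCore.pCore_normal.conj_mem x (hWO hx) g⁻¹))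
      rw [mem_normalizer_iff] at hx' ⊢
      intro z
      constructor
      · rintro ⟨z', hz', rfl⟩
        refine ⟨_, (hx' z').mp hz', ?_⟩
        show g * (g⁻¹ * x * g * z' * (g⁻¹ * x * g)⁻¹) * g⁻¹ = x * (g * z' * g⁻¹) * x⁻¹
        group
      · rintro ⟨z', hz', hz''⟩
        change g * z' * g⁻¹ = x * z * x⁻¹ at hz''
        refine ⟨g⁻¹ * z * g, (hx' _).mpr ?_, by show g * (g⁻¹ * z * g) * g⁻¹ = z; group⟩
        have e : g⁻¹ * x * g * (g⁻¹ * z * g) * (g⁻¹ * x * g)⁻¹ = z' := by
          calc g⁻¹ * x * g * (g⁻¹ * z * g) * (g⁻¹ * x * g)⁻¹ = g⁻¹ * (x * z * x⁻¹) * g := by group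
            _ = z' := by rw [← hz'']; group
        rw [e]
        exact hz'
    have hq : ⁅⁅W, zpowers y⁆, zpowers y⁆ = ⊥ := by
      have hyW' : zpowers y ≤ W' := zpowers_le.mpr ⟨w, hw, rfl⟩
      have h1 : ⁅W, zpowers y⁆ ≤ W' :=
        (commutator_mono le_rfl hyW').trans ((commutator_comm W W').trans_le (commutator_le_left hWn))
      refine le_bot_iff.mp ((commutator_mono h1 hyW').trans (le_of_eq ?_))
      have hW'E := PGroup.isElementaryAbelian_map hWE (MulAut.conj g).toMonoidHom
      exact commutator_eq_bot_iff_le_centralizer.mpr fun a ha b hb => commute_mem hW'E.1 hb ha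
    have h := commutator_stable_eq_bot_of_quadratic (p := p)
      (quadratic_of_map (S : Subgroup G).subtype_injective (x := ⟨y, hOS hyO⟩) hq)
    obtain ⟨v', hv', rfl⟩ := hv
    exact congrArg Subtype.val ((commutator_eq_bot_iff_le_centralizer.mp h hv') _ (mem_zpowers _))
  have hVcomm : V ≤ centralizer (V : Set G) := by
    refine (closure_le _).mpr fun z hz => ?_
    rw [SetLike.mem_coe]
    suffices V ≤ centralizer {z} from fun v hv => ((this hv) z (Set.mem_singleton z)).symm
    refine (closure_le _).mpr fun z' hz' => ?_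
    obtain ⟨w, hw, hwz⟩ := Group.mem_conjugatesOfSet_iff.mp hz
    obtain ⟨g, rfl⟩ := isConj_iff.mp hwz
    obtain ⟨v, hv, hvz⟩ := Group.mem_conjugatesOfSet_iff.mp hz'
    obtain ⟨k, rfl⟩ := isConj_iff.mp hvz
    rintro _ rfl
    have := hWconj (k⁻¹ * g) w hw v hv
    calc g * w * g⁻¹ * (k * v * k⁻¹) = k * (k⁻¹ * g * w * (k⁻¹ * g)⁻¹ * v) * k⁻¹ := by group
      _ = k * (v * (k⁻¹ * g * w * (k⁻¹ * g)⁻¹)) * k⁻¹ := by rw [this]
      _ = k * v * k⁻¹ * (g * w * g⁻¹) := by group
  have hVE : IsElementaryAbelian p V := by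
    refine PGroup.isElementaryAbelian_of_forall (fun a ha b hb => (hVcomm ha b hb).symm) fun v hv => ?_
    refine closure_induction (p := fun v _ => v ^ p = 1) ?_ (one_pow p) ?_ ?_ hv
    · intro z hz
      obtain ⟨w, hw, hwz⟩ := Group.mem_conjugatesOfSet_iff.mp hz
      obtain ⟨g, rfl⟩ := isConj_iff.mp hwz
      rw [conj_pow, hWE.2 w hw]
      group
    · intro a b ha hb h1 h2
      rw [(show Commute a b from (hVcomm ha b hb).symm).mul_pow, h1, h2, one_mul]
    · intro a _ h1
      rw [inv_pow, h1, inv_one]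
  have hWV : W ≤ V := subset_normalClosure
  have hVS : V ≤ (S : Subgroup G) := (normalClosure_le_normal hWO).trans hOS
  -- elements of `S` quadratic on `V` centralize it
  have hquad : ∀ a ∈ (S : Subgroup G), ⁅⁅V, zpowers a⁆, zpowers a⁆ = ⊥ →
      a ∈ centralizer (V : Set G) := by
    intro a haS ha
    refine le_centralizer_of_pStableOn S le_rfl hWV le_rfl (hst.1 V hVE) ?_ haS ha
    intro b hb hqb y hy
    obtain ⟨y', hy', rfl⟩ := hy
    have h := commutator_stable_eq_bot_of_quadratic (p := p)
      (quadratic_of_map (S : Subgroup G).subtype_injective (x := ⟨b, hb⟩)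
        (quadratic_mono hWV le_rfl hqb))
    exact congrArg Subtype.val ((commutator_eq_bot_iff_le_centralizer.mp h hy') _ (mem_zpowers _))
  have hJV : J ≤ centralizer (V : Set G) := by
    obtain ⟨A, hA, hAS⟩ := exists_max_le_sylow S
    rw [hJ, thompsonSubgroupOf_eq hA hAS]
    refine sSup_le fun B hB => ?_
    rw [le_centralizer_iff, ← commutator_eq_bot_iff_le_centralizer]
    by_contra hne
    refine replacement_nontrivial hVE hB.1 hne ?_
    rw [commutator_eq_bot_iff_le_centralizer, le_centralizer_iff]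
    intro a ha
    refine hquad a ?_ (quadratic_mono le_rfl (zpowers_le.mpr ha) (replacement_quadratic hVE))
    exact sup_le ((commutator_le_left (le_normalizer_of_normal (V := V))).trans hVS)
      (inf_le_left.trans hB.2) ha
  have htop := sup_normalizer_thompson_eq_top S (centralizer (V : Set G)) hJV
  rw [← normalizer_eq_top_iff, eq_top_iff, ← htop]
  exact sup_le ((centralizer_le hWV).trans (centralizer_le_normalizer _)) hNW

end ZJ

end Cfsg.Agent.Offender
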