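import Cfsg.Agent.Lib.Offender.StrongFactor
import Cfsg.Agent.Lib.Offender.SFourFusion

/-!
# A strong functor; a strongly closed abelian subgroup in `S₄`-free groups

* `strongFunctor Q`: the join of the strong normal elementary abelian subgroups inside `Ω₁Z(J(Q))`
* `fus_strongFamily`: with `J` it controls strong fusion, if the constrained sections have
  Suzuki / `PSL₂(3^odd)` factors
* `normalClosure_omegaZ_controls`: `A = ⟨Ω₁Z(S)^{N(J(S))}⟩` is strongly closed and controls strong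
  fusion
-/

set_option autoImplicit false
set_option linter.style.haveILetI false

namespace Cfsg.Agent.Offender

open Subgroup Subnormal
open scoped commutatorElement

universe u

/-- The subgroups of `Q` joined by `strongFunctor`. -/
def strongSet (Q : Type u) [Group Q] : Set (Subgroup Q) :=
  {A | IsElementaryAbelian 2 A ∧
    A ≤ omegaOne 2 (Cfsg.thompsonSubgroup 2 Q ⊓
      centralizer ((Cfsg.thompsonSubgroup 2 Q : Subgroup Q) : Set Q)) ∧
    A.Normal ∧ Strong A ⊤}

/-- The join of the strong normal elementary abelian subgroups inside `Ω₁Z(J(Q))`. -/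
abbrev strongFunctor : ∀ (Q : Type u) [Group Q], Subgroup Q := fun Q _ => sSup (strongSet Q)

theorem map_mem_strongSet {Q R : Type u} [Group Q] [Group R] (e : Q ≃* R) {A : Subgroup Q}
    (hA : A ∈ strongSet Q) : A.map e.toMonoidHom ∈ strongSet R := by
  obtain ⟨h1, h2, h3, h4⟩ := hA
  refine ⟨PGroup.isElementaryAbelian_map h1 _, (map_mono h2).trans ?_, h3.map _ e.surjective, ?_⟩
  · rw [PGroup.map_omegaOne_of_injective e.injective, map_inf _ _ e.toMonoidHom e.injective,
      map_centralizer_equiv, map_thompsonSubgroup]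
  · rw [← Subgroup.map_top_of_surjective e.toMonoidHom e.surjective]
    exact (strong_map_iff e.injective A ⊤).2 h4

theorem isCharPFunctor_strongFunctor : Cfsg.IsCharPFunctor.{u} 2 strongFunctor := by
  haveI : Fact (Nat.Prime 2) := ⟨Nat.prime_two⟩
  refine ⟨fun Q _ _ hQ hn => ?_, fun Q R _ _ _ _ e => ?_⟩
  · haveI := hn
    haveI := hQ.center_nontrivial
    have h2 : 2 ∣ Nat.card ↥(Subgroup.center Q) := by
      obtain ⟨k, hk⟩ := IsPGroup.iff_card.1 (hQ.to_subgroup (Subgroup.center Q))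
      rw [hk]
      refine dvd_pow_self 2 ?_
      rintro rfl
      rw [pow_zero] at hk
      exact absurd hk (Finite.one_lt_card.ne')
    intro h0
    have hmem : omegaOne 2 (Subgroup.center Q) ∈ strongSet Q := by
      have hcc : ∀ z ∈ omegaOne 2 (Subgroup.center Q), ∀ y : Q, y * z = z * y := fun z hz =>
        mem_center_iff.1 (PGroup.omegaOne_le _ hz)
      have he : IsElementaryAbelian 2 (omegaOne 2 (Subgroup.center Q)) :=
        PGroup.isElementaryAbelian_omegaOne
          (PGroup.isMulCommutative_of_forall fun a _ b hb => mem_center_iff.1 hb a)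
      refine ⟨he, fun z hz => PGroup.mem_omegaOne_of_pow_eq_one (mem_inf.2 ⟨?_, fun y _ => hcc z hz y⟩)
        (he.2 z hz), PGroup.omegaOne_normal _, strong_of_le_centralizer fun y _ z hz => (hcc z hz y).symm⟩
      obtain ⟨B, hB⟩ := PGroup.exists_maxElementaryAbelian (G := Q) (p := 2)
      exact le_thompsonSubgroup hB (mem_of_commute_max hB (he.2 z hz) fun b _ => hcc z hz b)
    exact PGroup.omegaOne_ne_bot h2 (eq_bot_iff.2 (h0 ▸ le_sSup hmem))
  · refine le_antisymm ?_ (sSup_le fun B hB => ?_)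
    · rw [map_le_iff_le_comap]
      exact sSup_le fun A hA => map_le_iff_le_comap.1 (le_sSup (map_mem_strongSet e hA))
    · refine le_trans (le_of_eq ?_) (map_mono (le_sSup (map_mem_strongSet e.symm hB)))
      rw [map_map, show e.toMonoidHom.comp e.symm.toMonoidHom = MonoidHom.id _ from
        MonoidHom.ext fun x => e.apply_symm_apply x, map_id]

/-- `{strongFunctor, J}`. -/
abbrev strongFamily : Set (∀ (Q : Type u) [Group Q], Subgroup Q) := {strongFunctor, thompsonFunctor}

theorem isCharPFunctor_strongFamily : ∀ W ∈ strongFamily.{u}, Cfsg.IsCharPFunctor.{u} 2 W := by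
  haveI : Fact (Nat.Prime 2) := ⟨Nat.prime_two⟩
  rintro W (rfl | rfl)
  exacts [isCharPFunctor_strongFunctor, ConjFun.isCharPFunctor_thompson]

variable {G : Type u} [Group G] [Finite G]

/-- `strongFunctor` inside `G`. -/
abbrev strongOf (P : Subgroup G) : Subgroup G := Cfsg.inducedFunctor (G := G) strongFunctor P

theorem map_omega_thompson (P : Subgroup G) :
    (omegaOne 2 (Cfsg.thompsonSubgroup 2 ↥P ⊓
      centralizer ((Cfsg.thompsonSubgroup 2 ↥P : Subgroup ↥P) : Set ↥P))).map P.subtype =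
      omegaZ 2 (thompsonSubgroupOf 2 P) := by
  rw [PGroup.map_omegaOne_of_injective P.subtype_injective, omegaZ]
  congr 1
  ext x
  constructor
  · rintro ⟨y, ⟨hy, hc⟩, rfl⟩
    refine ⟨⟨y, hy, rfl⟩, ?_⟩
    rintro _ ⟨z, hz, rfl⟩
    exact congrArg Subtype.val (hc z hz)
  · rintro ⟨⟨y, hy, rfl⟩, hc⟩
    exact ⟨y, ⟨hy, fun z hz => Subtype.ext (hc (z : G) ⟨z, hz, rfl⟩)⟩, rfl⟩

theorem le_strongOf {P A : Subgroup G} (hAe : IsElementaryAbelian 2 A)
    (hle : A ≤ omegaZ 2 (thompsonSubgroupOf 2 P)) (hn : P ≤ normalizer (A : Set G))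
    (hs : Strong A P) : A ≤ strongOf P := by
  have hAP : A ≤ P :=
    hle.trans ((PGroup.omegaOne_le _).trans (inf_le_left.trans (thompsonSubgroupOf_le P)))
  rw [← map_subgroupOf_eq_of_le hAP]
  refine map_mono (le_sSup ⟨PGroup.isElementaryAbelian_comap hAe P.subtype_injective, ?_,
    (normal_subgroupOf_iff_le_normalizer hAP).2 hn, ?_⟩)
  · rw [← map_le_map_iff_of_injective P.subtype_injective, map_subgroupOf_eq_of_le hAP,
      map_omega_thompson]
    exact hle
  · rw [← strong_map_iff P.subtype_injective, map_subgroupOf_eq_of_le hAP, ← MonoidHom.range_eq_map,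
      range_subtype]
    exact hs

theorem strongOf_spec (P : Subgroup G) :
    IsElementaryAbelian 2 (strongOf P) ∧ strongOf P ≤ omegaZ 2 (thompsonSubgroupOf 2 P) ∧
      P ≤ normalizer ((strongOf P : Subgroup G) : Set G) ∧ Strong (strongOf P) P := by
  haveI : Fact (Nat.Prime 2) := ⟨Nat.prime_two⟩
  have hXe : IsElementaryAbelian 2 (omegaOne 2 (Cfsg.thompsonSubgroup 2 ↥P ⊓
      centralizer ((Cfsg.thompsonSubgroup 2 ↥P : Subgroup ↥P) : Set ↥P))) :=
    PGroup.isElementaryAbelian_omegaOne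
      (PGroup.isMulCommutative_of_forall fun a ha b hb => (mem_centralizer_iff.1 ha.2 b hb.1).symm)
  obtain ⟨hle, hst⟩ := strong_sSup (T := ⊤) hXe.1 (strongSet ↥P) fun A hA => ⟨hA.2.1, hA.2.2.2⟩
  have hn : (sSup (strongSet ↥P)).Normal := by
    rw [← normalizer_eq_top_iff, eq_top_iff]
    intro x _
    refine mem_normalizer_of_cj_le ?_
    rw [cj, map_le_iff_le_comap]
    exact sSup_le fun A hA => map_le_iff_le_comap.1
      ((cj_eq_of_mem_normalizer ((normalizer_eq_top_iff.2 hA.2.2.1).symm ▸ mem_top x)).le.trans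
        (le_sSup hA))
  refine ⟨PGroup.isElementaryAbelian_map (PGroup.isElementaryAbelian_mono hXe hle) _, ?_, ?_, ?_⟩
  · rw [← map_omega_thompson]
    exact map_mono hle
  · refine (normal_subgroupOf_iff_le_normalizer (map_subtype_le _)).1 ?_
    show (((sSup (strongSet ↥P)).map P.subtype).comap P.subtype).Normal
    rwa [comap_map_eq_self_of_injective P.subtype_injective]
  · have := (strong_map_iff P.subtype_injective (sSup (strongSet ↥P)) ⊤).2 hst
    rwa [← MonoidHom.range_eq_map, range_subtype] at this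

theorem fus_strongFamily (hfree : ¬ Cfsg.Involves (Equiv.Perm (Fin 4)) G)
    (hsec : ∀ (K R : Subgroup G) [_hR : (R.subgroupOf K).Normal],
      centralizer (Cfsg.pCore 2 (K ⧸ R.subgroupOf K) : Set (K ⧸ R.subgroupOf K)) ≤
        Cfsg.pCore 2 (K ⧸ R.subgroupOf K) →
      Cfsg.IsCompositionKGroupWith Cfsg.IsSuzukiOrPSL2OddPowerThree (K ⧸ R.subgroupOf K)) :
    Transfer.Fus 2 strongFamily G := by
  haveI : Fact (Nat.Prime 2) := ⟨Nat.prime_two⟩
  refine Transfer.fus_of_constrained_sections isCharPFunctor_strongFamily (fun K R _ hC => ?_) G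
    (ConjFun.involves_refl G)
  obtain ⟨T⟩ : Nonempty (Sylow 2 (↥K ⧸ R.subgroupOf K)) := inferInstance
  refine Transfer.fus_of_factor isCharPFunctor_strongFamily (Or.inl rfl) (Or.inr rfl) T fun x => ?_
  have hf : ¬ Cfsg.Involves (Equiv.Perm (Fin 4)) (↥K ⧸ R.subgroupOf K) := fun h =>
    hfree (ConjFun.involves_trans h (ConjFun.involves_of_section K R))
  obtain ⟨hPe, hPle, hPn, hPst⟩ := strongOf_spec (T : Subgroup (↥K ⧸ R.subgroupOf K))
  obtain ⟨V, hVn, -, hPV, -, hVC⟩ := exists_normal_of_strong hf hC (hsec K R hC) T hPe hPn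
    (hPle.trans ((PGroup.omegaOne_le _).trans inf_le_right)) hPst
  haveI := hVn
  have htop := sup_normalizer_thompson_eq_top T
    (centralizer (V : Set (↥K ⧸ R.subgroupOf K))) (le_centralizer_iff.1 hVC)
  obtain ⟨c, hc, n, hn, rfl⟩ := mem_sup_of_normal_left.mp (htop.ge (mem_top x))
  exact ⟨c, centralizer_le_normalizer _ (centralizer_le hPV hc), n, hn, rfl⟩

/-- A Sylow subgroup meets a normalized subgroup in a Sylow subgroup; Frattini. -/
theorem sylow_inf_frattini (S : Sylow 2 G) {M C : Subgroup G} (hSM : (S : Subgroup G) ≤ M)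
    (hCM : C ≤ M) (hMC : M ≤ normalizer (C : Set G)) :
    ¬ 2 ∣ ((S : Subgroup G) ⊓ C).relIndex C ∧
      ∀ m ∈ M, ∃ c ∈ C, ∃ n ∈ M,
        n ∈ normalizer (((S : Subgroup G) ⊓ C : Subgroup G) : Set G) ∧ m = c * n := by
  haveI : Fact (Nat.Prime 2) := ⟨Nat.prime_two⟩
  haveI : (C.subgroupOf M).Normal := (normal_subgroupOf_iff_le_normalizer hCM).2 hMC
  obtain ⟨P, hP⟩ := exists_sylow_eq_inf (S.subtype hSM) (C.subgroupOf M)
  have he : ((S.subtype hSM : Sylow 2 M) : Subgroup M) ⊓ C.subgroupOf M =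
      ((S : Subgroup G) ⊓ C).subgroupOf M := by
    rw [Sylow.coe_subtype]
    exact (comap_inf _ _ _).symm
  rw [he] at hP
  refine ⟨?_, fun m hm => ?_⟩
  · rw [← relIndex_subgroupOf hCM, ← hP]
    show ¬ 2 ∣ (((P : Subgroup ↥(C.subgroupOf M)).map (C.subgroupOf M).subtype).comap
      (C.subgroupOf M).subtype).index
    rw [comap_map_eq_self_of_injective (C.subgroupOf M).subtype_injective]
    exact P.not_dvd_index
  · have hfr := P.normalizer_sup_eq_top (N := C.subgroupOf M)
    rw [hP] at hfr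
    obtain ⟨c, hc, n, hn, hg⟩ := mem_sup_of_normal_left.mp
      ((sup_comm _ _).trans hfr |>.ge (mem_top (⟨m, hm⟩ : ↥M)))
    refine ⟨c, hc, n, n.2, ?_, (congrArg Subtype.val hg).symm⟩
    have := le_normalizer_map M.subtype ⟨n, hn, rfl⟩
    rwa [map_subgroupOf_eq_of_le (inf_le_right.trans hCM)] at this

/-- A 2-element of `C` normalizing the Sylow subgroup `T` of `C` lies in `T`. -/
theorem mem_of_sylow_normalizer {C T : Subgroup G} (hTC : T ≤ C) (hT : IsPGroup 2 T)
    (hTi : ¬ 2 ∣ T.relIndex C) {x : G} (hx : x ∈ C) (hxT : x ∈ normalizer (T : Set G))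
    (h2 : ∃ k, x ^ 2 ^ k = 1) : x ∈ T := by
  haveI : Fact (Nat.Prime 2) := ⟨Nat.prime_two⟩
  obtain ⟨k, hk⟩ := h2
  have hxp : IsPGroup 2 ↥(zpowers x) := by
    rintro ⟨_, i, rfl⟩
    refine ⟨k, Subtype.ext ?_⟩
    rw [SubgroupClass.coe_pow, ← zpow_natCast, ← zpow_mul, mul_comm, zpow_mul, zpow_natCast, hk,
      one_zpow]
    rfl
  have hp : IsPGroup 2 ↥(T ⊔ zpowers x) := hT.to_sup_of_normal_left' hxp (zpowers_le.2 hxT)
  have hle : T ⊔ zpowers x ≤ C := sup_le hTC (zpowers_le.2 hx)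
  obtain ⟨n, hn⟩ := IsPGroup.iff_card.1 hp
  obtain ⟨i, -, hi⟩ := (Nat.dvd_prime_pow Nat.prime_two).1 (hn ▸ relIndex_dvd_card T (T ⊔ zpowers x))
  have hi0 : i = 0 := by
    by_contra h
    exact hTi (((dvd_pow_self 2 h).trans hi.symm.dvd).trans (relIndex_dvd_of_le_left' le_sup_left hle))
  rw [hi0, pow_zero, relIndex_eq_one] at hi
  exact hi (mem_sup_right (mem_zpowers x))

omit [Finite G] in
/-- A chain through subgroups of `M` is induced by an element of `M`. -/
theorem exists_mem_of_lchain {𝓛 : Set (Subgroup G)} {T M : Subgroup G} (hM : ∀ L ∈ 𝓛, L ≤ M)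
    {A : Set G} {g : G} (h : Transfer.LChain 𝓛 T A g) :
    ∃ x ∈ M, ∀ a ∈ A, g * a * g⁻¹ = x * a * x⁻¹ := by
  induction h with
  | one h1 => exact ⟨1, one_mem _, fun a ha => by rw [h1 a ha]; group⟩
  | @step A g y h L hL hy _ _ hg ih =>
    obtain ⟨x, hx, he⟩ := ih
    refine ⟨x * y, mul_mem hx (hM L hL hy), fun a ha => ?_⟩
    rw [hg a ha, he _ ⟨a, ha, rfl⟩]
    group

set_option maxHeartbeats 1600000 in
/-- **A strongly closed abelian subgroup.** -/
theorem normalClosure_omegaZ_controls (hfree : ¬ Cfsg.Involves (Equiv.Perm (Fin 4)) G)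
    (hsec : ∀ (K R : Subgroup G) [_hR : (R.subgroupOf K).Normal],
      centralizer (Cfsg.pCore 2 (K ⧸ R.subgroupOf K) : Set (K ⧸ R.subgroupOf K)) ≤
        Cfsg.pCore 2 (K ⧸ R.subgroupOf K) →
      Cfsg.IsCompositionKGroupWith Cfsg.IsSuzukiOrPSL2OddPowerThree (K ⧸ R.subgroupOf K))
    (S : Sylow 2 G) (N : Subgroup G)
    (hN : N = normalizer (thompsonSubgroupOf 2 (S : Subgroup G) : Set G)) (A : Subgroup G)
    (hA : A = (Subgroup.normalClosure
      (((omegaZ 2 (S : Subgroup G)).subgroupOf N : Subgroup ↥N) : Set ↥N)).map N.subtype) :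
    A ≤ S ∧ IsElementaryAbelian 2 A ∧ Cfsg.IsStronglyClosed A (S : Subgroup G) ∧
      Cfsg.ControlsStrongFusion 2 A := by
  haveI : Fact (Nat.Prime 2) := ⟨Nat.prime_two⟩
  set J := thompsonSubgroupOf 2 (S : Subgroup G) with hJ
  have hJS : J ≤ (S : Subgroup G) := thompsonSubgroupOf_le _
  obtain ⟨B₀, hB₀, hB₀S⟩ := exists_max_le_sylow S
  have hSN : (S : Subgroup G) ≤ N := by
    rw [hN]; exact le_normalizer.trans (normalizer_le_normalizer_thompsonSubgroupOf _)
  have hZS : omegaZ 2 (S : Subgroup G) ≤ (S : Subgroup G) := (PGroup.omegaOne_le _).trans inf_le_left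
  have hZe : IsElementaryAbelian 2 (omegaZ 2 (S : Subgroup G)) := PGroup.isElementaryAbelian_omegaOne
    (PGroup.isMulCommutative_of_forall fun a ha b hb => (mem_centralizer_iff.1 ha.2 b hb.1).symm)
  have hZ1 : omegaZ 2 (S : Subgroup G) ≤ omegaZ 2 J := fun x hx => by
    have hxc : x ∈ centralizer (J : Set G) := centralizer_le hJS ((PGroup.omegaOne_le _ hx).2)
    exact PGroup.mem_omegaOne_of_pow_eq_one
      (mem_inf.2 ⟨mem_thompsonSubgroupOf_of_commute S (hZe.2 x hx) hxc, hxc⟩) (hZe.2 x hx)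
  have hZ1N : omegaZ 2 J ≤ N :=
    ((PGroup.omegaOne_le _).trans (inf_le_left.trans hJS)).trans hSN
  haveI : ((omegaZ 2 J).subgroupOf N).Normal := (normal_subgroupOf_iff_le_normalizer hZ1N).2
    (hN.le.trans (normalizer_le_normalizer_omegaZ 2 J))
  set A₀ := Subgroup.normalClosure
    (((omegaZ 2 (S : Subgroup G)).subgroupOf N : Subgroup ↥N) : Set ↥N) with hA₀
  haveI hA₀n : A₀.Normal := Subgroup.normalClosure_normal
  have hAle : A ≤ omegaZ 2 J := by
    rw [hA, map_le_iff_le_comap]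
    exact Subgroup.normalClosure_le_normal (N := (omegaZ 2 J).subgroupOf N) fun x hx => hZ1 hx
  have hAJ : A ≤ J := hAle.trans ((PGroup.omegaOne_le _).trans inf_le_left)
  have hZJe : IsElementaryAbelian 2 (omegaZ 2 J) := PGroup.isElementaryAbelian_omegaOne
    (PGroup.isMulCommutative_of_forall fun a ha b hb => (mem_centralizer_iff.1 ha.2 b hb.1).symm)
  have hAe : IsElementaryAbelian 2 A := PGroup.isElementaryAbelian_mono hZJe hAle
  have hNA : N ≤ normalizer (A : Set G) := fun n hn => by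
    rw [hA]
    exact le_normalizer_map N.subtype
      ⟨⟨n, hn⟩, by rw [SetLike.mem_coe, normalizer_eq_top]; exact mem_top _, rfl⟩
  -- strength of `A`
  have hAst : Strong A (S : Subgroup G) := by
    have hA₀e : IsElementaryAbelian 2 A₀ := by
      rw [hA] at hAe
      have := PGroup.isElementaryAbelian_comap hAe N.subtype_injective
      rwa [comap_map_eq_self_of_injective N.subtype_injective] at this
    have hgen : A₀ ≤ ⨆ T : Sylow 2 ↥N, A₀ ⊓ centralizer ((T : Subgroup ↥N) : Set ↥N) := by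
      refine (closure_le _).2 fun x hx => ?_
      have hxA : x ∈ A₀ := subset_closure hx
      obtain ⟨z, hz, hconj⟩ := Group.mem_conjugatesOfSet_iff.1 hx
      obtain ⟨h, rfl⟩ := isConj_iff.1 hconj
      refine le_iSup (fun T : Sylow 2 ↥N => A₀ ⊓ centralizer ((T : Subgroup ↥N) : Set ↥N))
        (h • S.subtype hSN) (mem_inf.2 ⟨hxA, ?_⟩)
      have hzc : z ∈ centralizer (((S.subtype hSN : Sylow 2 ↥N) : Subgroup ↥N) : Set ↥N) := fun y hy =>
        Subtype.ext ((PGroup.omegaOne_le _ (mem_subgroupOf.1 hz)).2 (y : G) hy)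
      rintro _ ⟨y, hy, rfl⟩
      show h * y * h⁻¹ * (h * z * h⁻¹) = h * z * h⁻¹ * (h * y * h⁻¹)
      calc h * y * h⁻¹ * (h * z * h⁻¹) = h * (y * z) * h⁻¹ := by group
        _ = h * (z * y) * h⁻¹ := by rw [hzc y hy]
        _ = _ := by group
    have hO : pCore 2 (↥N ⧸ centralizer (A₀ : Set ↥N)) = ⊥ := pCore_quotient_centralizer_eq_bot hgen
    -- a constrained section covering `N / C_N(A)`
    set D := N ⊓ centralizer (J : Set G) with hD
    have hND : N ≤ normalizer (D : Set G) :=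
      LocalStructure.le_normalizer_inf le_normalizer (LocalStructure.le_normalizer_centralizer hN.le)
    obtain ⟨hDi, hDfr⟩ := sylow_inf_frattini S hSN inf_le_left hND
    set PD := (S : Subgroup G) ⊓ D with hPD
    set K := N ⊓ normalizer (PD : Set G) with hK
    have hSK : (S : Subgroup G) ≤ K :=
      le_inf hSN (LocalStructure.le_normalizer_inf le_normalizer (hSN.trans hND))
    set Q0 := J ⊔ PD with hQ0
    have hQ0S : Q0 ≤ (S : Subgroup G) := sup_le hJS inf_le_left
    have hKQ0 : K ≤ normalizer (Q0 : Set G) :=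
      LocalStructure.le_normalizer_sup (inf_le_left.trans hN.le) inf_le_right
    set CK := K ⊓ centralizer (Q0 : Set G) with hCK
    have hCKD : CK ≤ D :=
      le_inf (inf_le_left.trans inf_le_left) (inf_le_right.trans (centralizer_le (SetLike.coe_subset_coe.mpr (le_sup_left : J ≤ Q0))))
    have hKCK : K ≤ normalizer (CK : Set G) :=
      LocalStructure.le_normalizer_inf le_normalizer (LocalStructure.le_normalizer_centralizer hKQ0)
    have hCK2 : ∀ x ∈ CK, (∃ k, x ^ 2 ^ k = 1) → x ∈ Q0 := fun x hx h2 =>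
      mem_sup_right (mem_of_sylow_normalizer inf_le_right (S.2.to_le inf_le_left) hDi (hCKD hx)
        (mem_inf.1 (mem_inf.1 hx).1).2 h2)
    set O := (Cfsg.pPrimeCore 2 ↥CK).map CK.subtype with hO'
    have hOCK : O ≤ CK := map_subtype_le _
    have hKO : K ≤ normalizer (O : Set G) :=
      hKCK.trans (Components.normalizer_le_normalizer_map_of_characteristic CK _)
    have hCKQO : CK ≤ Q0 ⊔ O := by
      intro x hx
      let R : Sylow 2 ↥CK := default
      have hRQ : ∀ r ∈ (R : Subgroup ↥CK), (r : G) ∈ Q0 := fun r hr => by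
        obtain ⟨k, hk⟩ := R.2 ⟨r, hr⟩
        refine hCK2 r r.2 ⟨k, ?_⟩
        simpa using congrArg (fun t : ↥(R : Subgroup ↥CK) => ((t : ↥CK) : G)) hk
      have hle : normalizer ((R : Subgroup ↥CK) : Set ↥CK) ≤
          centralizer ((R : Subgroup ↥CK) : Set ↥CK) := fun y _ r hr =>
        Subtype.ext ((mem_inf.1 y.2).2 (r : G) (hRQ r hr))
      have hcompl := MonoidHom.ker_transferSylow_isComplement' R hle
      set O₀ := (MonoidHom.transferSylow R hle).ker with hO₀
      have hO₀c : (Nat.card ↥O₀).Coprime 2 := by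
        rw [← hcompl.index_eq_card]
        exact (Nat.prime_two.coprime_iff_not_dvd.2 R.not_dvd_index).symm
      have hx' : (⟨x, hx⟩ : ↥CK) ∈ (R : Subgroup ↥CK) ⊔ O₀ := by
        rw [sup_comm, hcompl.sup_eq_top]; exact mem_top _
      obtain ⟨r, hr, o, ho, hro⟩ := mem_sup_of_normal_right.1 hx'
      have he : x = (r : G) * o := (congrArg Subtype.val hro).symm
      rw [he]
      exact mul_mem (mem_sup_left (hRQ r hr))
        (mem_sup_right ⟨o, PCore.le_pPrimeCore hO₀c ho, rfl⟩)
    haveI hOK : (O.subgroupOf K).Normal :=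
      (normal_subgroupOf_iff_le_normalizer (hOCK.trans inf_le_left)).2 hKO
    have hQ0K : Q0 ≤ K := hQ0S.trans hSK
    have hXC : centralizer (Cfsg.pCore 2 (↥K ⧸ O.subgroupOf K) : Set (↥K ⧸ O.subgroupOf K)) ≤
        Cfsg.pCore 2 (↥K ⧸ O.subgroupOf K) := by
      set μ := QuotientGroup.mk' (O.subgroupOf K) with hμ
      haveI : (Q0.subgroupOf K).Normal := (normal_subgroupOf_iff_le_normalizer hQ0K).2 hKQ0
      haveI : ((Q0.subgroupOf K).map μ).Normal :=
        Subgroup.Normal.map inferInstance μ (QuotientGroup.mk'_surjective _)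
      have hQb : (Q0.subgroupOf K).map μ ≤ Cfsg.pCore 2 (↥K ⧸ O.subgroupOf K) :=
        PCore.le_pCore (((S.2.to_le hQ0S).comap_of_injective K.subtype K.subtype_injective).map μ)
      have hdisj : Disjoint Q0 O := PCore.disjoint_of_isPGroup_of_coprime (S.2.to_le hQ0S) (by
        rw [hO', card_map_of_injective CK.subtype_injective]; exact PCore.coprime_card_pPrimeCore)
      intro xb hxb
      obtain ⟨k, rfl⟩ := QuotientGroup.mk'_surjective (O.subgroupOf K) xb
      refine hQb ?_
      have hkC : (k : G) ∈ centralizer (Q0 : Set G) := fun q hq => by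
        have h1 : μ ⟨q, hQ0K hq⟩ * μ k = μ k * μ ⟨q, hQ0K hq⟩ :=
          hxb _ (hQb ⟨⟨q, hQ0K hq⟩, hq, rfl⟩)
        rw [← map_mul, ← map_mul] at h1
        have h2' : (k * ⟨q, hQ0K hq⟩)⁻¹ * ((⟨q, hQ0K hq⟩ : ↥K) * k) ∈ O.subgroupOf K :=
          QuotientGroup.eq.1 h1.symm
        have h2 : ((k : G) * q)⁻¹ * (q * k) ∈ O := mem_subgroupOf.1 h2'
        have h3 : ((k : G) * q)⁻¹ * (q * k) ∈ Q0 := by
          have hq' : (k : G)⁻¹ * q * k ∈ Q0 := by
            simpa using (mem_normalizer_iff.1 (hKQ0 (inv_mem k.2)) q).1 hq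
          have := mul_mem (inv_mem hq) hq'
          convert this using 1
          group
        exact (inv_mul_eq_one.1 (disjoint_def.1 hdisj h3 h2)).symm
      have hnorm : Q0 ≤ normalizer (O : Set G) := hQ0K.trans hKO
      obtain ⟨q, hq, o, ho, hk⟩ := (Coprime.mem_sup_iff_of_le_normalizer hnorm).1
        (hCKQO (mem_inf.2 ⟨k.2, hkC⟩))
      refine ⟨⟨q, hQ0K hq⟩, hq, QuotientGroup.eq.2 ?_⟩
      rw [mem_subgroupOf]
      show q⁻¹ * (k : G) ∈ O
      rw [← hk, inv_mul_cancel_left]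
      exact ho
    -- pass to `N / C_N(A)`
    set C₀ := centralizer (A₀ : Set ↥N) with hC₀
    have hDC : ∀ d : ↥N, (d : G) ∈ D → d ∈ C₀ := fun d hd a ha =>
      Subtype.ext ((centralizer_le hAJ (mem_inf.1 hd).2) (a : G) (hA.ge ⟨a, ha, rfl⟩))
    have hc : Cfsg.IsCompositionKGroupWith Cfsg.IsSuzukiOrPSL2OddPowerThree (↥N ⧸ C₀) := by
      let φ : ↥K →* ↥N ⧸ C₀ := (QuotientGroup.mk' C₀).comp (inclusion inf_le_left)
      refine compositionK_of_surjective (QuotientGroup.lift (O.subgroupOf K) φ ?_) ?_ (hsec K O hXC)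
      · intro o ho
        rw [MonoidHom.mem_ker]
        exact (QuotientGroup.eq_one_iff _).2 (hDC _ (hCKD (hOCK ho)))
      · intro xb
        obtain ⟨m, rfl⟩ := QuotientGroup.mk'_surjective C₀ xb
        obtain ⟨d, hd, n, hn, hnP, hm⟩ := hDfr m m.2
        refine ⟨QuotientGroup.mk (⟨n, mem_inf.2 ⟨hn, hnP⟩⟩ : ↥K), ?_⟩
        refine QuotientGroup.eq.2 ?_
        show (⟨n, hn⟩ : ↥N)⁻¹ * m ∈ C₀
        refine hDC _ ?_
        show n⁻¹ * (m : G) ∈ D
        rw [hm, ← mul_assoc]
        simpa using (mem_normalizer_iff.1 (hND (inv_mem hn)) d).1 hd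
    have hf : ¬ Cfsg.Involves (Equiv.Perm (Fin 4)) ↥N := fun h =>
      hfree (PComplement.involves_of_subgroup h)
    have h1 := (strong_map_iff N.subtype_injective A₀ ⊤).2 (eStrong_of_normal hf hA₀e hO hc).strong
    rw [← MonoidHom.range_eq_map, range_subtype, ← hA] at h1
    exact h1.mono hSN
  -- the normalizer of the strong functor
  set P := strongOf (S : Subgroup G) with hP
  obtain ⟨hPe, hPle, hPn, -⟩ := strongOf_spec (S : Subgroup G)
  have hAP : A ≤ P := le_strongOf hAe hAle (hSN.trans hNA) hAst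
  have hPA : normalizer (P : Set G) ≤ normalizer (A : Set G) := by
    obtain ⟨-, hfr⟩ := sylow_inf_frattini S (M := normalizer (P : Set G))
      (C := centralizer (P : Set G)) hPn (centralizer_le_normalizer _)
      (LocalStructure.le_normalizer_centralizer le_rfl)
    intro g hg
    obtain ⟨c, hc, n, -, hn, rfl⟩ := hfr g hg
    refine mul_mem (centralizer_le_normalizer _ (centralizer_le hAP hc)) (hNA ?_)
    rw [hN, hJ, ← thompsonSubgroupOf_eq_of_le hB₀ hB₀S
      (inf_le_left : (S : Subgroup G) ⊓ centralizer (P : Set G) ≤ _)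
      (le_inf hJS (le_centralizer_iff.1 (hPle.trans ((PGroup.omegaOne_le _).trans inf_le_right))))]
    exact normalizer_le_normalizer_thompsonSubgroupOf _ hn
  have hL : ∀ L ∈ Transfer.functorNormalizers (Transfer.sectionFamily strongFamily G) ⊤
      (S : Subgroup G), L ≤ normalizer (A : Set G) := by
    rintro L ⟨_, ⟨W, hW, rfl⟩, rfl⟩
    rcases hW with rfl | rfl
    · exact inf_le_right.trans hPA
    · exact inf_le_right.trans (hN.ge.trans hNA)
  have key : ∀ (X : Set G) (g : G), (∀ a ∈ X, a ∈ (S : Subgroup G)) →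
      (∀ a ∈ X, g * a * g⁻¹ ∈ (S : Subgroup G)) →
      ∃ x ∈ normalizer (A : Set G), ∀ a ∈ X, g * a * g⁻¹ = x * a * x⁻¹ := fun X g hX hXg =>
    exists_mem_of_lchain hL (Transfer.lchain_of_familyControlsStrongFusionIn
      (Transfer.isConjugacyFunctor_sectionFamily isCharPFunctor_strongFamily) le_top S.2
      (by rw [relIndex_top_right]; exact S.not_dvd_index) (fus_strongFamily hfree hsec) (mem_top g)
      hX hXg)
  have hAS : A ≤ (S : Subgroup G) := hAJ.trans hJS
  refine ⟨hAS, hAe, ⟨hAS, fun x hx g hg => ?_⟩, S, hAS, fun X hX => ⟨hX, fun g hg => ?_⟩⟩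
  · obtain ⟨n, hn, he⟩ := key {x} g (by simpa using hAS hx) (by simpa using hg)
    rw [he x rfl]
    exact (mem_normalizer_iff.1 hn x).1 hx
  · exact key X g hX fun a ha => hg ⟨a, ha, rfl⟩

end Cfsg.Agent.Offender
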