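import Cfsg.Agent.Lib.Offender.Transvection
import Cfsg.Agent.Lib.Offender.Factorization
import Cfsg.Agent.Lib.Quadratic.Pair
import Cfsg.Agent.Lib.GL.Basic
import Cfsg.Agent.Lib.GL.Simple
import Cfsg.Agent.Lib.LocalStructure.Basic

/-!
# Failure of factorization: the planes

A transvection group `A` and a conjugate of it under an element of `Q = O_{p'}(H)` generate `SL(2, p)`,
`p ∈ {2, 3}`, on a plane `W` with `V = W × C_V`, and all `Q`-conjugates of `A` lie there.

* `trivOn`, `mem_centralizer_of_chain`: coprime elements stabilizing a chain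
* `Pair`, `Pair.not_commute`, `Pair.exists_iso`, `Pair.p_le_three`, `Pair.conj_mem`
* `eSub`, `FF.exists_pair`, `Pair.eSub_eq`, `FF.le_or_commute`, `FF.eSub_eq_of_le`
-/

set_option autoImplicit false

namespace Cfsg.Agent.Offender

open Subgroup
open scoped commutatorElement MatrixGroups

universe u

variable {G : Type u} [Group G] {p : ℕ}

/-- The elements normalizing `W` and acting trivially on `V / W`. -/
def trivOn (V W : Subgroup G) : Subgroup G where
  carrier := {x | x ∈ normalizer (W : Set G) ∧ ∀ v ∈ V, ⁅v, x⁆ ∈ W}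
  one_mem' := ⟨one_mem _, fun v _ => by simp [commutatorElement_def]⟩
  mul_mem' := by
    rintro x y ⟨hx, hx'⟩ ⟨hy, hy'⟩
    refine ⟨mul_mem hx hy, fun v hv => ?_⟩
    rw [show ⁅v, x * y⁆ = ⁅v, x⁆ * (x * ⁅v, y⁆ * x⁻¹) by simp only [commutatorElement_def]; group]
    exact mul_mem (hx' v hv) ((mem_normalizer_iff.mp hx _).mp (hy' v hv))
  inv_mem' := by
    rintro x ⟨hx, hx'⟩
    refine ⟨inv_mem hx, fun v hv => ?_⟩
    rw [show ⁅v, x⁻¹⁆ = x⁻¹ * ⁅v, x⁆⁻¹ * x by simp only [commutatorElement_def]; group]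
    exact (mem_normalizer_iff''.mp hx _).mp (inv_mem (hx' v hv))

theorem mem_trivOn [Finite G] {V W : Subgroup G} (hWV : W ≤ V) {x : G}
    (hx : ∀ v ∈ V, ⁅v, x⁆ ∈ W) : x ∈ trivOn V W := by
  refine ⟨Subnormal.mem_normalizer_of_cj_le ?_, hx⟩
  rintro _ ⟨w, hw, rfl⟩
  show x * w * x⁻¹ ∈ W
  rw [show x * w * x⁻¹ = w * ⁅w⁻¹, x⁆ by simp only [commutatorElement_def]; group]
  exact mul_mem hw (hx _ (hWV (inv_mem hw)))

theorem commutator_le_of_le_trivOn {V W X : Subgroup G} (h : X ≤ trivOn V W) : ⁅V, X⁆ ≤ W :=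
  commutator_le.mpr fun v hv x hx => (h hx).2 v hv

/-- An element of order prime to `p` stabilizing `V ≥ W ≥ 1` centralizes `V`. -/
theorem mem_centralizer_of_chain [Finite G] {V W : Subgroup G}
    (hV : IsElementaryAbelian p V) (hWV : W ≤ V) {y : G} (hy : (orderOf y).Coprime p)
    (h1 : y ∈ trivOn V W) (h2 : y ∈ centralizer (W : Set G)) : y ∈ centralizer (V : Set G) := by
  have hn : zpowers y ≤ normalizer (V : Set G) := by
    refine zpowers_le.mpr (Subnormal.mem_normalizer_of_cj_le ?_)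
    rintro _ ⟨v, hv, rfl⟩
    show y * v * y⁻¹ ∈ V
    rw [show y * v * y⁻¹ = v * ⁅v⁻¹, y⁆ by simp only [commutatorElement_def]; group]
    exact mul_mem hv (hWV (h1.2 _ (inv_mem hv)))
  have hq : ⁅⁅V, zpowers y⁆, zpowers y⁆ = ⊥ :=
    commutator_eq_bot_iff_le_centralizer.mpr ((commutator_le_of_le_trivOn (zpowers_le.mpr h1)).trans
      (le_centralizer_iff.mp (zpowers_le.mpr h2)))
  have h := pow_mem_centralizer_of_quadratic hV hn hq (mem_zpowers y)
  obtain ⟨m, hm⟩ := exists_pow_eq_self_of_coprime (x := y) (n := p) hy.symm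
  rw [← hm]
  exact pow_mem h m

section Conj

variable [Finite G] [hp : Fact p.Prime] {V A : Subgroup G}

theorem IsTv.conj (hT : IsTv p V A) {g : G} (hg : g ∈ normalizer (V : Set G)) :
    IsTv p V (A.map (MulAut.conj g).toMonoidHom) := by
  have hinj : Function.Injective (MulAut.conj g).toMonoidHom := (MulAut.conj g).injective
  refine ⟨by rw [card_map_of_injective hinj, hT.1], ?_⟩
  have hV : V.map (MulAut.conj g).toMonoidHom = V := Subnormal.cj_eq_of_mem_normalizer hg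
  rw [← map_centralizer_equiv]
  conv_rhs => rw [← hV, ← map_inf _ _ _ hinj, card_map_of_injective hinj]
  exact hT.2

end Conj

/-- `A = ⟨a⟩` is a transvection group with `[V, A] = ⟨e⟩`. -/
structure Line (p : ℕ) (V A : Subgroup G) (a e : G) : Prop where
  tv : IsTv p V A
  gen : A = zpowers a
  order_a : orderOf a = p
  mem : e ∈ V
  order_e : orderOf e = p
  comm : ⁅V, A⁆ = zpowers e
  commute : Commute a e

/-- A transvection group and an element of `Q` not commuting with it. -/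
structure Pair (p : ℕ) (V H A : Subgroup G) (a e x : G) : Prop extends Line p V A a e where
  ff : FF p V H
  le : A ≤ H
  memQ : x ∈ qcore p H
  moves : ¬ Commute x a

section Plane

variable {V H A : Subgroup G} {a e x : G} (P : Pair p V H A a e x)
include P

theorem Pair.mem_a : a ∈ A := P.gen ▸ mem_zpowers a
theorem Pair.aH : a ∈ H := P.le P.mem_a
theorem Pair.xH : x ∈ H := qcore_le P.memQ

theorem Pair.bH : x * a * x⁻¹ ∈ H := mul_mem (mul_mem P.xH P.aH) (inv_mem P.xH)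

theorem Pair.f_mem : x * e * x⁻¹ ∈ V := (mem_normalizer_iff.mp (P.ff.hHV P.xH) e).mp P.mem

theorem Pair.a_comm {v : G} (hv : v ∈ V) : ⁅v, a⁆ ∈ zpowers e :=
  P.comm ▸ commutator_mem_commutator hv P.mem_a

theorem Pair.b_comm {v : G} (hv : v ∈ V) : ⁅v, x * a * x⁻¹⁆ ∈ zpowers (x * e * x⁻¹) := by
  have hv' : x⁻¹ * v * x ∈ V := by
    simpa using (mem_normalizer_iff.mp (P.ff.hHV (inv_mem P.xH)) v).mp hv
  obtain ⟨n, hn⟩ := mem_zpowers_iff.mp (P.a_comm hv')
  refine mem_zpowers_iff.mpr ⟨n, ?_⟩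
  rw [conj_zpow, hn]
  simp only [commutatorElement_def]
  group

theorem Pair.b_commute : Commute (x * a * x⁻¹) (x * e * x⁻¹) := by
  show _ = _
  calc x * a * x⁻¹ * (x * e * x⁻¹) = x * (a * e) * x⁻¹ := by group
    _ = x * (e * a) * x⁻¹ := by rw [P.commute.eq]
    _ = x * e * x⁻¹ * (x * a * x⁻¹) := by group

theorem Pair.y_memQ : x * a * x⁻¹ * a⁻¹ ∈ qcore p H := by
  rw [show x * a * x⁻¹ * a⁻¹ = x * (a * x⁻¹ * a⁻¹) by group]
  exact mul_mem P.memQ (conj_mem_qcore P.aH (inv_mem P.memQ))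

theorem Pair.y_ne_one : x * a * x⁻¹ * a⁻¹ ≠ 1 := fun h => P.moves (by
  rw [mul_inv_eq_one, mul_inv_eq_iff_eq_mul] at h
  exact h)

theorem Pair.not_commute [Finite G] : ¬ Commute a (x * e * x⁻¹) := by
  intro hc
  set b := x * a * x⁻¹ with hb
  set f := x * e * x⁻¹ with hf
  set W := zpowers e ⊔ zpowers f with hW
  have hWV : W ≤ V := sup_le (zpowers_le.mpr P.mem) (zpowers_le.mpr P.f_mem)
  have haW : a ∈ centralizer (W : Set G) := by
    have h1 : W ≤ centralizer ({a} : Set G) := sup_le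
      (zpowers_le.mpr (mem_centralizer_singleton_iff.mpr P.commute.eq.symm))
      (zpowers_le.mpr (mem_centralizer_singleton_iff.mpr hc.eq.symm))
    exact fun w hw => mem_centralizer_singleton_iff.mp (h1 hw)
  have hy := coprime_orderOf_of_mem_qcore P.y_memQ
  set y := b * a⁻¹
  -- `y` centralizes `W`
  have hWea : IsElementaryAbelian p W := PGroup.isElementaryAbelian_mono P.ff.hV hWV
  have hyW : y ∈ centralizer (W : Set G) := by
    refine mem_centralizer_of_chain hWea (le_sup_right : zpowers f ≤ W) hy ?_ ?_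
    · refine mul_mem (mem_trivOn le_sup_right fun w hw => P.b_comm (hWV hw))
        (inv_mem (mem_trivOn le_sup_right fun w hw => ?_))
      rw [commutatorElement_eq_one_iff_mul_comm.mpr (haW w hw)]
      exact one_mem _
    · have h1 : zpowers f ≤ centralizer ({y} : Set G) := zpowers_le.mpr
        (mem_centralizer_singleton_iff.mpr ((P.b_commute.mul_left hc.inv_left).eq.symm))
      exact fun w hw => mem_centralizer_singleton_iff.mp (h1 hw)
  refine P.y_ne_one (P.ff.eq_one (mul_mem P.bH (inv_mem P.aH)) ?_)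
  refine mem_centralizer_of_chain P.ff.hV hWV hy ?_ hyW
  exact mul_mem (mem_trivOn hWV fun v hv => mem_sup_right (P.b_comm hv))
    (inv_mem (mem_trivOn hWV fun v hv => mem_sup_left (P.a_comm hv)))

/-- The plane. -/
theorem Pair.not_commute_b [Finite G] : ¬ Commute (x * a * x⁻¹) e := by
  intro hc
  have P' : Pair p V H A a e x⁻¹ :=
    { toLine := P.toLine, ff := P.ff, le := P.le, memQ := inv_mem P.memQ
      moves := fun h => P.moves (by simpa using h.inv_left) }
  refine P'.not_commute ?_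
  show a * (x⁻¹ * e * x⁻¹⁻¹) = x⁻¹ * e * x⁻¹⁻¹ * a
  calc a * (x⁻¹ * e * x⁻¹⁻¹) = x⁻¹ * (x * a * x⁻¹ * e) * x := by group
    _ = x⁻¹ * (e * (x * a * x⁻¹)) * x := by rw [hc.eq]
    _ = x⁻¹ * e * x⁻¹⁻¹ * a := by group

theorem Pair.e_ne_one [Fact p.Prime] : e ≠ 1 := fun h => by
  have h1 := P.order_e
  rw [h, orderOf_one] at h1
  exact (Fact.out : p.Prime).ne_one h1.symm

theorem Pair.commute_ef : Commute e (x * e * x⁻¹) := commute_mem P.ff.hV.1 P.mem P.f_mem

variable [Finite G] [hp : Fact p.Prime]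

theorem Pair.dvd_of_zpow_mul_eq_one {i j : ℤ} (h : e ^ i * (x * e * x⁻¹) ^ j = 1) :
    (p : ℤ) ∣ i ∧ (p : ℤ) ∣ j := by
  set f := x * e * x⁻¹ with hf
  have hof : orderOf f = p := by
    rw [hf, ← MulAut.conj_apply, MulEquiv.orderOf_eq, P.order_e]
  have hj : (p : ℤ) ∣ j := by
    by_contra hj
    refine P.not_commute ?_
    have hfj : f ^ j ∈ zpowers e := by
      rw [eq_inv_of_mul_eq_one_right h]
      exact inv_mem (zpow_mem (mem_zpowers e) i)
    have hfe : f ∈ zpowers e := by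
      obtain ⟨u, v, huv⟩ := Int.isCoprime_iff_gcd_eq_one.mpr
        (by
          rw [Int.gcd_comm]
          exact Nat.coprime_iff_gcd_eq_one.mp ((hp.out.coprime_iff_not_dvd).mpr
            fun hd => hj (Int.natCast_dvd.mpr hd)) : Int.gcd j (p : ℤ) = 1)
      have hf1 : f = (f ^ j) ^ u := by
        rw [← zpow_mul, ← mul_one (f ^ (j * u)), show (1 : G) = f ^ ((p : ℤ) * v) by
          rw [zpow_mul, zpow_natCast, ← hof, pow_orderOf_eq_one, one_zpow], ← zpow_add,
          show j * u + (p : ℤ) * v = 1 by linarith, zpow_one]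
      rw [hf1]
      exact zpow_mem hfj u
    obtain ⟨n, hn⟩ := mem_zpowers_iff.mp hfe
    show Commute a f
    rw [← hn]
    exact P.commute.zpow_right n
  refine ⟨?_, hj⟩
  rw [← hof, orderOf_dvd_iff_zpow_eq_one] at hj
  rw [hj, mul_one, ← orderOf_dvd_iff_zpow_eq_one, P.order_e] at h
  exact h

theorem Pair.zpow_eq_one_of_dvd {g : G} (hg : g ∈ V) {i : ℤ} (hi : (p : ℤ) ∣ i) : g ^ i = 1 := by
  obtain ⟨k, rfl⟩ := hi
  rw [zpow_mul, zpow_natCast, P.ff.hV.2 g hg, one_zpow]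

theorem Pair.exists_zpow {w : G} (hw : w ∈ zpowers e ⊔ zpowers (x * e * x⁻¹)) :
    ∃ i j : ℤ, w = e ^ i * (x * e * x⁻¹) ^ j := by
  have hn : zpowers e ≤ normalizer (zpowers (x * e * x⁻¹) : Set G) :=
    (show zpowers e ≤ centralizer (zpowers (x * e * x⁻¹) : Set G) from zpowers_le.mpr fun y hy =>
      commute_mem P.ff.hV.1 ((zpowers_le.mpr P.f_mem) hy) P.mem).trans (centralizer_le_normalizer _)
  obtain ⟨_, ⟨i, rfl⟩, _, ⟨j, rfl⟩, rfl⟩ := (Coprime.mem_sup_iff_of_le_normalizer hn).mp hw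
  exact ⟨i, j, rfl⟩

theorem Pair.exists_coeff : ∃ c d : ℤ, ¬ (p : ℤ) ∣ c ∧ ¬ (p : ℤ) ∣ d ∧
    (∀ i j : ℤ, a * (e ^ i * (x * e * x⁻¹) ^ j) * a⁻¹ = e ^ (i + c * j) * (x * e * x⁻¹) ^ j) ∧
    ∀ i j : ℤ, x * a * x⁻¹ * (e ^ i * (x * e * x⁻¹) ^ j) * (x * a * x⁻¹)⁻¹ =
      e ^ i * (x * e * x⁻¹) ^ (j + d * i) := by
  obtain ⟨f, hf⟩ : ∃ f, f = x * e * x⁻¹ := ⟨_, rfl⟩
  obtain ⟨b, hb⟩ : ∃ b, b = x * a * x⁻¹ := ⟨_, rfl⟩
  have hef : Commute e f := hf ▸ P.commute_ef
  have hbf : Commute b f := hf ▸ hb ▸ P.b_commute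
  have hfV : f ∈ V := hf ▸ P.f_mem
  have hnb : ¬ Commute b e := hb ▸ P.not_commute_b
  have hna : ¬ Commute a f := hf ▸ P.not_commute
  obtain ⟨c, hc⟩ := mem_zpowers_iff.mp (P.a_comm (inv_mem hfV))
  obtain ⟨d, hd⟩ := mem_zpowers_iff.mp (P.b_comm (inv_mem P.mem))
  simp only [← hf, ← hb] at hd ⊢
  have hc' : a * f * a⁻¹ = e ^ c * f := by
    rw [(hef.zpow_left c).eq, hc]; simp only [commutatorElement_def]; group
  have hd' : b * e * b⁻¹ = f ^ d * e := by
    rw [(hef.symm.zpow_left d).eq, hd]; simp only [commutatorElement_def]; group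
  refine ⟨c, d, fun h => hna ?_, fun h => hnb ?_, fun i j => ?_, fun i j => ?_⟩
  · rw [P.zpow_eq_one_of_dvd P.mem h, one_mul, mul_inv_eq_iff_eq_mul] at hc'
    exact hc'
  · rw [P.zpow_eq_one_of_dvd hfV h, one_mul, mul_inv_eq_iff_eq_mul] at hd'
    exact hd'
  · calc a * (e ^ i * f ^ j) * a⁻¹ = (a * e * a⁻¹) ^ i * (a * f * a⁻¹) ^ j := by
          rw [conj_zpow, conj_zpow]; group
      _ = e ^ i * ((e ^ c) ^ j * f ^ j) := by
          rw [show a * e * a⁻¹ = e by rw [P.commute.eq, mul_inv_cancel_right], hc',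
            (hef.zpow_left c).mul_zpow]
      _ = e ^ (i + c * j) * f ^ j := by rw [← mul_assoc, ← zpow_mul, ← zpow_add]
  · calc b * (e ^ i * f ^ j) * b⁻¹ = (b * e * b⁻¹) ^ i * (b * f * b⁻¹) ^ j := by
          rw [conj_zpow, conj_zpow]; group
      _ = (f ^ d) ^ i * e ^ i * f ^ j := by
          rw [show b * f * b⁻¹ = f by rw [hbf.eq, mul_inv_cancel_right], hd',
            (hef.symm.zpow_left d).mul_zpow]
      _ = e ^ i * f ^ (j + d * i) := by
          rw [← zpow_mul, (hef.symm.zpow_zpow (d * i) i).eq, mul_assoc, ← zpow_add,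
            add_comm]

omit P [Finite G] in
theorem eq_one_of_prime_dvd_mul {c j : ℤ} (hc : ¬ (p : ℤ) ∣ c) (h : (p : ℤ) ∣ c * j) :
    (p : ℤ) ∣ j :=
  ((Nat.prime_iff_prime_int.mp hp.out).dvd_mul.mp h).resolve_left hc

/-- The group generated by `A` and its conjugate. -/
abbrev Pair.X (_P : Pair p V H A a e x) : Subgroup G := A ⊔ A.map (MulAut.conj x).toMonoidHom

omit [Finite G] hp in
theorem Pair.map_eq : A.map (MulAut.conj x).toMonoidHom = zpowers (x * a * x⁻¹) := by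
  rw [P.gen, MonoidHom.map_zpowers]; rfl

omit [Finite G] hp in
theorem Pair.X_le_iff {K : Subgroup G} : P.X ≤ K ↔ a ∈ K ∧ x * a * x⁻¹ ∈ K := by
  rw [Pair.X, sup_le_iff, P.map_eq, zpowers_le]
  conv_lhs => rw [P.gen, zpowers_le]

omit [Finite G] hp in
theorem Pair.X_le_H : P.X ≤ H := P.X_le_iff.mpr ⟨P.aH, P.bH⟩

omit [Finite G] hp in
theorem Pair.a_memX : a ∈ P.X := (P.X_le_iff.mp le_rfl).1

omit [Finite G] hp in
theorem Pair.b_memX : x * a * x⁻¹ ∈ P.X := (P.X_le_iff.mp le_rfl).2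

/-- The plane `⟨e, f⟩`. -/
abbrev Pair.W (_P : Pair p V H A a e x) : Subgroup G := zpowers e ⊔ zpowers (x * e * x⁻¹)

omit [Finite G] hp in
theorem Pair.W_le : P.W ≤ V := sup_le (zpowers_le.mpr P.mem) (zpowers_le.mpr P.f_mem)

omit hp in
theorem Pair.X_le_trivOn : P.X ≤ trivOn V P.W :=
  P.X_le_iff.mpr ⟨mem_trivOn P.W_le fun _ hv => mem_sup_left (P.a_comm hv),
    mem_trivOn P.W_le fun _ hv => mem_sup_right (P.b_comm hv)⟩

omit hp in
theorem Pair.W_eq : ⁅V, P.X⁆ = P.W := by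
  refine le_antisymm (commutator_le_of_le_trivOn P.X_le_trivOn) (sup_le ?_ ?_)
  · rw [← P.comm]
    exact commutator_mono le_rfl le_sup_left
  · rw [zpowers_le]
    have hVx : V.map (MulAut.conj x).toMonoidHom = V :=
      Subnormal.cj_eq_of_mem_normalizer (P.ff.hHV P.xH)
    refine commutator_mono le_rfl (le_sup_right : A.map (MulAut.conj x).toMonoidHom ≤ P.X) ?_
    rw [← hVx, ← map_commutator]
    exact ⟨e, P.comm ▸ mem_zpowers e, rfl⟩

theorem Pair.card_W : Nat.card P.W = p ^ 2 := by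
  have hof : orderOf (x * e * x⁻¹) = p := by
    rw [← MulAut.conj_apply, MulEquiv.orderOf_eq, P.order_e]
  have hdis : zpowers e ⊓ zpowers (x * e * x⁻¹) = ⊥ := by
    refine (eq_bot_iff_forall _).mpr fun g hg => ?_
    obtain ⟨⟨i, rfl⟩, j, hj⟩ := mem_inf.mp hg
    simp only at hj ⊢
    have h := (P.dvd_of_zpow_mul_eq_one (i := i) (j := -j) (by rw [zpow_neg, hj, mul_inv_cancel])).1
    exact P.zpow_eq_one_of_dvd P.mem h
  have hn : zpowers e ≤ normalizer (zpowers (x * e * x⁻¹) : Set G) :=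
    (show zpowers e ≤ centralizer (zpowers (x * e * x⁻¹) : Set G) from zpowers_le.mpr fun y hy =>
      commute_mem P.ff.hV.1 ((zpowers_le.mpr P.f_mem) hy) P.mem).trans (centralizer_le_normalizer _)
  have := card_sup_mul_card_inf hn
  rw [hdis, Subgroup.card_bot, mul_one, Nat.card_zpowers, Nat.card_zpowers, P.order_e, hof] at this
  rw [this, sq]

theorem Pair.W_inf_centralizer : P.W ⊓ centralizer (P.X : Set G) = ⊥ := by
  obtain ⟨c, d, hc, hd, ha, hb⟩ := P.exists_coeff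
  refine (eq_bot_iff_forall _).mpr fun w hw => ?_
  obtain ⟨hwW, hwX⟩ := mem_inf.mp hw
  obtain ⟨i, j, rfl⟩ := P.exists_zpow hwW
  have h1 := ha i j
  rw [hwX a P.a_memX, mul_inv_cancel_right, mul_left_inj, zpow_add, left_eq_mul,
    ← orderOf_dvd_iff_zpow_eq_one, P.order_e] at h1
  have h2 := hb i j
  rw [hwX _ P.b_memX, mul_inv_cancel_right, mul_right_inj, zpow_add, left_eq_mul,
    ← orderOf_dvd_iff_zpow_eq_one, ← MulAut.conj_apply, MulEquiv.orderOf_eq, P.order_e] at h2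
  rw [P.zpow_eq_one_of_dvd P.mem (eq_one_of_prime_dvd_mul hd h2),
    P.zpow_eq_one_of_dvd P.f_mem (eq_one_of_prime_dvd_mul hc h1), one_mul]

theorem Pair.sup_eq : P.W ⊔ V ⊓ centralizer (P.X : Set G) = V := by
  refine eq_of_le_of_card_ge (sup_le P.W_le inf_le_left) ?_
  have hn : P.W ≤ normalizer ((V ⊓ centralizer (P.X : Set G) : Subgroup G) : Set G) := fun w hw =>
    centralizer_le_normalizer _ fun u hu => commute_mem P.ff.hV.1 (mem_inf.mp hu).1 (P.W_le hw)
  have e1 := card_sup_mul_card_inf hn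
  rw [show P.W ⊓ (V ⊓ centralizer (P.X : Set G)) = ⊥ by
    rw [← le_bot_iff, ← P.W_inf_centralizer]; exact inf_le_inf_left _ inf_le_right,
    Subgroup.card_bot, mul_one] at e1
  set A' := A.map (MulAut.conj x).toMonoidHom with hA'
  have hT' : IsTv p V A' := P.tv.conj (P.ff.hHV P.xH)
  have hn2 : V ⊓ centralizer (A : Set G) ≤
      normalizer ((V ⊓ centralizer (A' : Set G) : Subgroup G) : Set G) := fun v hv =>
    centralizer_le_normalizer _ fun u hu => commute_mem P.ff.hV.1 hu.1 hv.1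
  have e2 := card_sup_mul_card_inf hn2
  rw [show V ⊓ centralizer (A : Set G) ⊓ (V ⊓ centralizer (A' : Set G)) =
    V ⊓ centralizer (P.X : Set G) by rw [inf_inf_inf_comm, inf_idem, ← centralizer_sup_eq]] at e2
  have h3 := card_le_of_le (sup_le (inf_le_left : V ⊓ centralizer (A : Set G) ≤ V)
    (inf_le_left : V ⊓ centralizer (A' : Set G) ≤ V))
  rw [e1, P.card_W]
  have h4 : Nat.card V * Nat.card V ≤
      Nat.card V * (p ^ 2 * Nat.card ↥(V ⊓ centralizer (P.X : Set G))) := by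
    calc Nat.card V * Nat.card V = (p * Nat.card ↥(V ⊓ centralizer (A : Set G))) *
          (p * Nat.card ↥(V ⊓ centralizer (A' : Set G))) := by rw [← P.tv.2, ← hT'.2]
      _ = p ^ 2 * (Nat.card ↥(V ⊓ centralizer (A : Set G)) *
          Nat.card ↥(V ⊓ centralizer (A' : Set G))) := by ring
      _ ≤ p ^ 2 * (Nat.card V * Nat.card ↥(V ⊓ centralizer (P.X : Set G))) := by
          rw [← e2]; exact Nat.mul_le_mul_left _ (Nat.mul_le_mul_right _ h3)
      _ = _ := by ring
  exact Nat.le_of_mul_le_mul_left h4 Nat.card_pos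

theorem Pair.X_inf_centralizer : P.X ⊓ centralizer (P.W : Set G) = ⊥ := by
  refine (eq_bot_iff_forall _).mpr fun g hg => ?_
  obtain ⟨hgX, hgW⟩ := mem_inf.mp hg
  refine P.ff.eq_one (P.X_le_H hgX) ?_
  have h1 : V ≤ centralizer ({g} : Set G) := by
    conv_lhs => rw [← P.sup_eq]
    refine sup_le (fun w hw => mem_centralizer_singleton_iff.mpr (hgW w hw))
      (fun u hu => mem_centralizer_singleton_iff.mpr ((mem_inf.mp hu).2 g hgX).symm)
  exact fun v hv => mem_centralizer_singleton_iff.mp (h1 hv)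

/-- Every line of the plane is the line of a conjugate under `Q`. -/
theorem Pair.exists_line_conj {w : G} (hw : w ∈ P.W) :
    ∃ q ∈ qcore p H, q * a * q⁻¹ ∈ P.X ∧ w ∈ zpowers (q * e * q⁻¹) := by
  obtain ⟨c, d, hc, hd, ha, hb⟩ := P.exists_coeff
  obtain ⟨i, j, rfl⟩ := P.exists_zpow hw
  set f := x * e * x⁻¹ with hf
  by_cases hj : (p : ℤ) ∣ j
  · refine ⟨1, one_mem _, by simpa using P.a_memX, ?_⟩
    rw [P.zpow_eq_one_of_dvd P.f_mem hj, mul_one, one_mul, inv_one, mul_one]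
    exact zpow_mem (mem_zpowers e) i
  have hpow : ∀ n : ℕ, a ^ n * f * (a ^ n)⁻¹ = e ^ ((n : ℤ) * c) * f := by
    intro n
    induction n with
    | zero => simp
    | succ n ih =>
      calc a ^ (n + 1) * f * (a ^ (n + 1))⁻¹ = a * (a ^ n * f * (a ^ n)⁻¹) * a⁻¹ := by
            rw [pow_succ' a]; group
        _ = a * (e ^ ((n : ℤ) * c) * f ^ (1 : ℤ)) * a⁻¹ := by rw [ih, zpow_one]
        _ = e ^ (((n + 1 : ℕ) : ℤ) * c) * f := by
            rw [ha, zpow_one]; congr 2; push_cast; ring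
  set n := ((i : ZMod p) / ((c * j : ℤ) : ZMod p)).val
  have hn : (p : ℤ) ∣ (n : ℤ) * c * j - i := by
    rw [← ZMod.intCast_zmod_eq_zero_iff_dvd]
    have h0 : ((c * j : ℤ) : ZMod p) ≠ 0 := fun h =>
      hj (eq_one_of_prime_dvd_mul hc ((ZMod.intCast_zmod_eq_zero_iff_dvd _ _).mp h))
    push_cast
    rw [ZMod.natCast_zmod_val, mul_assoc, ← Int.cast_mul, div_mul_cancel₀ _ h0, sub_self]
  refine ⟨a ^ n * x * (a ^ n)⁻¹, conj_mem_qcore (pow_mem P.aH n) P.memQ, ?_,
    mem_zpowers_iff.mpr ⟨j, ?_⟩⟩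
  · rw [show a ^ n * x * (a ^ n)⁻¹ * a * (a ^ n * x * (a ^ n)⁻¹)⁻¹ =
      a ^ n * (x * a * x⁻¹) * (a ^ n)⁻¹ by group]
    exact mul_mem (mul_mem (pow_mem P.a_memX n) P.b_memX) (inv_mem (pow_mem P.a_memX n))
  have he : a ^ n * e * (a ^ n)⁻¹ = e := by rw [(P.commute.pow_left n).eq, mul_inv_cancel_right]
  rw [show a ^ n * x * (a ^ n)⁻¹ * e * (a ^ n * x * (a ^ n)⁻¹)⁻¹ =
    a ^ n * (x * ((a ^ n)⁻¹ * e * a ^ n) * x⁻¹) * (a ^ n)⁻¹ by group,
    show (a ^ n)⁻¹ * e * a ^ n = e by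
      conv_lhs => rw [← he]
      group, ← hf, hpow, (P.commute_ef.zpow_left _).mul_zpow, ← zpow_mul]
  congr 1
  rw [show (n : ℤ) * c * j = i + ((n : ℤ) * c * j - i) by ring, zpow_add,
    P.zpow_eq_one_of_dvd P.mem hn, mul_one]

theorem Pair.eq_one_of_commute_y {w : G} (hw : w ∈ P.W)
    (hc' : Commute (x * a * x⁻¹ * a⁻¹) w) : w = 1 := by
  obtain ⟨c, d, hc, hd, ha, hb⟩ := P.exists_coeff
  have hw' : a⁻¹ * w * a ∈ P.W := by
    simpa using (mem_normalizer_iff.mp (inv_mem (P.X_le_trivOn P.a_memX).1) w).mp hw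
  obtain ⟨i, j, hij⟩ := P.exists_zpow hw'
  set b := x * a * x⁻¹ with hb'
  have e1 : a * (a⁻¹ * w * a) * a⁻¹ = w := by group
  have e2 : b * (a⁻¹ * w * a) * b⁻¹ = w := by
    calc b * (a⁻¹ * w * a) * b⁻¹ = b * a⁻¹ * w * (b * a⁻¹)⁻¹ := by group
      _ = w := by rw [hc'.eq, mul_inv_cancel_right]
  rw [hij, ha] at e1
  rw [hij, hb] at e2
  have h := e1.trans e2.symm
  rw [zpow_add, zpow_add, mul_assoc, mul_right_inj, ← (P.commute_ef.zpow_zpow (c * j) j).symm.eq,
    mul_right_inj] at h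
  have h' : e ^ (c * j) * (x * e * x⁻¹) ^ (-(d * i)) = 1 := by rw [zpow_neg, h, mul_inv_cancel]
  obtain ⟨h1, h2⟩ := P.dvd_of_zpow_mul_eq_one h'
  rw [dvd_neg] at h2
  rw [P.zpow_eq_one_of_dvd P.mem (eq_one_of_prime_dvd_mul hd h2),
    P.zpow_eq_one_of_dvd P.f_mem (eq_one_of_prime_dvd_mul hc h1), one_mul] at hij
  calc w = a * (a⁻¹ * w * a) * a⁻¹ := by group
    _ = 1 := by rw [hij]; group

end Plane


section Plane

variable [Finite G] [hp : Fact p.Prime] {V H A : Subgroup G} {a e x : G} (P : Pair p V H A a e x)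
include P

/-- `⟨A, A^x⟩ ≅ SL(2, p)`. -/
theorem Pair.exists_iso : Nonempty (P.X ≃* SL(2, ZMod p)) := by
  obtain ⟨c, d, hc, hd, ha, hb⟩ := P.exists_coeff
  set b := x * a * x⁻¹ with hbdef
  set f := x * e * x⁻¹ with hfdef
  have hXW : P.X ≤ normalizer (P.W : Set G) := fun g hg => (P.X_le_trivOn hg).1
  let _ : CommGroup P.W := { (inferInstance : Group P.W) with
    mul_comm := fun u v => Subtype.ext (commute_mem P.ff.hV.1 (P.W_le u.2) (P.W_le v.2)) }
  have : Module (ZMod p) (Additive P.W) := AddCommGroup.zmodModule fun u => by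
    show Additive.ofMul ((Additive.toMul u) ^ p) = 0
    exact congrArg Additive.ofMul (Subtype.ext (P.ff.hV.2 _ (P.W_le (Additive.toMul u).2)))
  let e' : Additive P.W := Additive.ofMul ⟨e, mem_sup_left (mem_zpowers e)⟩
  let f' : Additive P.W := Additive.ofMul ⟨f, mem_sup_right (mem_zpowers f)⟩
  have hval : ∀ s t : ℤ, ((Additive.toMul ((s : ZMod p) • e' + (t : ZMod p) • f') : P.W) : G) =
      e ^ s * f ^ t := fun s t => by
    rw [Int.cast_smul_eq_zsmul, Int.cast_smul_eq_zsmul, toMul_add, toMul_zsmul, toMul_zsmul,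
      Subgroup.coe_mul, SubgroupClass.coe_zpow, SubgroupClass.coe_zpow]
    rfl
  have hli : LinearIndependent (ZMod p) ![e', f'] := by
    refine LinearIndependent.pair_iff.mpr fun s t hst => ?_
    obtain ⟨s, rfl⟩ := ZMod.intCast_surjective s
    obtain ⟨t, rfl⟩ := ZMod.intCast_surjective t
    have h := hval s t
    rw [hst, toMul_zero, OneMemClass.coe_one] at h
    obtain ⟨h1, h2⟩ := P.dvd_of_zpow_mul_eq_one h.symm
    exact ⟨(ZMod.intCast_zmod_eq_zero_iff_dvd _ _).mpr h1,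
      (ZMod.intCast_zmod_eq_zero_iff_dvd _ _).mpr h2⟩
  have hfin : Module.finrank (ZMod p) (Additive P.W) = 2 := by
    have h := Module.natCard_eq_pow_finrank (K := ZMod p) (V := Additive P.W)
    rw [Nat.card_zmod, show Nat.card (Additive P.W) = p ^ 2 from P.card_W] at h
    exact (Nat.pow_right_injective hp.out.two_le h).symm
  let B := basisOfLinearIndependentOfCardEqFinrank hli (by simp [hfin])
  have hB : ⇑B = ![e', f'] := coe_basisOfLinearIndependentOfCardEqFinrank _ _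
  let ρ : P.X →* Module.End (ZMod p) (Additive P.W) :=
    { toFun := fun g => (Quadratic.conjAdd P.W (hXW g.2)).toZModLinearMap p
      map_one' := by
        refine LinearMap.ext fun u => Additive.toMul.injective (Subtype.ext ?_)
        rw [Module.End.one_apply, AddMonoidHom.coe_toZModLinearMap]
        simp [Quadratic.conjAdd]
      map_mul' := fun g g' => by
        refine LinearMap.ext fun u => Additive.toMul.injective (Subtype.ext ?_)
        rw [Module.End.mul_apply, AddMonoidHom.coe_toZModLinearMap, AddMonoidHom.coe_toZModLinearMap,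
          AddMonoidHom.coe_toZModLinearMap]
        simp only [Quadratic.conjAdd, AddMonoidHom.coe_mk, ZeroHom.coe_mk, toMul_ofMul, Subgroup.coe_mul]
        group }
  have hρ : ∀ (g : P.X) (u : Additive P.W),
      ((Additive.toMul (ρ g u) : P.W) : G) = g * (Additive.toMul u : P.W) * (g : G)⁻¹ := fun g u => by
    simp [ρ, Quadratic.conjAdd]
  let M : P.X →* Matrix (Fin 2) (Fin 2) (ZMod p) :=
    ((LinearMap.toMatrixAlgEquiv B).toRingEquiv.toRingHom.toMonoidHom).comp ρ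
  have hM : ∀ (g : P.X) (i j : Fin 2), M g i j = B.repr (ρ g (B j)) i := fun g i j =>
    LinearMap.toMatrixAlgEquiv_apply _ _ _ _
  have hcol : ∀ (g : P.X) (s₀ t₀ s₁ t₁ : ℤ), (g : G) * e * (g : G)⁻¹ = e ^ s₀ * f ^ t₀ →
      (g : G) * f * (g : G)⁻¹ = e ^ s₁ * f ^ t₁ → M g = !![(s₀ : ZMod p), s₁; t₀, t₁] := by
    intro g s₀ t₀ s₁ t₁ h0 h1
    have e0 : ρ g (B 0) = (s₀ : ZMod p) • B 0 + (t₀ : ZMod p) • B 1 := by
      refine Additive.toMul.injective (Subtype.ext ?_)
      rw [hB]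
      exact (hρ g e').trans (h0.trans (hval s₀ t₀).symm)
    have e1 : ρ g (B 1) = (s₁ : ZMod p) • B 0 + (t₁ : ZMod p) • B 1 := by
      refine Additive.toMul.injective (Subtype.ext ?_)
      rw [hB]
      exact (hρ g f').trans (h1.trans (hval s₁ t₁).symm)
    ext i j
    rw [hM]
    fin_cases i <;> fin_cases j <;> simp [e0, e1]
  have hMa : M ⟨a, P.a_memX⟩ = !![1, (c : ZMod p); 0, 1] := by
    rw [hcol ⟨a, P.a_memX⟩ 1 0 c 1 (by simpa using ha 1 0) (by simpa using ha 0 1)]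
    simp
  have hMb : M ⟨b, P.b_memX⟩ = !![1, 0; (d : ZMod p), 1] := by
    rw [hcol ⟨b, P.b_memX⟩ 1 d 0 1 (by simpa using hb 1 0) (by simpa using hb 0 1)]
    simp
  have hdet : ∀ g, (M g).det = 1 := by
    let δ : P.X →* ZMod p := Matrix.detMonoidHom.comp M
    have hle : P.X ≤ (δ.eqLocus 1).map P.X.subtype := P.X_le_iff.mpr
      ⟨⟨⟨a, P.a_memX⟩, show δ _ = 1 by simp [δ, hMa, Matrix.det_fin_two], rfl⟩,
        ⟨⟨b, P.b_memX⟩, show δ _ = 1 by simp [δ, hMb, Matrix.det_fin_two], rfl⟩⟩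
    intro g
    obtain ⟨g', hg', hgg⟩ := hle g.2
    obtain rfl : g' = g := Subtype.ext hgg
    exact hg'
  let θ : P.X →* SL(2, ZMod p) :=
    { toFun := fun g => ⟨M g, hdet g⟩
      map_one' := Subtype.ext (map_one M)
      map_mul' := fun g g' => Subtype.ext (map_mul M g g') }
  have hinj : Function.Injective θ := by
    rw [injective_iff_map_eq_one]
    intro g hg
    refine Subtype.ext ?_
    show (g : G) = 1
    rw [← mem_bot, ← P.X_inf_centralizer]
    refine mem_inf.mpr ⟨g.2, fun w hw => ?_⟩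
    have h1 : M g = 1 := congrArg Subtype.val hg
    have h2 : ρ g = 1 := by
      refine (LinearMap.toMatrixAlgEquiv B).injective ?_
      rw [map_one]
      exact h1
    have h3 := hρ g (Additive.ofMul ⟨w, hw⟩)
    rw [h2, Module.End.one_apply, toMul_ofMul, eq_mul_inv_iff_mul_eq] at h3
    exact h3
  have htr : ∀ {i j : Fin 2} (hij : i ≠ j) (t₀ : ZMod p), t₀ ≠ 0 →
      Matrix.SpecialLinearGroup.transvection hij t₀ ∈ θ.range →
      ∀ t, Matrix.SpecialLinearGroup.transvection hij t ∈ θ.range := by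
    intro i j hij t₀ ht₀ hmem t
    have hpow : ∀ n : ℕ, Matrix.SpecialLinearGroup.transvection hij t₀ ^ n =
        Matrix.SpecialLinearGroup.transvection hij ((n : ZMod p) * t₀) := by
      intro n
      induction n with
      | zero => rw [Nat.cast_zero, zero_mul, Matrix.SpecialLinearGroup.transvection_coeff_zero, pow_zero]
      | succ n ih =>
        refine Subtype.ext ?_
        rw [pow_succ, ih, Matrix.SpecialLinearGroup.coe_mul,
          Matrix.SpecialLinearGroup.transvection_coe, Matrix.SpecialLinearGroup.transvection_coe,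
          Matrix.SpecialLinearGroup.transvection_coe]
        rw [mul_add, mul_one, add_mul, one_mul, Matrix.single_mul_single_of_ne _ _ _ _ hij.symm,
          add_zero, add_assoc, ← Matrix.single_add]
        congr 2
        push_cast
        ring
    have h := hpow (t / t₀).val
    rw [ZMod.natCast_zmod_val, div_mul_cancel₀ _ ht₀] at h
    exact h ▸ pow_mem hmem _
  have hsurj : Function.Surjective θ := by
    rw [← MonoidHom.range_eq_top]
    refine GL.SL_eq_top_of_transvection_mem fun i j hij t => ?_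
    have hc0 : ((c : ℤ) : ZMod p) ≠ 0 := fun h => hc ((ZMod.intCast_zmod_eq_zero_iff_dvd _ _).mp h)
    have hd0 : ((d : ℤ) : ZMod p) ≠ 0 := fun h => hd ((ZMod.intCast_zmod_eq_zero_iff_dvd _ _).mp h)
    fin_cases i <;> fin_cases j
    · exact absurd rfl hij
    · refine htr hij c hc0 ⟨⟨a, P.a_memX⟩, Subtype.ext ?_⟩ t
      show M _ = _
      rw [hMa, Matrix.SpecialLinearGroup.transvection_coe]
      ext k l
      fin_cases k <;> fin_cases l <;> simp
    · refine htr hij d hd0 ⟨⟨b, P.b_memX⟩, Subtype.ext ?_⟩ t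
      show M _ = _
      rw [hMb, Matrix.SpecialLinearGroup.transvection_coe]
      ext k l
      fin_cases k <;> fin_cases l <;> simp
    · exact absurd rfl hij
  exact ⟨MulEquiv.ofBijective θ ⟨hinj, hsurj⟩⟩

omit hp in
theorem Pair.commutator_X_le : ⁅P.X, P.X⁆ ≤ qcore p H := by
  set π := QuotientGroup.mk' (pPrimeCore p ↥H)
  have hy : (⟨x * a * x⁻¹ * a⁻¹, qcore_le P.y_memQ⟩ : H) ∈ pPrimeCore p ↥H := by
    obtain ⟨y, hy, hye⟩ := P.y_memQ
    exact (show y = ⟨_, qcore_le P.y_memQ⟩ from Subtype.ext hye) ▸ hy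
  have hle : P.X ≤ ((zpowers (π ⟨a, P.aH⟩)).comap π).map H.subtype := by
    refine P.X_le_iff.mpr ⟨⟨⟨a, P.aH⟩, mem_zpowers _, rfl⟩, ⟨⟨_, P.bH⟩, ?_, rfl⟩⟩
    rw [SetLike.mem_coe, mem_comap]
    have h0 : π ⟨x * a * x⁻¹ * a⁻¹, qcore_le P.y_memQ⟩ = 1 := (QuotientGroup.eq_one_iff _).mpr hy
    rw [show (⟨x * a * x⁻¹, P.bH⟩ : H) = ⟨x * a * x⁻¹ * a⁻¹, qcore_le P.y_memQ⟩ * ⟨a, P.aH⟩ from
      Subtype.ext (by rw [Subgroup.coe_mul, inv_mul_cancel_right]), map_mul, h0, one_mul]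
    exact mem_zpowers _
  refine commutator_le.mpr fun u hu v hv => ?_
  obtain ⟨u', hu', rfl⟩ := hle hu
  obtain ⟨v', hv', rfl⟩ := hle hv
  rw [SetLike.mem_coe, mem_comap] at hu' hv'
  refine ⟨⁅u', v'⁆, ?_, map_commutatorElement _ _ _⟩
  rw [SetLike.mem_coe, ← QuotientGroup.eq_one_iff]
  show π ⁅u', v'⁆ = 1
  obtain ⟨i, hi⟩ := mem_zpowers_iff.mp hu'
  obtain ⟨j, hj⟩ := mem_zpowers_iff.mp hv'
  rw [map_commutatorElement, ← hi, ← hj, commutatorElement_eq_one_iff_mul_comm]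
  exact (Commute.refl _).zpow_zpow i j

theorem Pair.p_eq_two_or_three : p = 2 ∨ p = 3 := by
  by_contra hcon
  push Not at hcon
  have hp5 : 5 ≤ p := by
    have h2 := hp.out.two_le
    have h4 : p ≠ 4 := fun h4 => by have := hp.out; rw [h4] at this; exact absurd this (by decide)
    omega
  have h2 : ((2 : ℕ) : ZMod p) ≠ 0 := fun h0 => by
    rw [CharP.cast_eq_zero_iff (ZMod p) p] at h0
    have := Nat.le_of_dvd two_pos h0
    omega
  have h3 : ((3 : ℕ) : ZMod p) ≠ 0 := fun h0 => by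
    rw [CharP.cast_eq_zero_iff (ZMod p) p] at h0
    have := Nat.le_of_dvd (by omega : 0 < 3) h0
    omega
  obtain ⟨θ⟩ := P.exists_iso
  have htop : commutator SL(2, ZMod p) = ⊤ := GL.SL_commutator_eq_top 2 le_rfl fun _ =>
    ⟨2, by exact_mod_cast h2, fun h0 => h3 (by push_cast; linear_combination h0)⟩
  have hXc : commutator P.X = ⊤ := by
    apply Subgroup.map_injective (f := θ.toMonoidHom) θ.injective
    rw [_root_.commutator_def, map_commutator, Subgroup.map_top_of_surjective θ.toMonoidHom θ.surjective]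
    exact htop
  have haQ : a ∈ qcore p H := P.commutator_X_le (by
    rw [← map_subtype_commutator, hXc, ← MonoidHom.range_eq_map, range_subtype]
    exact P.a_memX)
  have h1 := coprime_orderOf_of_mem_qcore haQ
  rw [P.order_a, Nat.coprime_self] at h1
  exact hp.out.ne_one h1

/-- All `Q`-conjugates of `A` lie in `⟨A, A^x⟩`. -/
theorem Pair.conj_mem {q : G} (hq : q ∈ qcore p H) : q * a * q⁻¹ ∈ P.X := by
  by_cases hqa : Commute q a
  · rw [hqa.eq, mul_inv_cancel_right]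
    exact P.a_memX
  let P' : Pair p V H A a e q :=
    { toLine := P.toLine, ff := P.ff, le := P.le, memQ := hq, moves := hqa }
  set c := q * a * q⁻¹ with hc
  set ψ := (commHom V P.ff.hV.1 c (P.ff.hHV P'.bH)).comp (inclusion P.W_le) with hψ
  have hrange : ψ.range ≤ zpowers (q * e * q⁻¹) := by
    rintro _ ⟨w, rfl⟩
    exact P'.b_comm (P.W_le w.2)
  have hker : ψ.ker ≠ ⊥ := by
    intro h0
    have h1 := ψ.ker.card_mul_index
    rw [index_ker, h0, Subgroup.card_bot, one_mul, P.card_W] at h1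
    have h2 := card_le_of_le hrange
    rw [Nat.card_zpowers, ← MulAut.conj_apply, MulEquiv.orderOf_eq, P.order_e, h1] at h2
    have h3 : p < p ^ 2 := by
      rw [sq]; exact lt_mul_of_one_lt_left hp.out.pos hp.out.one_lt
    omega
  obtain ⟨⟨w, hw⟩, hw1⟩ := ne_bot_iff_exists_ne_one.mp hker
  have hwc : Commute (w : G) c := commutatorElement_eq_one_iff_mul_comm.mp (MonoidHom.mem_ker.mp hw)
  have hwne : (w : G) ≠ 1 := fun e0 => hw1 (Subtype.ext (Subtype.ext e0))
  obtain ⟨q₀, hq₀, hq₀X, hwq⟩ := P.exists_line_conj w.2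
  have hgen : zpowers (w : G) = zpowers (q₀ * e * q₀⁻¹) := by
    refine eq_of_le_of_card_ge (zpowers_le.mpr hwq) ?_
    have h1 : orderOf (w : G) = p := orderOf_eq_prime (P.ff.hV.2 _ (P.W_le w.2)) hwne
    rw [Nat.card_zpowers, Nat.card_zpowers, h1, ← MulAut.conj_apply, MulEquiv.orderOf_eq, P.order_e]
  have hcom : Commute c (q₀ * e * q₀⁻¹) := by
    obtain ⟨k, hk⟩ := mem_zpowers_iff.mp (hgen ▸ mem_zpowers _ : q₀ * e * q₀⁻¹ ∈ zpowers (w : G))
    rw [← hk]
    exact hwc.symm.zpow_right k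
  set x' := q⁻¹ * q₀ with hx'
  have hax : Commute a (x' * e * x'⁻¹) := by
    show _ = _
    calc a * (x' * e * x'⁻¹) = q⁻¹ * (c * (q₀ * e * q₀⁻¹)) * q := by rw [hx', hc]; group
      _ = q⁻¹ * ((q₀ * e * q₀⁻¹) * c) * q := by rw [hcom.eq]
      _ = x' * e * x'⁻¹ * a := by rw [hx', hc]; group
  by_cases hx'a : Commute x' a
  · rw [show c = q₀ * a * q₀⁻¹ by
      calc c = q * (x' * a * x'⁻¹) * q⁻¹ := by rw [hx'a.eq, mul_inv_cancel_right]
        _ = q₀ * a * q₀⁻¹ := by rw [hx']; group]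
    exact hq₀X
  · exact absurd hax (Pair.not_commute (p := p) (V := V) (H := H) (A := A) (x := x')
      { toLine := P.toLine, ff := P.ff, le := P.le, memQ := mul_mem (inv_mem hq) hq₀, moves := hx'a })

omit hp in
theorem Pair.qcore_le_normalizer_V : qcore p H ≤ normalizer (V : Set G) := qcore_le.trans P.ff.hHV

theorem Pair.qcore_le_normalizer_X : qcore p H ≤ normalizer (P.X : Set G) := by
  intro q hq
  refine Subnormal.mem_normalizer_of_cj_le (map_le_iff_le_comap.mpr (P.X_le_iff.mpr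
    ⟨P.conj_mem hq, ?_⟩))
  show q * (x * a * x⁻¹) * q⁻¹ ∈ P.X
  rw [show q * (x * a * x⁻¹) * q⁻¹ = q * x * a * (q * x)⁻¹ by group]
  exact P.conj_mem (mul_mem hq P.memQ)

theorem Pair.qcore_le_normalizer_W : qcore p H ≤ normalizer (P.W : Set G) := by
  intro q hq
  refine Subnormal.mem_normalizer_of_cj_le ?_
  rw [← P.W_eq, Subnormal.cj, map_commutator]
  exact commutator_mono (Subnormal.cj_eq_of_mem_normalizer (P.qcore_le_normalizer_V hq)).le
    (Subnormal.cj_eq_of_mem_normalizer (P.qcore_le_normalizer_X hq)).le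

theorem Pair.qcore_le_normalizer_U :
    qcore p H ≤ normalizer ((V ⊓ centralizer (P.X : Set G) : Subgroup G) : Set G) :=
  LocalStructure.le_normalizer_inf P.qcore_le_normalizer_V
    (LocalStructure.le_normalizer_centralizer P.qcore_le_normalizer_X)

end Plane

/-- `[Q, A] A`. -/
abbrev eSub (p : ℕ) (H A : Subgroup G) : Subgroup G := ⁅qcore p H, A⁆ ⊔ A

section Groups

variable [Finite G] [hp : Fact p.Prime] {V H A : Subgroup G}

theorem FF.exists_pair (h : FF p V H) (hAH : A ≤ H) (hT : IsTv p V A) :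
    ∃ a e x, Pair p V H A a e x := by
  obtain ⟨a, e, hgen, hoa, he, hoe, hcomm, hae⟩ := hT.exists_line h.hV (hAH.trans h.hHV)
  by_contra hcon
  push Not at hcon
  refine hT.ne_bot ?_
  rw [← h.inf_centralizer_qcore hAH hT.isBestOffenderOn, eq_comm, inf_eq_left, hgen, zpowers_le]
  intro q hq
  by_contra hne
  exact hcon a e q ⟨⟨hT, hgen, hoa, he, hoe, hcomm, hae⟩, h, hAH, hq, hne⟩

variable {a e x : G}

theorem Pair.eSub_eq (P : Pair p V H A a e x) : eSub p H A = P.X := by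
  refine le_antisymm (sup_le ?_ le_sup_left) (P.X_le_iff.mpr ⟨mem_sup_right P.mem_a, ?_⟩)
  · refine commutator_le.mpr fun q hq α hα => ?_
    rw [P.gen] at hα
    obtain ⟨n, rfl⟩ := mem_zpowers_iff.mp hα
    rw [commutatorElement_def, ← conj_zpow]
    exact mul_mem (zpow_mem (P.conj_mem hq) n) (inv_mem (zpow_mem P.a_memX n))
  · rw [show x * a * x⁻¹ = ⁅x, a⁆ * a by rw [commutatorElement_def, inv_mul_cancel_right]]
    exact mul_mem (mem_sup_left (commutator_mem_commutator P.memQ P.mem_a)) (mem_sup_right P.mem_a)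

omit hp in
theorem commute_of_lines (h : FF p V H) {u v : G} (hu : u ∈ H) (hv : v ∈ H) {K L : Subgroup G}
    (hKV : K ≤ V) (hLV : L ≤ V) (huK : ∀ w ∈ V, ⁅w, u⁆ ∈ K) (hvL : ∀ w ∈ V, ⁅w, v⁆ ∈ L)
    (hvK : ∀ w ∈ K, Commute v w) (huL : ∀ w ∈ L, Commute u w) : Commute u v := by
  have h1 : (v * u)⁻¹ * (u * v) = 1 := by
    refine h.eq_one (mul_mem (inv_mem (mul_mem hv hu)) (mul_mem hu hv)) fun w hw => ?_
    set k := ⁅w⁻¹, u⁆ with hk
    set l := ⁅w⁻¹, v⁆ with hl
    have hkK := huK _ (inv_mem hw)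
    have hlL := hvL _ (inv_mem hw)
    have eu : u * w * u⁻¹ = w * k := by rw [hk, commutatorElement_def]; group
    have ev : v * w * v⁻¹ = w * l := by rw [hl, commutatorElement_def]; group
    have e1 : u * v * w * (u * v)⁻¹ = w * k * l := by
      calc u * v * w * (u * v)⁻¹ = u * (v * w * v⁻¹) * u⁻¹ := by group
        _ = u * w * u⁻¹ * (u * l * u⁻¹) := by rw [ev]; group
        _ = w * k * l := by rw [eu, (huL l hlL).eq, mul_inv_cancel_right]
    have e2 : v * u * w * (v * u)⁻¹ = w * k * l := by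
      calc v * u * w * (v * u)⁻¹ = v * (u * w * u⁻¹) * v⁻¹ := by group
        _ = v * w * v⁻¹ * (v * k * v⁻¹) := by rw [eu]; group
        _ = w * k * l := by
          rw [ev, (hvK k hkK).eq, mul_inv_cancel_right, mul_assoc, mul_assoc,
            commute_mem h.hV.1 (hLV hlL) (hKV hkK)]
    calc w * ((v * u)⁻¹ * (u * v)) = (v * u)⁻¹ * (v * u * w * (v * u)⁻¹) * (u * v) := by group
      _ = (v * u)⁻¹ * (u * v * w * (u * v)⁻¹) * (u * v) := by rw [e1, e2]
      _ = (v * u)⁻¹ * (u * v) * w := by group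
  exact (inv_mul_eq_one.mp h1).symm

end Groups

end Cfsg.Agent.Offender
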