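import Cfsg.Agent.Lib.Offender.Replacement
import Cfsg.Agent.Lib.Coprime.Generation
import Cfsg.Agent.Lib.PCore.Basic
import Cfsg.Agent.Lib.Subnormal.Join

/-!
# Best offenders when the `p'`-core is self-centralizing

`H` acts faithfully on the elementary abelian `p`-group `V` and contains the centralizer (in `H`) of
`Q = O_{p'}(H)`.

* `offV_eq_card`: a best offender `A` has `|A| |C_V(A)| = |V|`
* `IsTv`: subgroups of order `p` centralizing a hyperplane of `V`
* `isTv_of_minimal`, `IsTv.minimal`, `IsTv.card_commutator`, `IsTv.exists_line`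
* `exists_tv_family`: a best offender is the direct product of such subgroups
-/

set_option autoImplicit false

namespace Cfsg.Agent.Offender

open Subgroup
open scoped commutatorElement

universe u

variable {G : Type u} [Group G] {p : ℕ}

/-- `O_{p'}(H)` as a subgroup of the ambient group. -/
abbrev qcore (p : ℕ) (H : Subgroup G) : Subgroup G := (pPrimeCore p ↥H).map H.subtype

/-- `H` acts faithfully on `V` and `C_H(O_{p'}(H)) ≤ O_{p'}(H)`. -/
structure FF (p : ℕ) (V H : Subgroup G) : Prop where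
  hV : IsElementaryAbelian p V
  hHV : H ≤ normalizer (V : Set G)
  hf : H ⊓ centralizer (V : Set G) = ⊥
  hS1 : centralizer (pPrimeCore p ↥H : Set ↥H) ≤ pPrimeCore p ↥H

/-- `|B| |C_V(B)|`. -/
noncomputable def offV (V B : Subgroup G) : ℕ :=
  Nat.card B * Nat.card ↥(V ⊓ centralizer (B : Set G))

/-- A subgroup of order `p` centralizing a hyperplane of `V`. -/
def IsTv (p : ℕ) (V A : Subgroup G) : Prop :=
  Nat.card A = p ∧ Nat.card V = p * Nat.card ↥(V ⊓ centralizer (A : Set G))

theorem offV_bot (V : Subgroup G) : offV V ⊥ = Nat.card V := by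
  rw [offV, Subgroup.card_bot, one_mul, show centralizer ((⊥ : Subgroup G) : Set G) = ⊤ from
    eq_top_iff.mpr (le_centralizer_iff.mp bot_le), inf_top_eq]

section

variable {V H : Subgroup G} (h : FF p V H)
include h

theorem FF.eq_one {x : G} (hx : x ∈ H) (hc : x ∈ centralizer (V : Set G)) : x = 1 := by
  rw [← mem_bot, ← h.hf]
  exact ⟨hx, hc⟩

theorem FF.eq_bot {A : Subgroup G} (hA : A ≤ H) (hc : ⁅V, A⁆ = ⊥) : A = ⊥ :=
  (eq_bot_iff_forall _).mpr fun _ ha =>
    h.eq_one (hA ha) (le_centralizer_iff.mp (commutator_eq_bot_iff_le_centralizer.mp hc) ha)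

omit h in
theorem qcore_le : qcore p H ≤ H := map_subtype_le _

omit h in
theorem le_normalizer_qcore : H ≤ normalizer (qcore p H : Set G) :=
  (normal_subgroupOf_iff_le_normalizer qcore_le).mp (by
    rw [qcore, subgroupOf, comap_map_eq_self_of_injective H.subtype_injective]
    exact Subgroup.sSup_normal _ fun _ hN => hN.1)

omit h in
theorem conj_mem_qcore {x q : G} (hx : x ∈ H) (hq : q ∈ qcore p H) : x * q * x⁻¹ ∈ qcore p H :=
  (mem_normalizer_iff.mp (le_normalizer_qcore hx) q).mp hq

omit h in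
theorem coprime_card_qcore [Finite G] : (Nat.card (qcore p H)).Coprime p := by
  rw [card_map_of_injective H.subtype_injective]
  exact PCore.coprime_card_pPrimeCore

omit h in
theorem coprime_orderOf_of_mem_qcore [Finite G] {y : G} (hy : y ∈ qcore p H) :
    (orderOf y).Coprime p :=
  coprime_card_qcore.coprime_dvd_left (orderOf_dvd_natCard _ hy)

theorem FF.mem_qcore {x : G} (hx : x ∈ H) (hc : ∀ q ∈ qcore p H, q * x = x * q) :
    x ∈ qcore p H :=
  ⟨⟨x, hx⟩, h.hS1 (fun q hq => Subtype.ext (hc q ⟨q, hq, rfl⟩)), rfl⟩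

end

theorem eq_one_of_pow_eq_one_of_coprime {y : G} {k : ℕ} (hy : (orderOf y).Coprime p)
    (hpk : y ^ p ^ k = 1) : y = 1 := by
  rw [← orderOf_eq_one_iff]
  exact Nat.eq_one_of_dvd_coprimes (hy.pow_right k) dvd_rfl (orderOf_dvd_of_pow_eq_one hpk)

section Offender

variable {V H A : Subgroup G} (h : FF p V H) (hAH : A ≤ H)
  (hA : IsBestOffenderOn p V A)
include h hAH hA

theorem FF.pow_eq_one {a : G} (ha : a ∈ A) : a ^ p = 1 :=
  h.eq_one (pow_mem (hAH ha) p) (hA.2.2 a ha)

theorem FF.commute {a b : G} (ha : a ∈ A) (hb : b ∈ A) : a * b = b * a := by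
  refine commutatorElement_eq_one_iff_mul_comm.mp (h.eq_one ?_ (hA.2.1 (commutator_mem_commutator ha hb)))
  rw [commutatorElement_def]
  exact mul_mem (mul_mem (mul_mem (hAH ha) (hAH hb)) (inv_mem (hAH ha))) (inv_mem (hAH hb))

theorem FF.isMulCommutative : IsMulCommutative A :=
  PGroup.isMulCommutative_of_forall fun _ ha _ hb => h.commute hAH hA ha hb

theorem FF.isPGroup : IsPGroup p A := fun a =>
  ⟨1, Subtype.ext (by rw [pow_one]; exact h.pow_eq_one hAH hA a.2)⟩

variable [Finite G] [hp : Fact p.Prime]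

theorem FF.inf_centralizer_qcore : A ⊓ centralizer (qcore p H : Set G) = ⊥ := by
  refine (eq_bot_iff_forall _).mpr fun a ha => ?_
  obtain ⟨ha, hc⟩ := mem_inf.mp ha
  exact eq_one_of_pow_eq_one_of_coprime (k := 1)
    (coprime_orderOf_of_mem_qcore (h.mem_qcore (hAH ha) fun q hq => hc q hq))
    (by rw [pow_one]; exact h.pow_eq_one hAH hA ha)

/-- A hyperplane whose fixed points in `Q` are moved by `A` has the same product. -/
theorem FF.offV_eq_of_moved {B : Subgroup G} (hBA : B ≤ A) (hB : Nat.card B * p = Nat.card A)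
    (hmov : ¬ qcore p H ⊓ centralizer (B : Set G) ≤ centralizer (A : Set G)) :
    offV V B = offV V A := by
  obtain ⟨x, hx, hxA⟩ := SetLike.not_le_iff_exists.mp hmov
  obtain ⟨hxQ, hxB⟩ := mem_inf.mp hx
  rw [mem_centralizer_iff] at hxA
  push Not at hxA
  obtain ⟨a, ha, hne⟩ := hxA
  set CA := V ⊓ centralizer (A : Set G) with hCA
  set CB := V ⊓ centralizer (B : Set G) with hCB
  have hle : CA ≤ CB := inf_le_inf_left _ (centralizer_le (SetLike.coe_subset_coe.mpr hBA))
  have hneq : CA ≠ CB := by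
    intro heq
    set y := x * a * x⁻¹ * a⁻¹ with hy
    have hyQ : y ∈ qcore p H := by
      rw [hy, show x * a * x⁻¹ * a⁻¹ = x * (a * x⁻¹ * a⁻¹) by group]
      exact mul_mem hxQ (conj_mem_qcore (hAH ha) (inv_mem hxQ))
    have hxH := qcore_le hxQ
    have hyB : y ∈ centralizer (B : Set G) := by
      intro b hb
      have h1 : Commute b x := hxB b hb
      have h2 : Commute b a := h.commute hAH hA (hBA hb) ha
      exact (((h1.mul_right h2).mul_right h1.inv_right).mul_right h2.inv_right).eq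
    -- `y` fixes `C_V(B)`
    have hyC : ∀ v ∈ CB, Commute v y := by
      intro v hv
      obtain ⟨hvV, hvB⟩ := mem_inf.mp hv
      have hconj : x⁻¹ * v * x ∈ CB := by
        refine mem_inf.mpr ⟨by simpa using (mem_normalizer_iff.mp (h.hHV (inv_mem hxH)) v).mp hvV,
          fun b hb => ?_⟩
        have h1 : Commute b x := hxB b hb
        have h2 : Commute b v := hvB b hb
        exact ((h1.inv_right.mul_right h2).mul_right h1).eq
      rw [← heq] at hconj hv
      have h1 : Commute a v := (mem_inf.mp hv).2 a ha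
      have h2 : Commute a (x⁻¹ * v * x) := (mem_inf.mp hconj).2 a ha
      show v * y = y * v
      calc v * y = x * ((x⁻¹ * v * x) * a) * x⁻¹ * a⁻¹ := by rw [hy]; group
        _ = x * a * x⁻¹ * (v * a⁻¹) := by rw [← h2.eq]; group
        _ = x * a * x⁻¹ * (a⁻¹ * v) := by rw [h1.symm.inv_right.eq]
        _ = y * v := by rw [hy]; group
    have hcent : zpowers y ≤ centralizer (V : Set G) := by
      refine Coprime.le_centralizer_of_pq (P := B) ?_ ?_
        (PGroup.isPGroup_of_elementaryAbelian h.hV) ?_ ((hBA.trans hAH).trans h.hHV)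
        (zpowers_le.mpr (h.hHV (qcore_le hyQ))) ?_
      · exact (h.isPGroup hAH hA).to_le hBA
      · rw [Nat.card_zpowers]; exact coprime_orderOf_of_mem_qcore hyQ
      · rw [le_centralizer_iff]
        exact zpowers_le.mpr hyB
      · intro v hv
        rintro _ ⟨n, rfl⟩
        exact ((hyC v hv).zpow_right n).symm.eq
    have hy1 : y = 1 := h.eq_one (qcore_le hyQ) (hcent (mem_zpowers y))
    rw [hy, mul_inv_eq_one, mul_inv_eq_iff_eq_mul] at hy1
    exact hne hy1.symm
  have hlt : Nat.card CA < Nat.card CB := (Set.toFinite _).card_lt_card (SetLike.coe_ssubset_coe.mpr (lt_of_le_of_ne hle hneq))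
  obtain ⟨i, hi⟩ := IsPGroup.iff_card.mp
    ((PGroup.isPGroup_of_elementaryAbelian h.hV).to_le (inf_le_left : CA ≤ V))
  obtain ⟨j, hj⟩ := IsPGroup.iff_card.mp
    ((PGroup.isPGroup_of_elementaryAbelian h.hV).to_le (inf_le_left : CB ≤ V))
  have hij : i < j := by
    rw [hi, hj] at hlt
    exact (Nat.pow_lt_pow_iff_right hp.out.one_lt).mp hlt
  have hmul : p * Nat.card CA ≤ Nat.card CB := by
    rw [hi, hj, ← pow_succ']
    exact Nat.pow_le_pow_right hp.out.pos hij
  refine le_antisymm (hA.1 B hBA) ?_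
  calc offV V A = Nat.card B * (p * Nat.card CA) := by rw [offV, ← hCA, ← hB]; ring
    _ ≤ offV V B := Nat.mul_le_mul_left _ hmul

/-- For every nonidentity element of `A` some hyperplane avoiding it has the same product. -/
theorem FF.exists_hyperplane {a : G} (ha : a ∈ A) (ha1 : a ≠ 1) :
    ∃ B ≤ A, Nat.card B * p = Nat.card A ∧ offV V B = offV V A ∧ a ∉ B := by
  have := h.isMulCommutative hAH hA
  by_contra hcon
  push Not at hcon
  have hle : qcore p H ≤ centralizer ({a} : Set G) := by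
    refine Coprime.le_of_forall_cyclic_quotient (A := A) (hAH.trans le_normalizer_qcore) ?_ ?_
    · obtain ⟨k, hk⟩ := IsPGroup.iff_card.mp (h.isPGroup hAH hA)
      rw [hk]
      exact (coprime_card_qcore.symm).pow_left k
    intro B hBA ⟨c, hc, hBc⟩
    by_cases hmov : qcore p H ⊓ centralizer (B : Set G) ≤ centralizer (A : Set G)
    · exact hmov.trans (centralizer_le (Set.singleton_subset_iff.mpr ha))
    have hcB : c ∉ B := fun hcB => hmov (by
      rw [sup_eq_left.mpr (zpowers_le.mpr hcB)] at hBc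
      rw [hBc]
      exact inf_le_right)
    have hc1 : c ≠ 1 := fun e => hcB (e ▸ one_mem B)
    have hord : orderOf c = p := orderOf_eq_prime (h.pow_eq_one hAH hA hc) hc1
    have hn : zpowers c ≤ normalizer (B : Set G) :=
      (show zpowers c ≤ centralizer (B : Set G) from zpowers_le.mpr fun b hb =>
        h.commute hAH hA (hBA hb) hc).trans (centralizer_le_normalizer _)
    have hcard : Nat.card B * p = Nat.card A := by
      have hdis : zpowers c ⊓ B = ⊥ := by
        refine le_bot_iff.mp ?_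
        have h2 : Nat.card ↥(zpowers c ⊓ B) ∣ p := by
          have := card_dvd_of_le (inf_le_left : zpowers c ⊓ B ≤ zpowers c)
          rwa [Nat.card_zpowers, hord] at this
        rcases (Nat.dvd_prime hp.out).mp h2 with h3 | h3
        · exact (card_eq_one.mp h3).le
        · exfalso
          have := eq_of_le_of_card_ge (inf_le_left : zpowers c ⊓ B ≤ zpowers c)
            (by rw [Nat.card_zpowers, hord, h3])
          exact hcB ((inf_eq_left.mp this) (mem_zpowers c))
      have e := card_sup_mul_card_inf hn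
      rw [hdis, Subgroup.card_bot, mul_one, sup_comm, hBc, Nat.card_zpowers, hord] at e
      rw [e, mul_comm]
    have haB := hcon B hBA hcard (h.offV_eq_of_moved hAH hA hBA hcard hmov)
    exact inf_le_right.trans (centralizer_le (Set.singleton_subset_iff.mpr haB))
  refine ha1 (mem_bot.mp (h.inf_centralizer_qcore hAH hA ▸ mem_inf.mpr ⟨ha, fun q hq => ?_⟩))
  exact mem_centralizer_singleton_iff.mp (hle hq)

end Offender

theorem isBestOffenderOn_of_offV_eq {V A B : Subgroup G} (hA : IsBestOffenderOn p V A) (hBA : B ≤ A)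
    (hB : offV V B = offV V A) : IsBestOffenderOn p V B :=
  ⟨fun C hC => (hA.1 C (hC.trans hBA)).trans hB.ge, (commutator_mono hBA hBA).trans hA.2.1,
    fun a ha => hA.2.2 a (hBA ha)⟩

section Main

variable [Finite G] [hp : Fact p.Prime] {V H A : Subgroup G}

/-- `|A| |C_V(A)| = |V|` for every best offender. -/
theorem FF.offV_eq_card (h : FF p V H) (hAH : A ≤ H) (hA : IsBestOffenderOn p V A) :
    offV V A = Nat.card V := by
  induction hn : Nat.card A using Nat.strong_induction_on generalizing A with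
  | _ n ih =>
  by_cases hbot : A = ⊥
  · rw [hbot, offV_bot]
  obtain ⟨a, ha⟩ := ne_bot_iff_exists_ne_one.mp hbot
  obtain ⟨B, hBA, hcard, hB, -⟩ := h.exists_hyperplane hAH hA a.2 fun e => ha (Subtype.ext e)
  rw [← hB]
  refine ih _ ?_ (hBA.trans hAH) (isBestOffenderOn_of_offV_eq hA hBA hB) rfl
  rw [← hn, ← hcard]
  exact lt_mul_of_one_lt_right Nat.card_pos hp.out.one_lt

theorem FF.isTv_of_minimal (h : FF p V H) (hAH : A ≤ H) (hA : IsBestOffenderOn p V A)
    (hAV : ⁅V, A⁆ ≠ ⊥)
    (hmin : ∀ B : Subgroup G, B ≤ A → IsBestOffenderOn p V B → ⁅V, B⁆ ≠ ⊥ → B = A) :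
    IsTv p V A := by
  have hbot : A ≠ ⊥ := fun e => hAV (by rw [e, commutator_bot_right])
  obtain ⟨a, ha⟩ := ne_bot_iff_exists_ne_one.mp hbot
  obtain ⟨B, hBA, hcard, hB, haB⟩ := h.exists_hyperplane hAH hA a.2 fun e => ha (Subtype.ext e)
  have hB0 : B = ⊥ := by
    by_contra hne
    refine haB ?_
    rw [hmin B hBA (isBestOffenderOn_of_offV_eq hA hBA hB) fun e => hne (h.eq_bot (hBA.trans hAH) e)]
    exact a.2
  rw [hB0, Subgroup.card_bot, one_mul] at hcard
  refine ⟨hcard.symm, ?_⟩
  conv_lhs => rw [← h.offV_eq_card hAH hA, offV, ← hcard]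

omit hp in
theorem IsTv.isMulCommutative [Fact p.Prime] (hT : IsTv p V A) : IsMulCommutative A := by
  have : IsCyclic A := isCyclic_of_prime_card hT.1
  exact IsCyclic.isMulCommutative

theorem exists_zpowers_eq_of_card (hA : Nat.card A = p) :
    ∃ a, zpowers a = A ∧ orderOf a = p := by
  have : Nontrivial A := Finite.one_lt_card_iff_nontrivial.mp (hA ▸ hp.out.one_lt)
  obtain ⟨⟨a, ha⟩, ha1⟩ := exists_ne (1 : A)
  have h1 : orderOf a ∣ p := hA ▸ orderOf_dvd_natCard _ ha
  have h2 : orderOf a = p := ((Nat.dvd_prime hp.out).mp h1).resolve_left fun e =>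
    ha1 (Subtype.ext (orderOf_eq_one_iff.mp e))
  exact ⟨a, eq_of_le_of_card_ge (zpowers_le.mpr ha) (by rw [Nat.card_zpowers, h2, hA]), h2⟩

theorem IsTv.eq_bot_or_eq (hT : IsTv p V A) {C : Subgroup G} (hC : C ≤ A) : C = ⊥ ∨ C = A := by
  have h1 := card_dvd_of_le hC
  rw [hT.1] at h1
  rcases (Nat.dvd_prime hp.out).mp h1 with h2 | h2
  · exact Or.inl (card_eq_one.mp h2)
  · exact Or.inr (eq_of_le_of_card_ge hC (by rw [hT.1, h2]))

theorem IsTv.isBestOffenderOn (hT : IsTv p V A) : IsBestOffenderOn p V A := by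
  refine ⟨fun B hB => ?_, ?_, fun a ha => ?_⟩
  · rcases hT.eq_bot_or_eq hB with rfl | rfl
    · exact ((offV_bot V).trans (hT.2.trans (by rw [hT.1]))).le
    · exact le_rfl
  · have := hT.isMulCommutative
    rw [commutator_eq_bot_iff_le_centralizer.mpr (le_centralizer A)]
    exact bot_le
  · have h1 : a ^ p = 1 := by
      have := pow_card_eq_one' (x := (⟨a, ha⟩ : A))
      rw [hT.1] at this
      exact congrArg Subtype.val this
    rw [h1]
    exact one_mem _

theorem IsTv.commutator_ne_bot (hT : IsTv p V A) : ⁅V, A⁆ ≠ ⊥ := fun e => by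
  have h2 := hT.2
  rw [inf_eq_left.mpr (commutator_eq_bot_iff_le_centralizer.mp e)] at h2
  have : Nat.card V < p * Nat.card V := lt_mul_of_one_lt_left Nat.card_pos hp.out.one_lt
  omega

theorem IsTv.minimal (hT : IsTv p V A) (B : Subgroup G) (hB : B ≤ A)
    (hB' : ⁅V, B⁆ ≠ ⊥) : B = A :=
  (hT.eq_bot_or_eq hB).resolve_left fun e => hB' (by rw [e, commutator_bot_right])

theorem IsTv.ne_bot (hT : IsTv p V A) : A ≠ ⊥ := fun e =>
  hp.out.ne_one (by rw [← hT.1, e, Subgroup.card_bot])

/-- A generator of `A` and of `[V, A]`. -/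
theorem IsTv.exists_line (hT : IsTv p V A) (hV : IsElementaryAbelian p V)
    (hAV : A ≤ normalizer (V : Set G)) : ∃ a e : G, A = zpowers a ∧ orderOf a = p ∧ e ∈ V ∧
      orderOf e = p ∧ ⁅V, A⁆ = zpowers e ∧ Commute a e := by
  obtain ⟨a, ha, hord⟩ := exists_zpowers_eq_of_card hT.1
  have haA : a ∈ A := ha ▸ mem_zpowers a
  set φ := commHom V hV.1 a (hAV haA) with hφ
  have hker : φ.ker.map V.subtype = V ⊓ centralizer (A : Set G) := by
    ext v
    constructor
    · rintro ⟨v, hv, rfl⟩
      refine ⟨v.2, ?_⟩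
      rw [← ha]
      rintro _ ⟨n, rfl⟩
      have h0 : Commute (v : G) a :=
        commutatorElement_eq_one_iff_mul_comm.mp (MonoidHom.mem_ker.mp hv)
      exact (h0.symm.zpow_left n).eq
    · rintro ⟨hv, hc⟩
      exact ⟨⟨v, hv⟩, MonoidHom.mem_ker.mpr (commutatorElement_eq_one_iff_mul_comm.mpr (hc a haA).symm), rfl⟩
  have hR : Nat.card φ.range = p := by
    have h1 := φ.ker.card_mul_index
    rw [index_ker, ← card_map_of_injective V.subtype_injective, hker, hT.2, mul_comm p] at h1
    exact Nat.eq_of_mul_eq_mul_left Nat.card_pos h1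
  obtain ⟨e, he, -⟩ := exists_zpowers_eq_of_card hR
  have hRV : φ.range ≤ V := by
    rintro _ ⟨v, rfl⟩
    exact commutator_le_left hAV (commutator_mem_commutator v.2 haA)
  -- `A` fixes the range
  have hnorm : A ≤ normalizer (φ.range : Set G) := by
    rw [← ha, zpowers_le]
    have hf : ∀ y ∈ φ.range, a * y * a⁻¹ ∈ φ.range := by
      rintro _ ⟨v, rfl⟩
      refine ⟨⟨a * v * a⁻¹, conj_mem' hAV haA v.2⟩, ?_⟩
      simp only [hφ, commHom_apply, commutatorElement_def]
      group
    exact Subnormal.mem_normalizer_of_cj_le (by rintro _ ⟨y, hy, rfl⟩; exact hf y hy)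
  have hfix : ⁅φ.range, A⁆ = ⊥ := by
    by_contra hne
    have hle := commutator_le_left hnorm
    have heq : ⁅φ.range, A⁆ = φ.range := by
      refine eq_of_le_of_card_ge hle ?_
      have h1 := card_dvd_of_le hle
      rw [hR] at h1 ⊢
      rcases (Nat.dvd_prime hp.out).mp h1 with h2 | h2
      · exact absurd (card_eq_one.mp h2) hne
      · exact h2.ge
    have := eq_bot_of_commutator_eq hV.1 (PGroup.isPGroup_of_elementaryAbelian hV) hAV
      hT.isBestOffenderOn.2.1 hT.isBestOffenderOn.2.2 hRV heq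
    rw [this, commutator_bot_left] at hne
    exact hne rfl
  have hca : ∀ y ∈ φ.range, Commute a y := fun y hy =>
    (commutator_eq_bot_iff_le_centralizer.mp hfix hy) a haA
  refine ⟨a, e, ha.symm, hord, hRV (he ▸ mem_zpowers e), by rw [← Nat.card_zpowers, he, hR], ?_,
    hca e (he ▸ mem_zpowers e)⟩
  rw [he]
  refine le_antisymm (commutator_le.mpr fun v hv x hx => ?_) ?_
  · rw [← ha] at hx
    have hxR : x ∈ normalizer (φ.range : Set G) := hnorm (ha ▸ hx)
    obtain ⟨n, rfl⟩ := (isOfFinOrder_of_finite _).mem_powers_iff_mem_zpowers.mpr hx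
    clear hxR hx
    simp only
    induction n with
    | zero => rw [pow_zero, commutatorElement_one_right]; exact one_mem _
    | succ n ih =>
      have h1 : ⁅v, a⁆ ∈ φ.range := ⟨⟨v, hv⟩, rfl⟩
      rw [pow_succ, show ⁅v, a ^ n * a⁆ = ⁅v, a ^ n⁆ * (a ^ n * ⁅v, a⁆ * (a ^ n)⁻¹) by
        simp only [commutatorElement_def]; group, ((hca _ h1).pow_left n).eq, mul_inv_cancel_right]
      exact mul_mem ih h1
  · rintro _ ⟨v, rfl⟩
    exact commutator_mem_commutator v.2 haA

theorem IsTv.card_commutator (hT : IsTv p V A) (hV : IsElementaryAbelian p V)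
    (hAV : A ≤ normalizer (V : Set G)) : Nat.card ↥(⁅V, A⁆) = p := by
  obtain ⟨a, e, -, -, -, he, h, -⟩ := hT.exists_line hV hAV
  rw [h, Nat.card_zpowers, he]

theorem IsTv.relIndex_eq (hT : IsTv p V A) : (V ⊓ centralizer (A : Set G)).relIndex V = p := by
  have h1 := relIndex_mul_relIndex ⊥ (V ⊓ centralizer (A : Set G)) V bot_le inf_le_left
  rw [relIndex_bot_left, relIndex_bot_left, hT.2, mul_comm p] at h1
  exact Nat.eq_of_mul_eq_mul_left Nat.card_pos h1

/-- Intersections of subgroups with the maximal product have the maximal product. -/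
theorem offV_inf (hV : IsMulCommutative V) (hab : IsMulCommutative A)
    (hA : IsBestOffenderOn p V A) {X Y : Subgroup G} (hX : X ≤ A) (hY : Y ≤ A)
    (hXe : offV V X = offV V A) (hYe : offV V Y = offV V A) : offV V (X ⊓ Y) = offV V A := by
  refine le_antisymm (hA.1 _ (inf_le_left.trans hX)) ?_
  have hn : X ≤ normalizer (Y : Set G) :=
    (show X ≤ centralizer (Y : Set G) from fun x hx y hy =>
      PGroup.mul_comm_of_isMulCommutative hab (hY hy) (hX hx)).trans (centralizer_le_normalizer _)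
  have hn' : V ⊓ centralizer (X : Set G) ≤
      normalizer ((V ⊓ centralizer (Y : Set G) : Subgroup G) : Set G) := fun v hv =>
    centralizer_le_normalizer _ fun w hw => commute_mem hV hw.1 hv.1
  have e1 := card_sup_mul_card_inf hn
  have e2 := card_sup_mul_card_inf hn'
  have i1 : V ⊓ centralizer (X : Set G) ⊓ (V ⊓ centralizer (Y : Set G)) =
      V ⊓ centralizer ((X ⊔ Y : Subgroup G) : Set G) := by
    rw [centralizer_sup_eq, inf_inf_inf_comm, inf_idem]
  rw [i1] at e2
  have h3 : Nat.card ↥(V ⊓ centralizer (X : Set G) ⊔ V ⊓ centralizer (Y : Set G)) ≤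
      Nat.card ↥(V ⊓ centralizer ((X ⊓ Y : Subgroup G) : Set G)) :=
    card_le_of_le (sup_le
      (inf_le_inf_left _ (centralizer_le (SetLike.coe_subset_coe.mpr inf_le_left)))
      (inf_le_inf_left _ (centralizer_le (SetLike.coe_subset_coe.mpr inf_le_right))))
  have h4 := hA.1 (X ⊔ Y) (sup_le hX hY)
  have h5 : offV V (X ⊔ Y) * (Nat.card ↥(X ⊓ Y) * Nat.card ↥(V ⊓ centralizer (X : Set G) ⊔ V ⊓ centralizer (Y : Set G))) =
      offV V X * offV V Y := by
    simp only [offV]
    calc _ = (Nat.card ↥(X ⊔ Y) * Nat.card ↥(X ⊓ Y)) *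
          (Nat.card ↥(V ⊓ centralizer (X : Set G) ⊔ V ⊓ centralizer (Y : Set G)) *
            Nat.card ↥(V ⊓ centralizer ((X ⊔ Y : Subgroup G) : Set G))) := by ring
      _ = _ := by rw [e1, e2]; ring
  rw [hXe, hYe] at h5
  have hpos : 0 < offV V A := Nat.mul_pos Nat.card_pos Nat.card_pos
  refine Nat.le_of_mul_le_mul_left ?_ hpos
  calc offV V A * offV V A
      = offV V (X ⊔ Y) * (Nat.card ↥(X ⊓ Y) *
          Nat.card ↥(V ⊓ centralizer (X : Set G) ⊔ V ⊓ centralizer (Y : Set G))) := h5.symm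
    _ ≤ offV V A * offV V (X ⊓ Y) := Nat.mul_le_mul h4 (Nat.mul_le_mul_left _ h3)

/-- A subgroup not inside a hyperplane meets it in a hyperplane. -/
theorem card_inf_hyperplane (hab : IsMulCommutative A) {X B : Subgroup G}
    (hX : X ≤ A) (hB : B ≤ A) (hcard : Nat.card B * p = Nat.card A) (hXB : ¬ X ≤ B) :
    Nat.card ↥(X ⊓ B) * p = Nat.card X := by
  have hn : X ≤ normalizer (B : Set G) :=
    (show X ≤ centralizer (B : Set G) from fun x hx b hb =>
      PGroup.mul_comm_of_isMulCommutative hab (hB hb) (hX hx)).trans (centralizer_le_normalizer _)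
  have e := card_sup_mul_card_inf hn
  obtain ⟨m, hm⟩ := card_dvd_of_le (le_sup_right : B ≤ X ⊔ B)
  have hd := card_dvd_of_le (sup_le hX hB)
  rw [hm, ← hcard] at hd
  rcases (Nat.dvd_prime Fact.out).mp (Nat.dvd_of_mul_dvd_mul_left Nat.card_pos hd) with h1 | h1
  · exact absurd (le_sup_left.trans
      (eq_of_le_of_card_ge (le_sup_right : B ≤ X ⊔ B) (by rw [hm, h1, mul_one])).ge) hXB
  · rw [hm, h1] at e
    refine Nat.eq_of_mul_eq_mul_left (Nat.card_pos (α := B)) ?_
    calc Nat.card B * (Nat.card ↥(X ⊓ B) * p) = Nat.card B * p * Nat.card ↥(X ⊓ B) := by ring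
      _ = Nat.card X * Nat.card B := e
      _ = Nat.card B * Nat.card X := by ring

/-- A subgroup with maximal product outside a hyperplane contains a transvection group outside it. -/
theorem FF.exists_tv_not_le (h : FF p V H) (hAH : A ≤ H) (hA : IsBestOffenderOn p V A)
    {B : Subgroup G} (hBA : B ≤ A) (hcard : Nat.card B * p = Nat.card A) :
    ∃ D ≤ A, IsTv p V D ∧ D ⊓ B = ⊥ := by
  have hab := h.isMulCommutative hAH hA
  have hAB : ¬ A ≤ B := fun hle => by
    have h1 := card_le_of_le hle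
    have h2 : Nat.card B < Nat.card B * p := lt_mul_of_one_lt_right Nat.card_pos hp.out.one_lt
    omega
  obtain ⟨D, hD⟩ := Set.Finite.exists_minimal
    (s := {X : Subgroup G | X ≤ A ∧ offV V X = offV V A ∧ ¬ X ≤ B}) (Set.toFinite _)
    ⟨A, le_rfl, rfl, hAB⟩
  obtain ⟨hDA, hDe, hDB⟩ := hD.1
  have hdis : D ⊓ B = ⊥ := by
    by_contra hne
    obtain ⟨a, ha⟩ := ne_bot_iff_exists_ne_one.mp hne
    obtain ⟨B', hB'A, hB'c, hB'e, haB'⟩ := h.exists_hyperplane hAH hA
      (hDA (mem_inf.mp a.2).1) fun e => ha (Subtype.ext e)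
    have hDB' : ¬ D ≤ B' := fun hle => haB' (hle (mem_inf.mp a.2).1)
    have hle : D ⊓ B' ≤ B := by
      by_contra hnot
      have := hD.2 ⟨inf_le_left.trans hDA, offV_inf h.hV.1 hab hA hDA hB'A hDe hB'e, hnot⟩
        inf_le_left
      exact hDB' (this.trans inf_le_right)
    have heq := eq_of_le_of_card_ge (le_inf inf_le_left hle : D ⊓ B' ≤ D ⊓ B) (by
      refine Nat.le_of_mul_le_mul_right ?_ hp.out.pos
      rw [card_inf_hyperplane hab hDA hBA hcard hDB, card_inf_hyperplane hab hDA hB'A hB'c hDB'])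
    exact haB' (mem_inf.mp (heq.ge a.2)).2
  have hDc := card_inf_hyperplane hab hDA hBA hcard hDB
  rw [hdis, Subgroup.card_bot, one_mul] at hDc
  refine ⟨D, hDA, ⟨hDc.symm, ?_⟩, hdis⟩
  rw [← h.offV_eq_card hAH hA, ← hDe, offV, ← hDc]

/-- A best offender is the direct product of transvection groups. -/
theorem FF.exists_tv_family (h : FF p V H) (hAH : A ≤ H) (hA : IsBestOffenderOn p V A) :
    ∃ (k : ℕ) (B : Fin k → Subgroup G), (∀ i, B i ≤ A ∧ IsTv p V (B i)) ∧ iSupIndep B ∧
      ⨆ i, B i = A := by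
  induction hn : Nat.card A using Nat.strong_induction_on generalizing A with
  | _ n ih =>
  by_cases hbot : A = ⊥
  · exact ⟨0, fun i => i.elim0, fun i => i.elim0, fun i => i.elim0, by
      rw [hbot, iSup_of_empty]⟩
  obtain ⟨a, ha⟩ := ne_bot_iff_exists_ne_one.mp hbot
  obtain ⟨B, hBA, hcard, hB, -⟩ := h.exists_hyperplane hAH hA a.2 fun e => ha (Subtype.ext e)
  obtain ⟨D, hDA, hD, hdis⟩ := h.exists_tv_not_le hAH hA hBA hcard
  obtain ⟨k, F, hF, hind, hsup⟩ := ih _
    (by rw [← hn, ← hcard]; exact lt_mul_of_one_lt_right Nat.card_pos hp.out.one_lt)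
    (hBA.trans hAH) (isBestOffenderOn_of_offV_eq hA hBA hB) rfl
  have hab := h.isMulCommutative hAH hA
  refine ⟨k + 1, Fin.cons D F, ?_, ?_, ?_⟩
  · intro i
    cases i using Fin.cases with
    | zero => exact ⟨by simpa using hDA, by simpa using hD⟩
    | succ i => exact ⟨by simpa using (hF i).1.trans hBA, by simpa using (hF i).2⟩
  · intro i
    rw [disjoint_iff, eq_bot_iff_forall]
    intro x hx
    obtain ⟨hxi, hxs⟩ := mem_inf.mp hx
    refine Fin.cases ?_ (fun i hxi hxs => ?_) i hxi hxs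
    · intro hx0 hxs
      have hle : (⨆ (j : Fin (k + 1)) (_ : j ≠ 0), (Fin.cons D F : Fin (k + 1) → Subgroup G) j) ≤ B := by
        refine iSup₂_le fun j hj => ?_
        obtain ⟨j, rfl⟩ := Fin.exists_succ_eq.mpr hj
        rw [Fin.cons_succ, ← hsup]
        exact le_iSup F j
      rw [Fin.cons_zero] at hx0
      exact mem_bot.mp (hdis.le (mem_inf.mpr ⟨hx0, hle hxs⟩))
    · rw [Fin.cons_succ] at hxi
      have hle : (⨆ (j : Fin (k + 1)) (_ : j ≠ i.succ), (Fin.cons D F : Fin (k + 1) → Subgroup G) j) ≤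
          D ⊔ ⨆ (j : Fin k) (_ : j ≠ i), F j := by
        refine iSup₂_le fun j hj => ?_
        cases j using Fin.cases with
        | zero => rw [Fin.cons_zero]; exact le_sup_left
        | succ j =>
          rw [Fin.cons_succ]
          refine le_trans ?_ le_sup_right
          exact le_iSup₂ (f := fun j (_ : j ≠ i) => F j) j fun e => hj (congrArg Fin.succ e)
      have hRB : (⨆ (j : Fin k) (_ : j ≠ i), F j) ≤ B := iSup₂_le fun j _ => hsup ▸ le_iSup F j
      have hn : D ≤ normalizer ((⨆ (j : Fin k) (_ : j ≠ i), F j : Subgroup G) : Set G) :=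
        (show D ≤ centralizer ((⨆ (j : Fin k) (_ : j ≠ i), F j : Subgroup G) : Set G) from
          fun d hd r hr => PGroup.mul_comm_of_isMulCommutative hab (hBA (hRB hr)) (hDA hd)).trans
            (centralizer_le_normalizer _)
      obtain ⟨d, hd, r, hr, rfl⟩ := (Coprime.mem_sup_iff_of_le_normalizer hn).mp (hle hxs)
      have hd1 : d = 1 := by
        refine mem_bot.mp (hdis.le (mem_inf.mpr ⟨hd, ?_⟩))
        simpa using mul_mem ((hsup ▸ le_iSup F i : F i ≤ B) hxi) (inv_mem (hRB hr))
      subst hd1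
      rw [one_mul] at hxi ⊢
      exact mem_bot.mp ((hind i).le_bot (mem_inf.mpr ⟨hxi, hr⟩))
  · refine le_antisymm (iSup_le fun i => ?_) ?_
    · cases i using Fin.cases with
      | zero => simpa using hDA
      | succ i => simpa using (hF i).1.trans hBA
    · have hle : D ⊔ B ≤ ⨆ i, (Fin.cons D F : Fin (k + 1) → Subgroup G) i := by
        refine sup_le (le_iSup_of_le 0 (by simp)) (hsup ▸ iSup_le fun i => le_iSup_of_le i.succ (by simp))
      refine le_trans (le_of_eq (eq_of_le_of_card_ge (sup_le hDA hBA) ?_).symm) hle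
      have hn : D ≤ normalizer (B : Set G) :=
        (show D ≤ centralizer (B : Set G) from fun d hd b hb =>
          PGroup.mul_comm_of_isMulCommutative hab (hBA hb) (hDA hd)).trans (centralizer_le_normalizer _)
      have e := card_sup_mul_card_inf hn
      rw [hdis, Subgroup.card_bot, mul_one, hD.1] at e
      rw [e, ← hcard, mul_comm]

end Main

end Cfsg.Agent.Offender
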