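import Cfsg.Agent.Lib.Offender.PairTwo
import Cfsg.Agent.Lib.Offender.GapCount

/-!
# No offenders without a plane: the minimal configuration

`WFF.exists_plane`: let a Sylow 2-subgroup `T` of `X` lie in a unique maximal subgroup `M`, let `M`
normalize `W`, `V = ⟨W^X⟩`, let the conjugates in `M` of a quadratic offender `A ≤ T` fix `W`, and let
every quadratic 2-subgroup `D` of `M` moving `W` satisfy `|D| |C_W(D)| < |W| |C_D(W)|`.  Then some
elements of `X` induce `S₃` on a four-subgroup of `V`.  No solvability or classification is used.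
-/

set_option autoImplicit false
set_option linter.style.haveILetI false

namespace Cfsg.Agent.Offender

open Subgroup Subnormal
open scoped commutatorElement

universe u

variable {G : Type u} [Group G]

/-- The configuration. -/
structure WFF (V X T A M W : Subgroup G) : Prop where
  hV : IsElementaryAbelian 2 V
  hXV : X ≤ normalizer (V : Set G)
  hTX : T ≤ X
  hT : IsPGroup 2 T
  hTi : ¬ 2 ∣ T.relIndex X
  hAT : A ≤ T
  hbest : ∀ B ≤ A, Nat.card B * Nat.card ↥(V ⊓ centralizer (B : Set G)) ≤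
    Nat.card A * Nat.card ↥(V ⊓ centralizer (A : Set G))
  hquad : ⁅⁅V, A⁆, A⁆ = ⊥
  hne : ¬ A ≤ centralizer (V : Set G)
  hWV : W ≤ V
  hgen : V ≤ closure {y | ∃ x ∈ X, ∃ w ∈ W, y = x * w * x⁻¹}
  hMX : M < X
  hTM : T ≤ M
  huniq : ∀ H : Subgroup G, H < X → T ≤ H → H ≤ M
  hMW : M ≤ normalizer (W : Set G)
  hWM : X ⊓ normalizer (W : Set G) ≤ M
  hWA : ∀ z ∈ X, cj z A ≤ M → cj z A ≤ centralizer (W : Set G)
  hstrict : ∀ D : Subgroup G, D ≤ M → IsPGroup 2 D → ⁅⁅W, D⁆, D⁆ = ⊥ →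
    ¬ D ≤ centralizer (W : Set G) →
      Nat.card D * Nat.card ↥(W ⊓ centralizer (D : Set G)) <
        Nat.card W * Nat.card ↥(D ⊓ centralizer (W : Set G))

section Main

variable {V X T A M W : Subgroup G} (h : WFF V X T A M W)
include h

theorem WFF.cj_ne {z : G} (hz : z ∈ X) : ¬ cj z A ≤ centralizer (V : Set G) := fun hle =>
  h.hne fun a ha v hv => by
    have h1 : z * a * z⁻¹ ∈ centralizer (V : Set G) := hle (conj_mem_cj ha)
    have h2 := h1 (z * v * z⁻¹) ((mem_normalizer_iff.mp (h.hXV hz) v).mp hv)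
    exact mul_left_cancel (a := z) (mul_right_cancel (b := z⁻¹) (by simpa [mul_assoc] using h2))

theorem WFF.cj_le_X {z : G} (hz : z ∈ X) {B : Subgroup G} (hB : B ≤ X) : cj z B ≤ X :=
  (cj_mono hB).trans (cj_eq_of_mem hz).le

/-- Not every conjugate of `A` lies in `M`. -/
theorem WFF.not_forall (hall : ∀ x ∈ X, cj x A ≤ M) : False := by
  refine h.hne fun a ha => ?_
  suffices hVc : V ≤ centralizer ({a} : Set G) from
    fun v hv => mem_centralizer_singleton_iff.mp (hVc hv)
  refine h.hgen.trans ((closure_le _).mpr ?_)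
  rintro _ ⟨x, hx, w, hw, rfl⟩
  refine mem_centralizer_singleton_iff.mpr ?_
  have h1 := h.hWA x⁻¹ (inv_mem hx) (hall _ (inv_mem hx)) (conj_mem_cj ha) w hw
  calc x * w * x⁻¹ * a = x * (w * (x⁻¹ * a * x⁻¹⁻¹)) * x⁻¹ := by group
    _ = x * (x⁻¹ * a * x⁻¹⁻¹ * w) * x⁻¹ := by rw [h1]
    _ = a * (x * w * x⁻¹) := by group

/-- No subgroup of `M` normalized by `X` contains a conjugate of `A`. -/
theorem WFF.not_normalized {J : Subgroup G} (hn : X ≤ normalizer (J : Set G)) (hJM : J ≤ M) {z : G}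
    (hz : z ∈ X) (hzJ : cj z A ≤ J) : False := by
  refine h.not_forall fun x hx => ?_
  have h1 : cj x A = cj (x * z⁻¹) (cj z A) := by rw [← cj_mul]; group
  rw [h1]
  exact (cj_mono hzJ).trans ((cj_eq_of_mem_normalizer (hn (mul_mem hx (inv_mem hz)))).le.trans hJM)

variable [Finite G]

/-- Either there is a plane, or every proper subgroup containing a conjugate of `A` in `T` lies in `M`. -/
theorem WFF.le_of_contains
    (ih : ∀ (V' X' T' A' M' : Subgroup G), Nat.card X' < Nat.card X →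
      WFF V' X' T' A' M' W → HasPlane V' X')
    (hno : ¬ HasPlane V X) {H : Subgroup G} (hH : H < X) {z : G} (hz : z ∈ X)
    (hzT : cj z A ≤ T) (hzH : cj z A ≤ H) : H ≤ M := by
  haveI : Fact (Nat.Prime 2) := ⟨Nat.prime_two⟩
  by_contra hbad
  -- choose a bad subgroup with large intersection with `T`
  obtain ⟨H, ⟨hH, z, hz, hzT, hzH, hbad⟩, hmax⟩ := Set.exists_max_image
    {K : Subgroup G | K < X ∧ ∃ z ∈ X, cj z A ≤ T ∧ cj z A ≤ K ∧ ¬ K ≤ M}
    (fun K => Nat.card ↥(T ⊓ K)) (Set.toFinite _) ⟨H, hH, z, hz, hzT, hzH, hbad⟩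
  set T₁ := T ⊓ H with hT₁
  have hT₁2 : IsPGroup 2 T₁ := h.hT.to_le inf_le_left
  have hzT₁ : cj z A ≤ T₁ := le_inf hzT hzH
  have hbig : ∀ K, K < X → cj z A ≤ K → T₁ < T ⊓ K → K ≤ M := fun K hK hzK hlt => by
    by_contra hKM
    have h1 := hmax K ⟨hK, z, hz, hzT, hzK, hKM⟩
    exact hlt.ne (eq_of_le_of_card_ge hlt.le h1)
  have hTH : T₁ ≠ T := fun he => hbad (h.huniq H hH (he ▸ inf_le_right))
  have hgrow : ∀ (K : Subgroup G), T ⊓ normalizer (T₁ : Set G) ≤ K → K < X → cj z A ≤ K → K ≤ M :=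
    fun K hK hKX hzK => hbig K hKX hzK
      ((lt_inf_normalizer h.hT (lt_of_le_of_ne inf_le_left hTH)).trans_le (le_inf inf_le_left hK))
  have hproper : ∀ J : Subgroup G, J ≤ T → (∃ z ∈ X, cj z A ≤ J) → X ⊓ normalizer (J : Set G) < X := by
    intro J hJT ⟨y, hy, hyJ⟩
    exact lt_of_le_of_ne inf_le_left fun he =>
      h.not_normalized (inf_eq_left.mp he) (hJT.trans h.hTM) hy hyJ
  have hNT₁ : X ⊓ normalizer (T₁ : Set G) ≤ M :=
    hgrow _ (inf_le_inf_right _ h.hTX) (hproper T₁ inf_le_left ⟨z, hz, hzT₁⟩)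
      (le_inf (h.cj_le_X hz (h.hAT.trans h.hTX)) (hzT₁.trans le_normalizer))
  -- `T₁` is a Sylow subgroup of `H ⊓ M`
  have hSylM : ¬ 2 ∣ T₁.relIndex (H ⊓ M) := by
    obtain ⟨R, hTR, hRH, hR, hRi⟩ := exists_sylow_above (le_inf inf_le_right (inf_le_left.trans h.hTM) :
      T₁ ≤ H ⊓ M) hT₁2
    rcases hTR.eq_or_lt with he | hlt
    · exact (congrArg (fun K : Subgroup G => ¬ 2 ∣ K.relIndex _) he).mpr hRi
    exfalso
    obtain ⟨m, hm, hmR⟩ := exists_cj_le h.hTM h.hT (fun hd => h.hTi (hd.trans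
      (relIndex_dvd_of_le_left' h.hTM h.hMX.le))) (hRH.trans inf_le_right) hR
    have hmX := h.hMX.le hm
    have h1 := hmax (cj m H) ⟨lt_of_le_of_ne (h.cj_le_X hmX hH.le) fun he => hH.ne (cj_injective m
        (he.trans (cj_eq_of_mem hmX).symm)), m * z, mul_mem hmX hz,
      by rw [cj_mul]; exact (cj_mono (hzT₁.trans hTR)).trans hmR,
      by rw [cj_mul]; exact cj_mono hzH,
      fun hle => hbad (fun y hy => by
        have := mul_mem (mul_mem (inv_mem hm) (hle (conj_mem_cj hy))) hm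
        simpa [mul_assoc] using this)⟩
    have h2 : cj m R ≤ T ⊓ cj m H := le_inf hmR (cj_mono (hRH.trans inf_le_left))
    have h3 : Nat.card (cj m R) = Nat.card R := card_map_of_injective (MulAut.conj m).injective
    have h4 : Nat.card T₁ < Nat.card R := lt_of_le_of_ne (card_le_of_le hlt.le) fun he =>
      hlt.ne (eq_of_le_of_card_ge hlt.le he.ge)
    have h5 := card_le_of_le h2
    omega
  -- hence of `H`
  have hSyl : ¬ 2 ∣ T₁.relIndex H := by
    obtain ⟨R, hTR, hRH, hR, hRi⟩ := exists_sylow_above (inf_le_right : T₁ ≤ H) hT₁2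
    rcases hTR.eq_or_lt with he | hlt
    · exact (congrArg (fun K : Subgroup G => ¬ 2 ∣ K.relIndex _) he).mpr hRi
    exfalso
    set R' := R ⊓ normalizer (T₁ : Set G) with hR'
    have hlt' := lt_inf_normalizer hR hlt
    have hR'M : R' ≤ H ⊓ M := le_inf (inf_le_left.trans hRH)
      ((le_inf (inf_le_left.trans (hRH.trans hH.le)) inf_le_right).trans hNT₁)
    obtain ⟨y, hy, hyR⟩ := exists_cj_le (le_inf inf_le_right (inf_le_left.trans h.hTM) : T₁ ≤ H ⊓ M)
      hT₁2 hSylM hR'M (hR.to_le inf_le_left)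
    have h1 := card_le_of_le hyR
    rw [card_map_of_injective (MulAut.conj y).injective] at h1
    exact hlt'.ne (eq_of_le_of_card_ge hlt'.le h1)
  -- a minimal subgroup above `T₁` outside `M`
  obtain ⟨P, ⟨hT₁P, hPH, hPM⟩, hPmin⟩ := (Set.toFinite
    {P : Subgroup G | T₁ ≤ P ∧ P ≤ H ∧ ¬ P ≤ M}).exists_minimal ⟨H, inf_le_right, le_rfl, hbad⟩
  have hPX : P ≤ X := hPH.trans hH.le
  have hPi : ¬ 2 ∣ T₁.relIndex P := fun hd => hSyl (hd.trans (relIndex_dvd_of_le_left' hT₁P hPH))
  set U := closure {y | ∃ x ∈ P, ∃ w ∈ W, y = x * w * x⁻¹} with hU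
  have hUV : U ≤ V := (closure_le _).mpr (by
    rintro _ ⟨x, hx, w, hw, rfl⟩
    exact (mem_normalizer_iff.mp (h.hXV (hPX hx)) w).mp (h.hWV hw))
  have hPU : P ≤ normalizer (U : Set G) := by
    intro y hy
    refine mem_normalizer_of_cj_le ?_
    rw [cj, hU, MonoidHom.map_closure, closure_le]
    rintro _ ⟨_, ⟨x, hx, w, hw, rfl⟩, rfl⟩
    exact subset_closure ⟨y * x, mul_mem hy hx, w, hw, by simp [mul_assoc]⟩
  have hWU : W ≤ U := fun w hw => subset_closure ⟨1, one_mem _, w, hw, by simp⟩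
  -- some conjugate of `A` in `T₁` moves `U`
  obtain ⟨y, hy, hyT₁, hyU⟩ : ∃ y ∈ X, cj y A ≤ T₁ ∧ ¬ cj y A ≤ centralizer (U : Set G) := by
    by_contra hcon
    push Not at hcon
    set J := ⨆ y : {y : G // y ∈ X ∧ cj y A ≤ T₁}, cj y.1 A with hJ
    have hJT₁ : J ≤ T₁ := iSup_le fun y => y.2.2
    have hzJ : cj z A ≤ J := le_iSup (fun y : {y : G // y ∈ X ∧ cj y A ≤ T₁} => cj y.1 A) ⟨z, hz, hzT₁⟩
    have hJn : ∀ n ∈ X, (∀ y ∈ X, cj y A ≤ T₁ → cj (n * y) A ≤ T₁) → n ∈ normalizer (J : Set G) := by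
      intro n hn hpres
      refine mem_normalizer_of_cj_le ?_
      rw [cj, hJ, Subgroup.map_iSup]
      refine iSup_le fun y => ?_
      have h1 := hpres y.1 y.2.1 y.2.2
      change cj n (cj y.1 A) ≤ J
      rw [← cj_mul]
      exact le_iSup (fun y : {y : G // y ∈ X ∧ cj y A ≤ T₁} => cj y.1 A) ⟨n * y.1, mul_mem hn y.2.1, h1⟩
    have hNJ : X ⊓ normalizer (J : Set G) ≤ M := by
      refine hgrow _ (le_inf (inf_le_left.trans h.hTX) fun n hn => ?_)
        (hproper J (hJT₁.trans inf_le_left) ⟨z, hz, hzJ⟩)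
        (le_inf (h.cj_le_X hz (h.hAT.trans h.hTX)) (hzJ.trans le_normalizer))
      refine hJn n (h.hTX hn.1) fun y _ hyT => ?_
      rw [cj_mul, ← cj_eq_of_mem_normalizer hn.2]
      exact cj_mono hyT
    set K := P ⊓ centralizer (U : Set G) with hK
    have hKn : (K.subgroupOf P).Normal := by
      refine (normal_subgroupOf_iff_le_normalizer inf_le_left).mpr ?_
      exact LocalStructure.le_normalizer_inf le_normalizer
        (LocalStructure.le_normalizer_centralizer hPU)
    let S : Sylow 2 P := (hT₁2.comap_of_injective P.subtype P.subtype_injective :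
      IsPGroup 2 (T₁.subgroupOf P)).toSylow hPi
    obtain ⟨Q, hQ⟩ := exists_sylow_eq_inf S (K.subgroupOf P)
    have htop := Q.normalizer_sup_eq_top (N := K.subgroupOf P)
    rw [hQ] at htop
    refine hPM fun g hg => ?_
    have hmem := htop.ge (mem_top (⟨g, hg⟩ : P))
    obtain ⟨n, hn, k, hk, hnk⟩ := mem_sup_of_normal_right.mp hmem
    have hg' : g = (n : G) * k := (congrArg Subtype.val hnk).symm
    rw [hg']
    refine mul_mem (hNJ ⟨hPX n.2, hJn _ (hPX n.2) fun y hy hyT => ?_⟩) ?_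
    · rw [cj_mul]
      rintro _ ⟨u, hu, rfl⟩
      have huK : u ∈ K := ⟨hT₁P (hyT hu), hcon y hy hyT hu⟩
      have hu' : (⟨u, hT₁P (hyT hu)⟩ : P) ∈ (S : Subgroup P) ⊓ K.subgroupOf P := ⟨hyT hu, huK⟩
      exact ((mem_normalizer_iff.mp hn _).mp hu').1
    · have hk' : (k : G) ∈ centralizer (U : Set G) := (mem_inf.mp (mem_subgroupOf.mp hk)).2
      exact h.hWM ⟨hPX k.2, centralizer_le_normalizer _
        (centralizer_le (SetLike.coe_subset_coe.mpr hWU) hk')⟩
  -- the smaller configuration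
  have hcard : Nat.card P < Nat.card X :=
    lt_of_le_of_lt (card_le_of_le hPH) (lt_of_le_of_ne (card_le_of_le hH.le) fun he =>
      hH.ne (eq_of_le_of_card_ge hH.le he.ge))
  refine hno ((ih U P T₁ (cj y A) (M ⊓ P) hcard
    { hV := PGroup.isElementaryAbelian_mono h.hV hUV
      hXV := hPU
      hTX := hT₁P
      hT := hT₁2
      hTi := hPi
      hAT := hyT₁
      hbest := ?_
      hquad := ?_
      hne := hyU
      hWV := hWU
      hgen := le_rfl
      hMX := lt_of_le_of_ne inf_le_right fun he => hPM (inf_eq_right.mp he)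
      hTM := le_inf (inf_le_left.trans h.hTM) hT₁P
      huniq := fun K hK hTK => le_inf (by
        by_contra hKM
        exact hK.not_ge (hPmin ⟨hTK, hK.le.trans hPH, hKM⟩ hK.le)) hK.le
      hMW := inf_le_left.trans h.hMW
      hWM := le_inf ((inf_le_inf_right _ hPX).trans h.hWM) inf_le_left
      hWA := fun x hx hle => ?_
      hstrict := fun D hD => h.hstrict D (hD.trans inf_le_left) }).mono hUV hPX)
  · intro B hB
    set A' := cj y A with hA'
    -- the inequality on `V`, moved to `A'`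
    have hVA' : Nat.card B * Nat.card ↥(V ⊓ centralizer (B : Set G)) ≤
        Nat.card A' * Nat.card ↥(V ⊓ centralizer (A' : Set G)) := by
      have hcent : ∀ C : Subgroup G, cj y (V ⊓ centralizer (C : Set G)) =
          V ⊓ centralizer ((cj y C : Subgroup G) : Set G) := fun C => by
        rw [cj, Subgroup.map_inf _ _ _ (MulEquiv.injective _), map_centralizer_equiv]
        congr 1
        exact cj_eq_of_mem_normalizer (h.hXV hy)
      have h1 := h.hbest (cj y⁻¹ B) (by rw [← cj_inv_cj y A]; exact cj_mono hB)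
      have h2 : ∀ C : Subgroup G, Nat.card (cj y C) = Nat.card C := fun C =>
        card_map_of_injective (MulAut.conj y).injective
      rw [← h2 (cj y⁻¹ B), ← h2 A, ← h2 (V ⊓ _), ← h2 (V ⊓ centralizer (A : Set G)), hcent, hcent,
        cj_cj_inv] at h1
      exact h1
    set Z := V ⊓ centralizer (A' : Set G)
    set Y := U ⊓ centralizer (B : Set G)
    have hZn : Y ≤ normalizer (Z : Set G) := fun u hu => centralizer_le_normalizer _ fun z hz =>
      commute_mem h.hV.1 hz.1 (hUV hu.1)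
    have hYZ : Y ⊔ Z ≤ V ⊓ centralizer (B : Set G) :=
      sup_le (inf_le_inf_right _ hUV) (inf_le_inf_left _ (centralizer_le (SetLike.coe_subset_coe.mpr hB)))
    have hint : Y ⊓ Z = U ⊓ centralizer (A' : Set G) := by
      refine le_antisymm (fun u hu => ⟨hu.1.1, hu.2.2⟩) fun u hu => ?_
      exact ⟨⟨hu.1, centralizer_le (SetLike.coe_subset_coe.mpr hB) hu.2⟩, hUV hu.1, hu.2⟩
    have hc := card_sup_mul_card_inf hZn
    rw [hint] at hc
    refine Nat.le_of_mul_le_mul_right ?_ (Nat.card_pos (α := Z))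
    calc Nat.card B * Nat.card Y * Nat.card Z
        = Nat.card B * (Nat.card ↥(Y ⊔ Z) * Nat.card ↥(U ⊓ centralizer (A' : Set G))) := by rw [hc]; ring
      _ ≤ Nat.card B * (Nat.card ↥(V ⊓ centralizer (B : Set G)) * Nat.card ↥(U ⊓ centralizer (A' : Set G))) := by
          gcongr; exact card_le_of_le hYZ
      _ = Nat.card B * Nat.card ↥(V ⊓ centralizer (B : Set G)) * Nat.card ↥(U ⊓ centralizer (A' : Set G)) := by ring
      _ ≤ Nat.card A' * Nat.card Z * Nat.card ↥(U ⊓ centralizer (A' : Set G)) := Nat.mul_le_mul_right _ hVA'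
      _ = _ := by ring
  · refine le_bot_iff.mp ?_
    calc ⁅⁅U, cj y A⁆, cj y A⁆ ≤ ⁅⁅cj y V, cj y A⁆, cj y A⁆ :=
          commutator_mono (commutator_mono (hUV.trans (cj_eq_of_mem_normalizer (h.hXV hy)).ge) le_rfl) le_rfl
      _ = cj y ⁅⁅V, A⁆, A⁆ := by rw [cj, cj, cj, map_commutator, map_commutator]
      _ = ⊥ := by rw [h.hquad, cj, Subgroup.map_bot]
  · rw [← cj_mul] at hle ⊢
    exact h.hWA _ (mul_mem (hPX hx) hy) (hle.trans inf_le_left)

omit [Finite G] in
theorem WFF.comm_mem {x v : G} (hx : x ∈ X) (hv : v ∈ V) : ⁅x, v⁆ ∈ V := by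
  rw [commutatorElement_def]
  exact mul_mem ((mem_normalizer_iff.mp (h.hXV hx) v).mp hv) (inv_mem hv)

omit [Finite G] in
theorem WFF.comm_mul {x v w : G} (hx : x ∈ X) (hv : v ∈ V) (hw : w ∈ V) :
    ⁅x, v * w⁆ = ⁅x, v⁆ * ⁅x, w⁆ := by
  rw [show ⁅x, v * w⁆ = ⁅x, v⁆ * (v * ⁅x, w⁆ * v⁻¹) by simp only [commutatorElement_def]; group,
    commute_mem h.hV.1 hv (h.comm_mem hx hw), mul_inv_cancel_right]

omit [Finite G] in
theorem WFF.mul_comm' {x y v : G} (hy : y ∈ X) (hv : v ∈ V)
    (hc : Commute x ⁅y, v⁆) (hx : x ∈ X) : ⁅x * y, v⁆ = ⁅x, v⁆ * ⁅y, v⁆ := by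
  rw [show ⁅x * y, v⁆ = x * ⁅y, v⁆ * x⁻¹ * ⁅x, v⁆ by simp only [commutatorElement_def]; group,
    hc.eq, mul_inv_cancel_right]
  exact commute_mem h.hV.1 (h.comm_mem hy hv) (h.comm_mem hx hv)

omit [Finite G] in
theorem WFF.self_mul {v : G} (hv : v ∈ V) : v * v = 1 := by
  rw [← pow_two]; exact h.hV.2 v hv

omit [Finite G] in
theorem WFF.inv_self {v : G} (hv : v ∈ V) : v⁻¹ = v :=
  inv_eq_of_mul_eq_one_right (h.self_mul hv)

omit [Finite G] in
theorem WFF.W_le : W ≤ V ⊓ centralizer (A : Set G) :=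
  le_inf h.hWV (le_centralizer_iff.mp
    (by simpa using h.hWA 1 (one_mem _) (by simpa using h.hAT.trans h.hTM)))

omit [Finite G] in
theorem WFF.cj_centralizer {x : G} (hx : x ∈ X) :
    cj x (V ⊓ centralizer (A : Set G)) = V ⊓ centralizer ((cj x A : Subgroup G) : Set G) := by
  rw [cj, Subgroup.map_inf _ _ _ (MulEquiv.injective _), map_centralizer_equiv]
  congr 1
  exact cj_eq_of_mem_normalizer (h.hXV hx)

omit [Finite G] in
/-- Quadratic action of a conjugate. -/
theorem WFF.comm_mem_fixed {x : G} (hx : x ∈ X) {a : G} (ha : a ∈ cj x A) {v : G} (hv : v ∈ V) :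
    ⁅a, v⁆ ∈ V ⊓ centralizer ((cj x A : Subgroup G) : Set G) := by
  rw [← h.cj_centralizer hx]
  obtain ⟨a, ha, rfl⟩ := ha
  have hv' : x⁻¹ * v * x ∈ V := by
    simpa using (mem_normalizer_iff.mp (h.hXV (inv_mem hx)) v).mp hv
  have h1 : ⁅a, x⁻¹ * v * x⁆ ∈ V ⊓ centralizer (A : Set G) := by
    refine ⟨h.comm_mem (h.hTX (h.hAT ha)) hv', fun b hb => ?_⟩
    exact ((le_centralizer_commutator_of_quadratic h.hquad hb) _
      (commutator_comm A V ▸ commutator_mem_commutator ha hv')).symm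
  have h2 := conj_mem_cj (g := x) h1
  convert h2 using 1
  simp only [MulEquiv.coe_toMonoidHom, MulAut.conj_apply, commutatorElement_def]
  group

section Step

variable (ih : ∀ (V' X' T' A' M' : Subgroup G), Nat.card X' < Nat.card X →
  WFF V' X' T' A' M' W → HasPlane V' X') (hno : ¬ HasPlane V X)
include ih hno

theorem WFF.loc {x : G} (hx : x ∈ X) {H : Subgroup G} (hH : H < X) (hxH : cj x A ≤ H) :
    H ≤ cj x M := by
  have hlt : cj x⁻¹ H < X := lt_of_le_of_ne (h.cj_le_X (inv_mem hx) hH.le) fun he =>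
    hH.ne (cj_injective x⁻¹ (he.trans (cj_eq_of_mem (inv_mem hx)).symm))
  have h1 := h.le_of_contains ih hno hlt (one_mem X) (by simpa using h.hAT)
    (by simpa [cj_inv_cj] using cj_mono (g := x⁻¹) hxH)
  rw [← cj_cj_inv x H]
  exact cj_mono h1

theorem WFF.cjM_eq {x : G} (hx : x ∈ X) (hxM : cj x A ≤ M) : cj x M = M :=
  (eq_of_le_of_card_ge (h.loc ih hno hx h.hMX hxM)
    (le_of_eq (card_map_of_injective (MulAut.conj x).injective))).symm

theorem WFF.gen {x : G} (hx : x ∈ X) (hxM : ¬ cj x A ≤ M) : X ≤ A ⊔ cj x A := by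
  by_contra hlt
  have hAX := h.hAT.trans h.hTX
  have hlt' : A ⊔ cj x A < X :=
    lt_of_le_of_ne (sup_le hAX (h.cj_le_X hx hAX)) fun he => hlt he.ge
  exact hxM (le_sup_right.trans
    (h.le_of_contains ih hno hlt' (one_mem X) (by simpa using h.hAT) (by simp)))

theorem WFF.meet {x : G} (hx : x ∈ X) (hxM : ¬ cj x A ≤ M) {v : G}
    (h1 : v ∈ V ⊓ centralizer (A : Set G))
    (h2 : v ∈ V ⊓ centralizer ((cj x A : Subgroup G) : Set G)) : v ∈ V ⊓ centralizer (X : Set G) := by
  refine ⟨h1.1, ?_⟩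
  have : X ≤ centralizer ({v} : Set G) := (h.gen ih hno hx hxM).trans (sup_le
    (fun a ha => mem_centralizer_singleton_iff.mpr (h1.2 a ha))
    (fun a ha => mem_centralizer_singleton_iff.mpr (h2.2 a ha)))
  exact fun y hy => mem_centralizer_singleton_iff.mp (this hy)

theorem WFF.split {x : G} (hx : x ∈ X) (hxM : ¬ cj x A ≤ M) {v : G} (hv : v ∈ V) :
    ∃ z ∈ V ⊓ centralizer (A : Set G),
      ∃ w ∈ V ⊓ centralizer ((cj x A : Subgroup G) : Set G), z * w = v := by
  set Z := V ⊓ centralizer (A : Set G) with hZ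
  set Z' := V ⊓ centralizer ((cj x A : Subgroup G) : Set G) with hZ'
  have hZn : Z ≤ normalizer (Z' : Set G) := fun z hz => centralizer_le_normalizer _ fun z' hz' =>
    commute_mem h.hV.1 hz'.1 hz.1
  have hsupV : Z ⊔ Z' ≤ V := sup_le inf_le_left inf_le_left
  have hXn : X ≤ normalizer ((Z ⊔ Z' : Subgroup G) : Set G) := by
    refine (h.gen ih hno hx hxM).trans (sup_le (fun a ha => mem_normalizer_of_cj_le ?_)
      (fun a ha => mem_normalizer_of_cj_le ?_))
    · rintro _ ⟨u, hu, rfl⟩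
      have h1 : ⁅a, u⁆ ∈ Z := by
        simpa [hZ] using h.comm_mem_fixed (one_mem X) (a := a) (by simpa using ha) (hsupV hu)
      show a * u * a⁻¹ ∈ Z ⊔ Z'
      rw [show a * u * a⁻¹ = ⁅a, u⁆ * u by simp only [commutatorElement_def]; group]
      exact mul_mem (mem_sup_left h1) hu
    · rintro _ ⟨u, hu, rfl⟩
      show a * u * a⁻¹ ∈ Z ⊔ Z'
      rw [show a * u * a⁻¹ = ⁅a, u⁆ * u by simp only [commutatorElement_def]; group]
      exact mul_mem (mem_sup_right (h.comm_mem_fixed hx ha (hsupV hu))) hu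
  have hle : V ≤ Z ⊔ Z' := h.hgen.trans ((closure_le _).mpr (by
    rintro _ ⟨y, hy, w, hw, rfl⟩
    exact (mem_normalizer_iff.mp (hXn hy) w).mp (mem_sup_left (h.W_le hw))))
  exact (Coprime.mem_sup_iff_of_le_normalizer hZn).mp (hle hv)

/-- An element of `A` fixing, modulo `C_V(X)`, a vector outside `C_V(A)` is in the core of `M`. -/
theorem WFF.core_of_fixed {a v : G} (ha : a ∈ A) (hv : v ∈ V) (hvA : v ∉ centralizer (A : Set G))
    (hc : ⁅a, v⁆ ∈ centralizer (X : Set G)) : ∀ x ∈ X, a ∈ cj x M := by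
  intro x hx
  by_cases hxM : cj x A ≤ M
  · rw [h.cjM_eq ih hno hx hxM]; exact h.hTM (h.hAT ha)
  obtain ⟨z, hz, w, hw, rfl⟩ := h.split ih hno hx hxM hv
  set C := V ⊓ centralizer (X : Set G) with hC
  have hAX : A ≤ X := h.hAT.trans h.hTX
  have hwX : ¬ ∀ y ∈ X, ⁅y, w⁆ ∈ C := by
    intro hall
    -- conjugation by `x` does not change commutators with `w` modulo nothing
    refine hvA fun b hb => ?_
    have hbX := hAX hb
    have hadd : ∀ {p q : G}, p ∈ X → q ∈ X → ⁅p * q, w⁆ = ⁅p, w⁆ * ⁅q, w⁆ := fun {p q} hp hq =>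
      h.mul_comm' hq hw.1 ((hall q hq).2 p hp) hp
    have h1 : ⁅x * b * x⁻¹, w⁆ = 1 := commutatorElement_eq_one_iff_mul_comm.mpr (hw.2 _ (conj_mem_cj hb))
    have hcx : ⁅x, w⁆ * ⁅x⁻¹, w⁆ = 1 := by
      rw [← hadd hx (inv_mem hx), mul_inv_cancel, commutatorElement_one_left]
    rw [hadd (mul_mem hx hbX) (inv_mem hx), hadd hx hbX,
      commute_mem h.hV.1 (h.comm_mem hx hw.1) (h.comm_mem hbX hw.1), mul_assoc, hcx, mul_one] at h1
    have h2 := commutatorElement_eq_one_iff_mul_comm.mp h1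
    calc b * (z * w) = z * (b * w) := by rw [← mul_assoc, hz.2 b hb, mul_assoc]
      _ = z * w * b := by rw [h2, mul_assoc]
  let S : Subgroup G :=
    { carrier := {y | y ∈ X ∧ ⁅y, w⁆ ∈ C}
      one_mem' := ⟨one_mem _, by simp⟩
      mul_mem' := fun {p q} hp hq => ⟨mul_mem hp.1 hq.1, by
        rw [h.mul_comm' hq.1 hw.1 (hq.2.2 p hp.1) hp.1]; exact mul_mem hp.2 hq.2⟩
      inv_mem' := fun {p} hp => ⟨inv_mem hp.1, by
        rw [show ⁅p⁻¹, w⁆ = p⁻¹ * ⁅p, w⁆⁻¹ * p by simp only [commutatorElement_def]; group,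
          (inv_mem hp.2 : ⁅p, w⁆⁻¹ ∈ C).2 p⁻¹ (inv_mem hp.1), inv_mul_cancel_right]
        exact inv_mem hp.2⟩ }
  have hSX : S < X := lt_of_le_of_ne (fun y hy => hy.1) fun he => hwX fun y hy => (he.ge hy).2
  have hxS : cj x A ≤ S := fun b hb => ⟨h.cj_le_X hx hAX hb, by
    rw [commutatorElement_eq_one_iff_mul_comm.mpr (hw.2 b hb)]; exact one_mem _⟩
  refine h.loc ih hno hx hSX hxS ⟨hAX ha, h.comm_mem (hAX ha) hw.1, ?_⟩
  rwa [h.comm_mul (hAX ha) hz.1 hw.1, commutatorElement_eq_one_iff_mul_comm.mpr (hz.2 a ha), one_mul]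
    at hc

/-- An element of `A` in the core of `M` moves `V` into `C_V(X)`. -/
theorem WFF.comm_mem_of_core {a : G} (ha : a ∈ A) (hcore : ∀ x ∈ X, a ∈ cj x M) {v : G} (hv : v ∈ V) :
    ⁅a, v⁆ ∈ V ⊓ centralizer (X : Set G) := by
  have hAX : A ≤ X := h.hAT.trans h.hTX
  let S : Subgroup G :=
    { carrier := {u | u ∈ V ∧ ⁅a, u⁆ ∈ V ⊓ centralizer (X : Set G)}
      one_mem' := ⟨one_mem _, by simp⟩
      mul_mem' := fun {p q} hp hq => ⟨mul_mem hp.1 hq.1, by
        rw [h.comm_mul (hAX ha) hp.1 hq.1]; exact mul_mem hp.2 hq.2⟩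
      inv_mem' := fun {p} hp => by rw [h.inv_self hp.1]; exact hp }
  suffices hle : V ≤ S from (hle hv).2
  refine h.hgen.trans ((closure_le _).mpr ?_)
  rintro _ ⟨y, hy, w, hw, rfl⟩
  refine ⟨(mem_normalizer_iff.mp (h.hXV hy) w).mp (h.hWV hw), ?_⟩
  have hb : y⁻¹ * a * y ∈ cj y⁻¹ A := by simpa using conj_mem_cj (g := y⁻¹) ha
  have hbM : y⁻¹ * a * y ∈ M := by
    obtain ⟨m, hm, hma⟩ := hcore y hy
    rw [← hma]
    simpa [mul_assoc] using hm
  have h0 : ⁅y⁻¹ * a * y, w⁆ ∈ V ⊓ centralizer (X : Set G) := by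
    by_cases hyM : cj y⁻¹ A ≤ M
    · rw [commutatorElement_eq_one_iff_mul_comm.mpr (h.hWA _ (inv_mem hy) hyM hb w hw).symm]
      exact one_mem _
    · refine h.meet ih hno (inv_mem hy) hyM (h.W_le ?_) (h.comm_mem_fixed (inv_mem hy) hb (h.hWV hw))
      rw [commutatorElement_def]
      exact mul_mem ((mem_normalizer_iff.mp (h.hMW hbM) w).mp hw) (inv_mem hw)
  rw [show ⁅a, y * w * y⁻¹⁆ = y * ⁅y⁻¹ * a * y, w⁆ * y⁻¹ by simp only [commutatorElement_def]; group,
    h0.2 y hy, mul_inv_cancel_right]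
  exact h0

omit ih hno in
/-- Strictness, iterated over the conjugates of `W`. -/
theorem WFF.strict_core {R : Subgroup G} (hR : IsPGroup 2 R) (hcore : ∀ r ∈ R, ∀ x ∈ X, r ∈ cj x M)
    (hcomm : ∀ r ∈ R, ∀ v ∈ V, ⁅r, v⁆ ∈ centralizer (X : Set G))
    (hne : ¬ R ≤ centralizer (V : Set G)) :
    Nat.card R * Nat.card ↥(V ⊓ centralizer (R : Set G)) <
      Nat.card V * Nat.card ↥(R ⊓ centralizer (V : Set G)) := by
  haveI : Fact (Nat.Prime 2) := ⟨Nat.prime_two⟩
  have hRX : R ≤ X := fun r hr => by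
    obtain ⟨m, hm, hmr⟩ := hcore r hr 1 (one_mem X)
    have : r = m := by rw [← hmr]; simp
    exact this ▸ h.hMX.le hm
  let Yl : List G → Subgroup G := fun l => l.foldr (fun x Y => cj x W ⊔ Y) ⊥
  have hYV : ∀ l : List G, (∀ x ∈ l, x ∈ X) → Yl l ≤ V := by
    intro l
    induction l with
    | nil => intro _; exact bot_le
    | cons x l ihl =>
      intro hl
      exact sup_le ((cj_mono h.hWV).trans
        (cj_eq_of_mem_normalizer (h.hXV (hl x List.mem_cons_self))).le)
        (ihl fun y hy => hl y (List.mem_cons_of_mem _ hy))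
  have main : ∀ l : List G, (∀ x ∈ l, x ∈ X) →
      (Nat.card R * Nat.card ↥(Yl l ⊓ centralizer (R : Set G)) ≤
        Nat.card (Yl l) * Nat.card ↥(R ⊓ centralizer (Yl l : Set G))) ∧
      (¬ R ≤ centralizer (Yl l : Set G) →
        Nat.card R * Nat.card ↥(Yl l ⊓ centralizer (R : Set G)) <
          Nat.card (Yl l) * Nat.card ↥(R ⊓ centralizer (Yl l : Set G))) := by
    intro l
    induction l with
    | nil =>
      intro _
      have hb : R ≤ centralizer ((⊥ : Subgroup G) : Set G) := fun r _ v hv => by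
        rw [show v = 1 from hv]; simp
      refine ⟨?_, fun hn => absurd hb hn⟩
      show Nat.card R * Nat.card ↥(⊥ ⊓ centralizer (R : Set G)) ≤
        Nat.card (⊥ : Subgroup G) * Nat.card ↥(R ⊓ centralizer ((⊥ : Subgroup G) : Set G))
      rw [bot_inf_eq, inf_eq_left.mpr hb, Subgroup.card_bot, mul_comm]
    | cons x l ihl =>
      intro hl
      obtain ⟨hle, hlt⟩ := ihl fun y hy => hl y (List.mem_cons_of_mem _ hy)
      have hx := hl x List.mem_cons_self
      have hYl := hYV l fun y hy => hl y (List.mem_cons_of_mem _ hy)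
      set Y := Yl l with hY
      set Wx := cj x W with hWx
      have hWxV : Wx ≤ V := (cj_mono h.hWV).trans (cj_eq_of_mem_normalizer (h.hXV hx)).le
      set R₁ := R ⊓ centralizer (Y : Set G) with hR₁
      set Y' := Wx ⊔ Y with hY'
      have hY'V : Y' ≤ V := sup_le hWxV hYl
      have hR₂ : R₁ ⊓ centralizer (Wx : Set G) = R ⊓ centralizer (Y' : Set G) := by
        rw [hR₁, hY', centralizer_sup_eq, inf_assoc, inf_comm (centralizer (Y : Set G))]
      have hrel : (Nat.card R₁ * Nat.card ↥(Wx ⊓ centralizer (R₁ : Set G)) ≤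
            Nat.card Wx * Nat.card ↥(R₁ ⊓ centralizer (Wx : Set G))) ∧
          (¬ R₁ ≤ centralizer (Wx : Set G) →
            Nat.card R₁ * Nat.card ↥(Wx ⊓ centralizer (R₁ : Set G)) <
              Nat.card Wx * Nat.card ↥(R₁ ⊓ centralizer (Wx : Set G))) := by
        by_cases hR1 : R₁ ≤ centralizer (Wx : Set G)
        · refine ⟨?_, fun hn => absurd hR1 hn⟩
          rw [inf_eq_left.mpr hR1, inf_eq_left.mpr (le_centralizer_iff.mp hR1), mul_comm]
        set R' := cj x⁻¹ R₁ with hR'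
        have hR'M : R' ≤ M := by
          rintro _ ⟨r, hr, rfl⟩
          obtain ⟨m, hm, hmr⟩ := hcore r hr.1 x hx
          rw [← hmr]
          simpa [mul_assoc] using hm
        have hR'X : R' ≤ X := hR'M.trans h.hMX.le
        have hq : ⁅⁅W, R'⁆, R'⁆ = ⊥ := by
          have hWR : ⁅W, R'⁆ ≤ centralizer (X : Set G) := by
            rw [commutator_comm, commutator_le]
            rintro _ ⟨r, hr, rfl⟩ w hw
            have h1 := hcomm r hr.1 _ ((mem_normalizer_iff.mp (h.hXV hx) w).mp (h.hWV hw))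
            rw [show ⁅(MulAut.conj x⁻¹).toMonoidHom r, w⁆ = x⁻¹ * ⁅r, x * w * x⁻¹⁆ * x by
              simp only [MulEquiv.coe_toMonoidHom, MulAut.conj_apply, commutatorElement_def]; group,
              h1 x⁻¹ (inv_mem hx), inv_mul_cancel_right]
            exact h1
          rw [eq_bot_iff]
          refine (commutator_mono hWR hR'X).trans (le_of_eq ?_)
          rw [commutator_eq_bot_iff_le_centralizer]
        have hc : ∀ K : Subgroup G, cj x (W ⊓ centralizer (K : Set G)) =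
            Wx ⊓ centralizer ((cj x K : Subgroup G) : Set G) := fun K => by
          rw [hWx, cj, cj, Subgroup.map_inf _ _ _ (MulEquiv.injective _), map_centralizer_equiv]
        have hc' : cj x (R' ⊓ centralizer (W : Set G)) = R₁ ⊓ centralizer (Wx : Set G) := by
          rw [cj, Subgroup.map_inf _ _ _ (MulEquiv.injective _), map_centralizer_equiv]
          show cj x (cj x⁻¹ R₁) ⊓ _ = _
          rw [cj_cj_inv]
        have hne' : ¬ R' ≤ centralizer (W : Set G) := fun hle' => hR1 (by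
          have h1 := cj_mono (g := x) (le_inf le_rfl hle' : R' ≤ R' ⊓ centralizer (W : Set G))
          rw [hc', hR', cj_cj_inv] at h1
          exact h1.trans inf_le_right)
        have h1 := h.hstrict R' hR'M ((hR.to_le inf_le_left).map _) hq hne'
        have hcard : ∀ K : Subgroup G, Nat.card (cj x K) = Nat.card K := fun K =>
          card_map_of_injective (MulAut.conj x).injective
        rw [← hcard R', ← hcard (W ⊓ _), ← hcard W, ← hcard (R' ⊓ _), hc, hc', hR', cj_cj_inv] at h1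
        exact ⟨h1.le, fun _ => h1⟩
      -- product formulas
      have hn1 : ∀ {P Q : Subgroup G}, P ≤ V → Q ≤ V → P ≤ normalizer (Q : Set G) := fun hP hQ p hp =>
        centralizer_le_normalizer _ fun q hq => commute_mem h.hV.1 (hQ hq) (hP hp)
      set F := Y' ⊓ centralizer (R : Set G) with hF
      have hFY : F ⊓ Y = Y ⊓ centralizer (R : Set G) :=
        le_antisymm (fun u hu => ⟨hu.2, hu.1.2⟩) fun u hu => ⟨⟨mem_sup_right hu.1, hu.2⟩, hu.1⟩
      have e1 := card_sup_mul_card_inf (hn1 (inf_le_left.trans hY'V : F ≤ V) hYl)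
      rw [hFY] at e1
      set F₁ := Wx ⊓ centralizer (R₁ : Set G) with hF₁
      have hYR₁ : Y ≤ centralizer (R₁ : Set G) := le_centralizer_iff.mp inf_le_right
      have hF₁Y : F₁ ⊓ Y = Wx ⊓ Y :=
        le_antisymm (fun u hu => ⟨hu.1.1, hu.2⟩) fun u hu => ⟨⟨hu.1, hYR₁ hu.2⟩, hu.2⟩
      have e2 := card_sup_mul_card_inf (hn1 (inf_le_left.trans hWxV : F₁ ≤ V) hYl)
      rw [hF₁Y] at e2
      have e3 := card_sup_mul_card_inf (hn1 hWxV hYl)
      rw [← hY'] at e3
      have hsub : F ⊔ Y ≤ F₁ ⊔ Y := by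
        refine sup_le (fun u hu => ?_) le_sup_right
        obtain ⟨p, hp, q, hq, rfl⟩ := (Coprime.mem_sup_iff_of_le_normalizer (hn1 hWxV hYl)).mp hu.1
        refine mul_mem (mem_sup_left ⟨hp, ?_⟩) (mem_sup_right hq)
        have h1 : p * q ∈ centralizer (R₁ : Set G) :=
          centralizer_le (SetLike.coe_subset_coe.mpr inf_le_left) hu.2
        have := mul_mem h1 (inv_mem (hYR₁ hq))
        simpa using this
      have e4 := card_le_of_le hsub
      -- `|F| |Y| |Wx| ≤ |Y ∩ C(R)| |F₁| |Y'|`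
      have key : Nat.card F * Nat.card Y * Nat.card Wx ≤
          Nat.card ↥(Y ⊓ centralizer (R : Set G)) * Nat.card F₁ * Nat.card Y' := by
        refine Nat.le_of_mul_le_mul_right ?_ (Nat.card_pos (α := Y))
        calc Nat.card F * Nat.card Y * Nat.card Wx * Nat.card Y
            = (Nat.card ↥(F ⊔ Y) * Nat.card ↥(Y ⊓ centralizer (R : Set G))) *
                (Nat.card Y' * Nat.card ↥(Wx ⊓ Y)) := by rw [e1, e3]; ring
          _ ≤ (Nat.card ↥(F₁ ⊔ Y) * Nat.card ↥(Y ⊓ centralizer (R : Set G))) *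
                (Nat.card Y' * Nat.card ↥(Wx ⊓ Y)) := by gcongr
          _ = (Nat.card ↥(F₁ ⊔ Y) * Nat.card ↥(Wx ⊓ Y)) *
                (Nat.card ↥(Y ⊓ centralizer (R : Set G)) * Nat.card Y') := by ring
          _ = _ := by rw [e2]; ring
      rw [hR₂] at hrel
      show (Nat.card R * Nat.card F ≤ Nat.card Y' * Nat.card ↥(R ⊓ centralizer (Y' : Set G))) ∧
        (¬ R ≤ centralizer (Y' : Set G) →
          Nat.card R * Nat.card F < Nat.card Y' * Nat.card ↥(R ⊓ centralizer (Y' : Set G)))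
      refine ⟨?_, fun hR' => ?_⟩
      · refine Nat.le_of_mul_le_mul_right ?_
          (Nat.mul_pos (Nat.card_pos (α := Y)) (Nat.card_pos (α := Wx)))
        calc Nat.card R * Nat.card F * (Nat.card Y * Nat.card Wx)
            = Nat.card R * (Nat.card F * Nat.card Y * Nat.card Wx) := by ring
          _ ≤ Nat.card R * (Nat.card ↥(Y ⊓ centralizer (R : Set G)) * Nat.card F₁ * Nat.card Y') := by
              gcongr
          _ = (Nat.card R * Nat.card ↥(Y ⊓ centralizer (R : Set G))) * Nat.card F₁ * Nat.card Y' := by ring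
          _ ≤ (Nat.card Y * Nat.card R₁) * Nat.card F₁ * Nat.card Y' := by gcongr
          _ = Nat.card Y * (Nat.card R₁ * Nat.card F₁) * Nat.card Y' := by ring
          _ ≤ Nat.card Y * (Nat.card Wx * Nat.card ↥(R ⊓ centralizer (Y' : Set G))) * Nat.card Y' :=
              Nat.mul_le_mul_right _ (Nat.mul_le_mul_left _ hrel.1)
          _ = _ := by ring
      · refine Nat.lt_of_mul_lt_mul_right (a := Nat.card Y * Nat.card Wx) ?_
        calc Nat.card R * Nat.card F * (Nat.card Y * Nat.card Wx)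
            = Nat.card R * (Nat.card F * Nat.card Y * Nat.card Wx) := by ring
          _ ≤ Nat.card R * (Nat.card ↥(Y ⊓ centralizer (R : Set G)) * Nat.card F₁ * Nat.card Y') := by
              gcongr
          _ = (Nat.card R * Nat.card ↥(Y ⊓ centralizer (R : Set G))) * (Nat.card F₁ * Nat.card Y') := by
              ring
          _ < _ := ?_
        by_cases hRY : R ≤ centralizer (Y : Set G)
        · have hR1e : R₁ = R := inf_eq_left.mpr hRY
          have hnx : ¬ R₁ ≤ centralizer (Wx : Set G) := fun hh => hR' (by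
            rw [hY', centralizer_sup_eq]
            exact le_inf (hR1e ▸ hh) hRY)
          have h2 := hrel.2 hnx
          calc (Nat.card R * Nat.card ↥(Y ⊓ centralizer (R : Set G))) * (Nat.card F₁ * Nat.card Y')
              ≤ (Nat.card Y * Nat.card R₁) * (Nat.card F₁ * Nat.card Y') := by gcongr
            _ = (Nat.card R₁ * Nat.card F₁) * (Nat.card Y * Nat.card Y') := by ring
            _ < (Nat.card Wx * Nat.card ↥(R ⊓ centralizer (Y' : Set G))) *
                  (Nat.card Y * Nat.card Y') :=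
                Nat.mul_lt_mul_of_pos_right h2 (Nat.mul_pos Nat.card_pos Nat.card_pos)
            _ = Nat.card Y' * Nat.card ↥(R ⊓ centralizer (Y' : Set G)) * (Nat.card Y * Nat.card Wx) := by
                ring
        · calc (Nat.card R * Nat.card ↥(Y ⊓ centralizer (R : Set G))) * (Nat.card F₁ * Nat.card Y')
              < (Nat.card Y * Nat.card R₁) * (Nat.card F₁ * Nat.card Y') :=
                Nat.mul_lt_mul_of_pos_right (hlt hRY) (Nat.mul_pos Nat.card_pos Nat.card_pos)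
            _ = (Nat.card R₁ * Nat.card F₁) * (Nat.card Y * Nat.card Y') := by ring
            _ ≤ (Nat.card Wx * Nat.card ↥(R ⊓ centralizer (Y' : Set G))) *
                  (Nat.card Y * Nat.card Y') := Nat.mul_le_mul_right _ hrel.1
            _ = Nat.card Y' * Nat.card ↥(R ⊓ centralizer (Y' : Set G)) * (Nat.card Y * Nat.card Wx) := by
                ring
  haveI : Fintype G := Fintype.ofFinite G
  classical
  set l := (Finset.univ.filter (fun x : G => x ∈ X)).toList with hl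
  have hlX : ∀ x ∈ l, x ∈ X := fun x hx => by simpa [hl] using hx
  have hmem : ∀ (l : List G) (x : G), x ∈ l → cj x W ≤ Yl l := by
    intro l x
    induction l with
    | nil => intro hx; cases hx
    | cons y l ihl =>
      intro hx
      rcases List.mem_cons.mp hx with rfl | hx
      · exact le_sup_left
      · exact (ihl hx).trans le_sup_right
  have heq : Yl l = V := le_antisymm (hYV l hlX) (h.hgen.trans ((closure_le _).mpr (by
    rintro _ ⟨x, hx, w, hw, rfl⟩
    exact hmem l x (by simpa [hl] using hx) (conj_mem_cj hw))))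
  have h1 := (main l hlX).2 (by rw [heq]; exact hne)
  rw [heq] at h1
  exact h1

set_option maxHeartbeats 1600000 in
/-- The main step, given the result for smaller groups. -/
theorem WFF.contra : False := by
  classical
  haveI : Fact (Nat.Prime 2) := ⟨Nat.prime_two⟩
  have hAX : A ≤ X := h.hAT.trans h.hTX
  obtain ⟨g, hg, hgM⟩ : ∃ g ∈ X, ¬ cj g A ≤ M := by
    by_contra hcon
    push Not at hcon
    exact h.not_forall hcon
  obtain ⟨b, hbA', hbM⟩ := SetLike.not_le_iff_exists.mp hgM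
  have hbX : b ∈ X := h.cj_le_X hg hAX hbA'
  set C := V ⊓ centralizer (X : Set G) with hC
  set Z := V ⊓ centralizer (A : Set G) with hZ
  set Z' := V ⊓ centralizer ((cj g A : Subgroup G) : Set G) with hZ'
  have hCZ : C ≤ Z := inf_le_inf_left _ (centralizer_le (SetLike.coe_subset_coe.mpr hAX))
  have hCZ' : C ≤ Z' :=
    inf_le_inf_left _ (centralizer_le (SetLike.coe_subset_coe.mpr (h.cj_le_X hg hAX)))
  have hfixC : ∀ {x : G}, x ∈ X → ∀ {c : G}, c ∈ C → ⁅x, c⁆ = 1 := fun {x} hx {c} hc =>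
    commutatorElement_eq_one_iff_mul_comm.mpr (hc.2 x hx)
  -- `b` fixes modulo `C` only `C` inside `Z`
  have hbZ : ∀ {u : G}, u ∈ Z → ⁅b, u⁆ ∈ C → u ∈ C := by
    intro u hu hc
    by_contra huC
    obtain ⟨a, ha, hab⟩ := id hbA'
    have hgi := inv_mem hg
    have hv : g⁻¹ * u * g ∈ V := by simpa using (mem_normalizer_iff.mp (h.hXV hgi) u).mp hu.1
    have hvA : g⁻¹ * u * g ∉ centralizer (A : Set G) := by
      intro hv'
      refine huC (h.meet ih hno hg hgM hu ?_)
      rw [← h.cj_centralizer hg]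
      simpa [mul_assoc] using conj_mem_cj (g := g)
        (show g⁻¹ * u * g ∈ V ⊓ centralizer (A : Set G) from ⟨hv, hv'⟩)
    have hc2 : ⁅a, g⁻¹ * u * g⁆ ∈ centralizer (X : Set G) := by
      have : ⁅a, g⁻¹ * u * g⁆ = g⁻¹ * ⁅b, u⁆ * g := by
        rw [← hab]; simp only [MulEquiv.coe_toMonoidHom, MulAut.conj_apply, commutatorElement_def]; group
      rw [this, hc.2 g⁻¹ hgi, inv_mul_cancel_right]
      exact hc.2
    have hcore := h.core_of_fixed ih hno ha hv hvA hc2 g⁻¹ hgi
    obtain ⟨m, hm, hma⟩ := hcore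
    refine hbM ?_
    rw [← hab, ← hma]
    simpa [mul_assoc] using hm
  have hquadA : ∀ {a : G}, a ∈ A → ∀ {v : G}, v ∈ V → ⁅a, v⁆ ∈ Z := fun {a} ha {v} hv => by
    simpa [hZ] using h.comm_mem_fixed (one_mem X) (a := a) (by simpa using ha) hv
  have hZA : ∀ {a : G}, a ∈ A → ∀ {z : G}, z ∈ Z → ⁅a, z⁆ = 1 := fun {a} ha {z} hz =>
    commutatorElement_eq_one_iff_mul_comm.mpr (hz.2 a ha)
  -- the space
  letI : CommGroup ↥V :=
    { (inferInstance : Group ↥V) with
      mul_comm := fun x y => Subtype.ext (commute_mem h.hV.1 x.2 y.2) }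
  letI : Module (ZMod 2) (Additive ↥V) :=
    AddCommGroup.zmodModule (n := 2) (fun x => by
      rw [two_nsmul]; exact congrArg Additive.ofMul (Subtype.ext (h.self_mul (Additive.toMul x).2)))
  let emb : Additive ↥V → G := fun x => ((Additive.toMul x : ↥V) : G)
  have emb_mem : ∀ x, emb x ∈ V := fun x => (Additive.toMul x).2
  have emb_inj : Function.Injective emb := fun x y hxy =>
    Additive.toMul.injective (Subtype.ext hxy)
  have emb_add : ∀ x y, emb (x + y) = emb x * emb y := fun x y => rfl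
  let sub : Subgroup G → Submodule (ZMod 2) (Additive ↥V) := fun K =>
    AddSubgroup.toZModSubmodule 2 (Subgroup.toAddSubgroup (K.subgroupOf V))
  have mem_sub : ∀ {K : Subgroup G} {x}, x ∈ sub K ↔ emb x ∈ K := fun {K x} => Iff.rfl
  have hsub_card : ∀ K : Subgroup G, K ≤ V → Nat.card K = Nat.card ↥(sub K) := fun K hK =>
    Nat.card_congr
      { toFun := fun z => ⟨Additive.ofMul ⟨z.1, hK z.2⟩, mem_sub.mpr z.2⟩
        invFun := fun z => ⟨emb z.1, mem_sub.mp z.2⟩
        left_inv := fun z => rfl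
        right_inv := fun z => rfl }
  -- commutator with a fixed element as a linear map
  let δ : G → Module.End (ZMod 2) (Additive ↥V) := fun x =>
    if hx : x ∈ X then AddMonoidHom.toZModLinearMap 2
      (AddMonoidHom.mk' (fun v => Additive.ofMul (⟨⁅x, emb v⁆, h.comm_mem hx (emb_mem v)⟩ : ↥V))
        fun v w => congrArg Additive.ofMul (Subtype.ext (by
          show ⁅x, emb (v + w)⁆ = ⁅x, emb v⁆ * ⁅x, emb w⁆
          rw [emb_add, h.comm_mul hx (emb_mem v) (emb_mem w)])))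
    else 0
  have hδ : ∀ x, x ∈ X → ∀ v : Additive ↥V, emb (δ x v) = ⁅x, emb v⁆ := fun x hx v => by
    simp only [δ, dif_pos hx]
    rfl
  have hδ0 : ∀ x, x ∈ X → ∀ v : Additive ↥V, ⁅x, emb v⁆ = 1 → δ x v = 0 := fun x hx v h1 =>
    emb_inj (by rw [hδ x hx, h1]; rfl)
  have hδ1 : δ 1 = 0 := LinearMap.ext fun v => hδ0 1 (one_mem X) v (commutatorElement_one_left _)
  let P : Submodule (ZMod 2) (Module.End (ZMod 2) (Additive ↥V)) :=
    AddSubgroup.toZModSubmodule 2
      { carrier := {p | ∃ a ∈ A, p = δ a}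
        zero_mem' := ⟨1, one_mem A, hδ1.symm⟩
        add_mem' := by
          rintro _ _ ⟨a, ha, rfl⟩ ⟨a', ha', rfl⟩
          refine ⟨a * a', mul_mem ha ha', LinearMap.ext fun v => emb_inj ?_⟩
          rw [LinearMap.add_apply, emb_add, hδ a (hAX ha), hδ a' (hAX ha'),
            hδ _ (hAX (mul_mem ha ha'))]
          exact (h.mul_comm' (hAX ha') (emb_mem v) ((hquadA ha' (emb_mem v)).2 a ha) (hAX ha)).symm
        neg_mem' := fun {p} hp => by rw [ZModModule.neg_eq_self p]; exact hp }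
  let Qc : Set G := {d | d ∈ X ∧ (∀ x ∈ X, d ∈ cj x M) ∧ (∀ v ∈ V, ⁅d, v⁆ ∈ C) ∧ ∀ z ∈ Z, ⁅d, z⁆ = 1}
  have hQmul : ∀ {d e : G}, d ∈ Qc → e ∈ Qc → d * e ∈ Qc ∧ ∀ v ∈ V, ⁅d * e, v⁆ = ⁅d, v⁆ * ⁅e, v⁆ := by
    rintro d e ⟨hdX, hdc, hdV, hdZ⟩ ⟨heX, hec, heV, heZ⟩
    have hm : ∀ v ∈ V, ⁅d * e, v⁆ = ⁅d, v⁆ * ⁅e, v⁆ := fun v hv =>
      h.mul_comm' heX hv ((heV v hv).2 d hdX) hdX
    exact ⟨⟨mul_mem hdX heX, fun x hx => mul_mem (hdc x hx) (hec x hx),
      fun v hv => by rw [hm v hv]; exact mul_mem (hdV v hv) (heV v hv),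
      fun z hz => by rw [hm z hz.1, hdZ z hz, heZ z hz, mul_one]⟩, hm⟩
  have hQone : (1 : G) ∈ Qc := ⟨one_mem X, fun x _ => one_mem _, fun v _ => by simp, fun z _ => by simp⟩
  let S : Submodule (ZMod 2) (Module.End (ZMod 2) (Additive ↥V)) :=
    AddSubgroup.toZModSubmodule 2
      { carrier := {σ | ∃ d ∈ Qc, σ = δ d}
        zero_mem' := ⟨1, hQone, hδ1.symm⟩
        add_mem' := by
          rintro _ _ ⟨d, hd, rfl⟩ ⟨e, he, rfl⟩
          obtain ⟨hde, hm⟩ := hQmul hd he
          refine ⟨d * e, hde, LinearMap.ext fun v => emb_inj ?_⟩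
          rw [LinearMap.add_apply, emb_add, hδ d hd.1, hδ e he.1, hδ _ hde.1, hm _ (emb_mem v)]
        neg_mem' := fun {σ} hσ => by rw [ZModModule.neg_eq_self σ]; exact hσ }
  have hcontra := Gap.finrank_add_lt (sub Z) (sub C) (fun v hv => mem_sub.mpr (hCZ (mem_sub.mp hv)))
    (by
      intro htop
      refine h.hne fun a ha v hv => ?_
      have h1 : (Additive.ofMul (⟨v, hv⟩ : ↥V)) ∈ sub Z := htop ▸ Submodule.mem_top
      exact ((mem_sub.mp h1).2 a ha).symm)
    (δ b) P S
    (by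
      rintro _ ⟨a, ha, rfl⟩ v
      rw [mem_sub, hδ a (hAX ha)]
      exact hquadA ha (emb_mem v))
    (by
      rintro _ ⟨a, ha, rfl⟩ z hz
      exact hδ0 a (hAX ha) z (hZA ha (mem_sub.mp hz)))
    (fun c hc => hδ0 b hbX c (hfixC hbX (mem_sub.mp hc)))
    (by
      rintro _ ⟨d, hd, rfl⟩ v
      rw [mem_sub, hδ d hd.1]
      exact hd.2.2.1 _ (emb_mem v))
    (by
      rintro _ ⟨d, hd, rfl⟩ z hz
      exact hδ0 d hd.1 z (hd.2.2.2 _ (mem_sub.mp hz)))
    (by
      rintro _ ⟨a, ha, rfl⟩ v hy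
      rw [mem_sub, hδ b hbX, hδ a (hAX ha)] at hy
      by_contra hcon
      push Not at hcon
      obtain ⟨hvZ, hS⟩ := hcon
      have hu := hquadA ha (emb_mem v)
      have h2 := hbZ hu (h.meet ih hno hg hgM hy (h.comm_mem_fixed hg hbA' hu.1))
      have hc := h.core_of_fixed ih hno ha (emb_mem v)
        (fun hvA => hvZ (mem_sub.mpr ⟨emb_mem v, hvA⟩)) h2.2
      exact hS ⟨a, ⟨hAX ha, hc, fun u hu => h.comm_mem_of_core ih hno ha hc hu, fun z hz => hZA ha hz⟩, rfl⟩)
    (by
      rintro _ ⟨a, ha, rfl⟩ v hy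
      rw [ZModModule.sub_eq_add, mem_sub, emb_add, hδ b hbX, hδ a (hAX ha)] at hy
      obtain ⟨z, hz, w, hw, hzw⟩ := h.split ih hno hg hgM (emb_mem v)
      rw [mem_sub]
      by_contra hvZ
      have hwC : w ∉ C := fun hc => hvZ (hzw ▸ mul_mem hz (hCZ hc))
      set v₀ := ⁅a, emb v⁆ with hv₀
      set w' := ⁅b, v₀⁆ with hw'
      have hv₀Z : v₀ ∈ Z := hquadA ha (emb_mem v)
      have hw'Z' : w' ∈ Z' := h.comm_mem_fixed hg hbA' hv₀Z.1
      have hww : w' * w ∈ Z := by
        have : w' * w = w' * emb v * z := by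
          rw [← hzw, mul_assoc, commute_mem h.hV.1 hz.1 hw.1, mul_assoc, h.self_mul hz.1, mul_one]
        rw [this]
        exact mul_mem hy hz
      have hc : w' * w ∈ C := h.meet ih hno hg hgM hww (mul_mem hw'Z' hw)
      have hw'w : w' = w' * w * w := by rw [mul_assoc, h.self_mul hw.1, mul_one]
      have h0 : ⁅a, w⁆ = v₀ := by
        rw [hv₀, ← hzw, h.comm_mul (hAX ha) hz.1 hw.1, hZA ha hz, one_mul]
      have h1 : ⁅a, w'⁆ = v₀ := by
        rw [hw'w, h.comm_mul (hAX ha) hc.1 hw.1, hfixC (hAX ha) hc, one_mul, h0]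
      have hne0 : v₀ ≠ 1 := fun he => hwC (by
        rw [hw', he, commutatorElement_one_right, one_mul] at hc
        exact hc)
      refine hno ⟨a, hAX ha, b, hbX, v₀, hv₀Z.1, w', hw'Z'.1, hne0, hv₀Z.2 a ha, hw'Z'.2 b hbA', ?_, ?_⟩
      · rw [← h1]; simp only [commutatorElement_def]; group
      · rw [hw']; simp only [commutatorElement_def]; group)
    (by
      rintro _ ⟨d, ⟨hdX, hdc, hdV, hdZ⟩, rfl⟩ _ ⟨a, ha, rfl⟩
      have step : ∀ {e c : G}, e ∈ X → c ∈ X → (∀ x ∈ X, e ∈ cj x M) → (∀ v ∈ V, ⁅e, v⁆ ∈ C) →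
          (∀ v ∈ V, ⁅c, ⁅c, v⁆⁆ = 1) →
          (c * e * c⁻¹ * e ∈ X ∧ (∀ x ∈ X, c * e * c⁻¹ * e ∈ cj x M) ∧
            ∀ v ∈ V, ⁅c * e * c⁻¹ * e, v⁆ = ⁅e, ⁅c, v⁆⁆) := by
        intro e c he hc hec heV hcq
        have hcc : c * e * c⁻¹ ∈ X := mul_mem (mul_mem hc he) (inv_mem hc)
        refine ⟨mul_mem hcc he, fun x hx => ?_, fun v hv => ?_⟩
        · refine mul_mem ?_ (hec x hx)
          obtain ⟨m, hm, hme⟩ := hec (c⁻¹ * x) (mul_mem (inv_mem hc) hx)
          refine ⟨m, hm, ?_⟩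
          rw [← hme]; simp only [MulEquiv.coe_toMonoidHom, MulAut.conj_apply]; group
        · have hci := inv_mem hc
          have hv' : c⁻¹ * v * c ∈ V := by simpa using (mem_normalizer_iff.mp (h.hXV hci) v).mp hv
          have hinv : ⁅c⁻¹, v⁆ = ⁅c, v⁆ := by
            have hfix : c * ⁅c, v⁆ = ⁅c, v⁆ * c := commutatorElement_eq_one_iff_mul_comm.mp (hcq v hv)
            rw [show ⁅c⁻¹, v⁆ = c⁻¹ * ⁅c, v⁆⁻¹ * c by simp only [commutatorElement_def]; group,
              h.inv_self (h.comm_mem hc hv), mul_assoc, ← hfix, inv_mul_cancel_left]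
          have h1 : ⁅c * e * c⁻¹, v⁆ = ⁅e, v⁆ * ⁅e, ⁅c, v⁆⁆ := by
            rw [show ⁅c * e * c⁻¹, v⁆ = c * ⁅e, c⁻¹ * v * c⁆ * c⁻¹ by
                simp only [commutatorElement_def]; group,
              (heV _ hv').2 c hc, mul_inv_cancel_right,
              show c⁻¹ * v * c = ⁅c⁻¹, v⁆ * v by simp only [commutatorElement_def]; group, hinv,
              h.comm_mul he (h.comm_mem hc hv) hv]
            exact commute_mem h.hV.1 (h.comm_mem he (h.comm_mem hc hv)) (h.comm_mem he hv)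
          rw [h.mul_comm' he hv ((heV v hv).2 _ hcc) hcc, h1,
            commute_mem h.hV.1 (h.comm_mem he hv) (h.comm_mem he (h.comm_mem hc hv)), mul_assoc,
            h.self_mul (h.comm_mem he hv), mul_one]
      obtain ⟨h1X, h1c, h1⟩ := step hdX hbX hdc hdV fun v hv =>
        commutatorElement_eq_one_iff_mul_comm.mpr ((h.comm_mem_fixed hg hbA' hv).2 b hbA')
      set e₁ := b * d * b⁻¹ * d
      have h1V : ∀ v ∈ V, ⁅e₁, v⁆ ∈ C := fun v hv => by
        rw [h1 v hv]; exact hdV _ (h.comm_mem hbX hv)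
      obtain ⟨h2X, h2c, h2⟩ := step h1X (hAX ha) h1c h1V fun v hv => hZA ha (hquadA ha hv)
      refine ⟨a * e₁ * a⁻¹ * e₁, ⟨h2X, h2c, fun v hv => ?_, fun z hz => ?_⟩,
        LinearMap.ext fun v => emb_inj ?_⟩
      · rw [h2 v hv]; exact h1V _ (h.comm_mem (hAX ha) hv)
      · rw [h2 z hz.1, hZA ha hz, commutatorElement_one_right]
      · rw [LinearMap.comp_apply, LinearMap.comp_apply, hδ d hdX, hδ b hbX, hδ a (hAX ha), hδ _ h2X,
          h2 _ (emb_mem v), h1 _ (h.comm_mem (hAX ha) (emb_mem v))])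
    (by
      intro D hDS hD0 N hZN hN
      -- the elements realising `D`
      let K : Subgroup G :=
        { carrier := {d | d ∈ Qc ∧ δ d ∈ D}
          one_mem' := ⟨hQone, hδ1 ▸ D.zero_mem⟩
          mul_mem' := by
            rintro d e ⟨hd, hdD⟩ ⟨he, heD⟩
            obtain ⟨hde, hm⟩ := hQmul hd he
            refine ⟨hde, ?_⟩
            convert D.add_mem hdD heD
            refine LinearMap.ext fun v => emb_inj ?_
            rw [LinearMap.add_apply, emb_add, hδ d hd.1, hδ e he.1, hδ _ hde.1, hm _ (emb_mem v)]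
          inv_mem' := by
            rintro d ⟨hd, hdD⟩
            have hi : ∀ v ∈ V, ⁅d⁻¹, v⁆ = ⁅d, v⁆ := fun v hv => by
              rw [show ⁅d⁻¹, v⁆ = d⁻¹ * ⁅d, v⁆⁻¹ * d by simp only [commutatorElement_def]; group,
                h.inv_self (h.comm_mem hd.1 hv), (hd.2.2.1 v hv).2 d⁻¹ (inv_mem hd.1),
                inv_mul_cancel_right]
            refine ⟨⟨inv_mem hd.1, fun x hx => inv_mem (hd.2.1 x hx),
              fun v hv => by rw [hi v hv]; exact hd.2.2.1 v hv,
              fun z hz => by rw [hi z hz.1]; exact hd.2.2.2 z hz⟩, ?_⟩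
            convert hdD using 1
            refine LinearMap.ext fun v => emb_inj ?_
            rw [hδ d hd.1, hδ _ (inv_mem hd.1), hi _ (emb_mem v)] }
      obtain ⟨R, -, hRK, hR, hRi⟩ := exists_sylow_above (bot_le : ⊥ ≤ K) IsPGroup.of_bot
      let φ : ↥K →* Multiplicative ↥D := MonoidHom.mk'
        (fun d => Multiplicative.ofAdd (⟨δ d.1, d.2.2⟩ : ↥D)) fun d e => by
          refine congrArg Multiplicative.ofAdd (Subtype.ext (LinearMap.ext fun v => emb_inj ?_))
          show emb (δ (d.1 * e.1) v) = emb (δ d.1 v + δ e.1 v)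
          rw [emb_add, hδ _ d.2.1.1, hδ _ e.2.1.1, hδ _ (mul_mem d.2.1.1 e.2.1.1)]
          exact (hQmul d.2.1 e.2.1).2 _ (emb_mem v)
      have hφ : Function.Surjective φ := fun m => by
        obtain ⟨d, hd, hdm⟩ := hDS (Multiplicative.toAdd m).2
        exact ⟨⟨d, hd, hdm ▸ (Multiplicative.toAdd m).2⟩,
          Multiplicative.toAdd.injective (Subtype.ext hdm.symm)⟩
      haveI : Finite (Module.End (ZMod 2) (Additive ↥V)) :=
        Finite.of_injective (fun f => (f : Additive ↥V → Additive ↥V)) DFunLike.coe_injective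
      have hR2 : (R.subgroupOf K).map φ = ⊤ := by
        rw [← index_eq_one]
        have hd1 : ((R.subgroupOf K).map φ).index ∣ (R.subgroupOf K).index := index_map_dvd _ hφ
        have hd2 : ((R.subgroupOf K).map φ).index ∣ 2 ^ Module.finrank (ZMod 2) ↥D := by
          refine (index_dvd_card _).trans ?_
          rw [Nat.card_congr Multiplicative.toAdd, Module.natCard_eq_pow_finrank (K := ZMod 2), Nat.card_zmod]
        refine Nat.dvd_one.mp ((Nat.dvd_gcd hd1 hd2).trans (dvd_of_eq ?_))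
        refine Nat.Coprime.pow_right _ ?_
        exact (Nat.prime_two.coprime_iff_not_dvd.mpr hRi).symm
      let ψ := φ.comp (R.subgroupOf K).subtype
      have hψ : Function.Surjective ψ := fun m => by
        obtain ⟨d, hd, hdm⟩ := hR2.ge (mem_top m)
        exact ⟨⟨d, hd⟩, hdm⟩
      have hker : Nat.card ↥(R ⊓ centralizer (V : Set G)) ≤ Nat.card ψ.ker := by
        refine Nat.card_le_card_of_injective (fun r => ⟨⟨⟨(r : G), hRK r.2.1⟩, r.2.1⟩, ?_⟩)
          fun r r' hrr => Subtype.ext (congrArg (fun t : ↥ψ.ker => ((t.1.1 : ↥K) : G)) hrr)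
        refine MonoidHom.mem_ker.mpr (Multiplicative.toAdd.injective (Subtype.ext
          (LinearMap.ext fun v => hδ0 _ (hRK r.2.1).1.1 v ?_)))
        exact commutatorElement_eq_one_iff_mul_comm.mpr (r.2.2 _ (emb_mem v)).symm
      have hcard : Nat.card R = Nat.card ↥D * Nat.card ψ.ker := by
        rw [← Nat.card_congr (subgroupOfEquivOfLe hRK).toEquiv, ψ.ker.card_eq_card_quotient_mul_card_subgroup,
          Nat.card_congr (QuotientGroup.quotientKerEquivOfSurjective ψ hψ).toEquiv]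
        rfl
      have hRV : ¬ R ≤ centralizer (V : Set G) := by
        intro hle
        refine hD0 ((Submodule.eq_bot_iff _).mpr fun σ hσ => ?_)
        obtain ⟨d, hd⟩ := hψ (Multiplicative.ofAdd ⟨σ, hσ⟩)
        have hd' : δ ((d.1 : ↥K) : G) = σ :=
          congrArg (fun m : Multiplicative ↥D => (Multiplicative.toAdd m).1) hd
        rw [← hd']
        exact LinearMap.ext fun v => hδ0 _ d.1.2.1.1 v
          (commutatorElement_eq_one_iff_mul_comm.mpr ((hle d.2) _ (emb_mem v)).symm)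
      have hstrict := h.strict_core hR (fun r hr => (hRK hr).1.2.1)
        (fun r hr v hv => ((hRK hr).1.2.2.1 v hv).2) hRV
      have hN' : Nat.card ↥N ≤ Nat.card ↥(V ⊓ centralizer (R : Set G)) := by
        refine Nat.card_le_card_of_injective
          (fun v => ⟨emb v.1, emb_mem v.1, fun r hr => ?_⟩) fun v v' hvv =>
            Subtype.ext (emb_inj (congrArg (fun t : ↥(V ⊓ _) => (t : G)) hvv))
        refine commutatorElement_eq_one_iff_mul_comm.mp ?_
        rw [← hδ r (hRK hr).1.1, hN _ (hRK hr).2 _ v.2]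
        rfl
      have c : ∀ (M : Submodule (ZMod 2) (Additive ↥V)),
          Nat.card ↥M = 2 ^ Module.finrank (ZMod 2) ↥M := fun M => by
        rw [Module.natCard_eq_pow_finrank (K := ZMod 2), Nat.card_zmod]
      have cV : Nat.card V = 2 ^ Module.finrank (ZMod 2) (Additive ↥V) := by
        rw [← Nat.card_congr (Additive.toMul (α := ↥V)), Module.natCard_eq_pow_finrank (K := ZMod 2),
          Nat.card_zmod]
      have cD : Nat.card ↥D = 2 ^ Module.finrank (ZMod 2) ↥D := by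
        rw [Module.natCard_eq_pow_finrank (K := ZMod 2), Nat.card_zmod]
      by_contra hcon
      refine absurd hstrict (not_lt.mpr ?_)
      calc Nat.card V * Nat.card ↥(R ⊓ centralizer (V : Set G))
          ≤ 2 ^ (Module.finrank (ZMod 2) ↥D + Module.finrank (ZMod 2) ↥N) * Nat.card ψ.ker := by
            rw [cV]
            exact Nat.mul_le_mul (Nat.pow_le_pow_right (by norm_num) (not_lt.mp hcon)) hker
        _ = Nat.card R * Nat.card ↥N := by rw [hcard, cD, c, pow_add]; ring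
        _ ≤ _ := Nat.mul_le_mul_left _ hN')
  -- the count
  set B := A ⊓ centralizer (V : Set G) with hB
  haveI : Finite (Module.End (ZMod 2) (Additive ↥V)) :=
    Finite.of_injective (fun f => (f : Additive ↥V → Additive ↥V)) DFunLike.coe_injective
  let Φ : ↥A →* Multiplicative ↥P := MonoidHom.mk'
    (fun a => Multiplicative.ofAdd (⟨δ a.1, a.1, a.2, rfl⟩ : ↥P)) fun a a' => by
      refine congrArg Multiplicative.ofAdd (Subtype.ext (LinearMap.ext fun v => emb_inj ?_))
      show emb (δ (a.1 * a'.1) v) = emb (δ a.1 v + δ a'.1 v)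
      rw [emb_add, hδ _ (hAX a.2), hδ _ (hAX a'.2), hδ _ (hAX (mul_mem a.2 a'.2))]
      exact h.mul_comm' (hAX a'.2) (emb_mem v) ((hquadA a'.2 (emb_mem v)).2 a.1 a.2) (hAX a.2)
  have hAcard : Nat.card A ≤ Nat.card B * Nat.card ↥P := by
    rw [Φ.ker.card_eq_card_quotient_mul_card_subgroup, mul_comm,
      Nat.card_congr (QuotientGroup.quotientKerEquivRange Φ).toEquiv]
    refine Nat.mul_le_mul (Nat.card_le_card_of_injective (fun a => ⟨a.1.1, a.1.2, fun v hv => ?_⟩)
      fun a a' haa => Subtype.ext (Subtype.ext (congrArg (fun t : ↥B => (t : G)) haa))) ?_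
    · have h1 : δ a.1.1 = 0 :=
        congrArg (fun m : Multiplicative ↥P => (Multiplicative.toAdd m).1) (MonoidHom.mem_ker.mp a.2)
      have h2 := hδ a.1.1 (hAX a.1.2) (Additive.ofMul (⟨v, hv⟩ : ↥V))
      rw [h1] at h2
      exact (commutatorElement_eq_one_iff_mul_comm.mp h2.symm).symm
    · rw [← Nat.card_congr (Multiplicative.toAdd (α := ↥P))]
      exact Nat.card_le_card_of_injective _ Subtype.val_injective
  have hoff := h.hbest B inf_le_left
  rw [inf_eq_left.mpr (le_centralizer_iff.mp inf_le_right : V ≤ centralizer (B : Set G)), ← hZ,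
    hsub_card Z inf_le_left, ← Nat.card_congr (Additive.toMul (α := ↥V))] at hoff
  have hfin : Nat.card (Additive ↥V) ≤ Nat.card ↥P * Nat.card ↥(sub Z) := by
    refine Nat.le_of_mul_le_mul_left ?_ (Nat.card_pos (α := B))
    calc Nat.card B * Nat.card (Additive ↥V) ≤ Nat.card A * Nat.card ↥(sub Z) := hoff
      _ ≤ Nat.card B * Nat.card ↥P * Nat.card ↥(sub Z) := Nat.mul_le_mul_right _ hAcard
      _ = _ := mul_assoc _ _ _
  rw [Module.natCard_eq_pow_finrank (K := ZMod 2), Module.natCard_eq_pow_finrank (K := ZMod 2) (V := ↥P),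
    Module.natCard_eq_pow_finrank (K := ZMod 2) (V := ↥(sub Z)), Nat.card_zmod, ← pow_add] at hfin
  exact absurd ((Nat.pow_le_pow_iff_right (by norm_num)).mp hfin) (not_le.mpr hcontra)

end Step

theorem WFF.exists_plane : HasPlane V X := by
  suffices ∀ n, ∀ (V X T A M : Subgroup G), Nat.card X = n → WFF V X T A M W → HasPlane V X from
    this _ V X T A M rfl h
  intro n
  induction n using Nat.strong_induction_on with
  | _ n ihn =>
    intro V X T A M hn h
    by_contra hno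
    exact h.contra (fun V' X' T' A' M' hlt h' => ihn _ (hn ▸ hlt) V' X' T' A' M' rfl h') hno

end Main

end Cfsg.Agent.Offender
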